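import Groth.Agent.PicInf.PicZeroOpen
import Groth.Agent.AgSymm.AlgMul
import Groth.Agent.ClosedRep.GeomIntegral

/-!
Consequences of the group law on classes for `Pic⁰` of a relative curve with a section: connected fibres, quasi-compactness.
-/

set_option autoImplicit false
set_option linter.unusedSectionVars false
set_option linter.style.haveILetI false
set_option backward.isDefEq.respectTransparency false
set_option backward.isDefEq.respectTransparency.types false
set_option maxHeartbeats 1600000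

universe u

open CategoryTheory CategoryTheory.Limits AlgebraicGeometry TopologicalSpace Opposite
open PicF
open Groth.Agent.W7Cube (pull pull_pull pull_cls)

attribute [local instance] Groth.Agent.W7Cube.law

noncomputable section

namespace Groth.Agent.PicInf.PicZeroGroup

/-- Invertible modules on a point are trivial. -/
theorem picSet_point {K : Type u} [Field K] (c : PicLoc.PicSet (Spec (CommRingCat.of K))) : c = 1 := by
  obtain ⟨L, hL, rfl⟩ := PicGrp.exists_eq_cls c
  haveI : Subsingleton (Spec (CommRingCat.of K)) := inferInstanceAs (Subsingleton (PrimeSpectrum K))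
  haveI : Nonempty (Spec (CommRingCat.of K)) := inferInstanceAs (Nonempty (PrimeSpectrum K))
  rw [PicGrp.cls_eq_one_iff]
  exact W7See.nonempty_iso_unit_of_subsingleton hL

/-- The inverse of a module algebraically equivalent to zero is algebraically equivalent to zero. -/
theorem algEquiv_inv {Ω : Type u} [Field Ω] {X : Scheme.{u}} [X.Over (Spec (CommRingCat.of Ω))]
    {L N : X.Modules} {hL : PicF.IsInvertible L} {hN : PicF.IsInvertible N}
    (e : PicGrp.cls N hN = (PicGrp.cls L hL)⁻¹) (h : Pic13.IsAlgEquivZero Ω X L) :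
    Pic13.IsAlgEquivZero Ω X N := by
  obtain ⟨Z, q, hZ, hlft, hqc, M, hM, t, t₀, ht, ht₀, ⟨i⟩, ⟨i₀⟩⟩ := h
  let p : Pic13.prodK Ω X q ⟶ X := pullback.fst _ _
  let m : PicLoc.PicSet (Pic13.prodK Ω X q) := PicGrp.cls M hM * pull p (PicGrp.cls N hN)
  obtain ⟨M', hM', hm⟩ := PicGrp.exists_eq_cls m
  have key : ∀ (s : Spec (CommRingCat.of Ω) ⟶ Z) (hs : s ≫ q = 𝟙 _) (A : X.Modules) (hA : PicF.IsInvertible A),
      (Pic13.fibreMod Ω X q s hs M ≅ A) →
      pull (Pic13.sliceAt Ω X q s hs) (PicGrp.cls M' hM') = PicGrp.cls A hA * (PicGrp.cls L hL)⁻¹ := by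
    intro s hs A hA j
    rw [← hm, map_mul, pull_pull, show Pic13.sliceAt Ω X q s hs ≫ p = 𝟙 X from pullback.lift_fst _ _ _, e]
    congr 1
    · rw [pull_cls, PicGrp.cls_eq_cls_iff]
      exact ⟨j⟩
    · exact PicGrp.pullHom_id_apply _ _
  have e1 := key t ht L hL i
  rw [mul_inv_cancel, pull_cls, PicGrp.cls_eq_one_iff] at e1
  have e0 := key t₀ ht₀ (Coh.structureModule X) (PicLoc.isInvertible_structureModule _) i₀
  rw [show PicGrp.cls (Coh.structureModule X) (PicLoc.isInvertible_structureModule _) = (1 : PicLoc.PicSet X) from rfl,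
    one_mul, ← e, pull_cls, PicGrp.cls_eq_cls_iff] at e0
  exact ⟨Z, q, hZ, hlft, hqc, M', hM', t₀, t, ht₀, ht, e0, e1⟩

/-- `Pic⁰` is closed under inverses. -/
theorem picZero_inv {X S : Scheme.{u}} (f : X ⟶ S) {T : Over S} {c : PicLoc.PicSet (XT f T)}
    (hc : AbDual.IsPicZeroCl f T c.1) : AbDual.IsPicZeroCl f T (c⁻¹).1 := by
  obtain ⟨L, he, hL, hLt⟩ := hc
  obtain rfl : c = PicGrp.cls L hL := Subtype.ext he.symm
  obtain ⟨N, hN, hN'⟩ := PicGrp.exists_eq_cls (PicGrp.cls L hL)⁻¹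
  refine ⟨N, (congrArg Subtype.val hN').symm, hN, fun t Ω _ _ σ hσ => ?_⟩
  letI : (pullback (XTproj f T) σ).Over (Spec (CommRingCat.of Ω)) := ⟨pullback.snd _ _⟩
  refine algEquiv_inv (hL := PicLoc.isInvertible_pullback _ hL) (hN := PicLoc.isInvertible_pullback _ hN) ?_
    (hLt t Ω σ hσ)
  rw [← pull_cls _ _ hN, ← pull_cls _ _ hL, ← hN', map_inv]

/-- A smooth connected scheme over a field is irreducible. -/
theorem irreducibleSpace_of_smooth {Ω : Type u} [Field Ω] {Z : Scheme.{u}} (q : Z ⟶ Spec (CommRingCat.of Ω))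
    [Smooth q] [ConnectedSpace Z] : IrreducibleSpace Z := by
  have : IsLocallyNoetherian Z := LocallyOfFiniteType.isLocallyNoetherian q
  refine GrpField.irreducibleSpace_of_nhds fun z => ?_
  have := SmLocalST.isRegularLocalRing_stalk_of_smooth_field q z
  have : IsDomain (Z.presheaf.stalk z) := Groth.Agent.S0558.result _
  obtain ⟨U, hzU, hU⟩ := Groth.Agent.S2258.result Z z (by
    rw [nilradical_eq_zero]; exact Ideal.isPrime_bot)
  exact ⟨U, U.2, hU, hzU⟩

section Section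

variable {X S : Scheme.{u}} (f : X ⟶ S) (σ : S ⟶ X) (hσ : σ ≫ f = 𝟙 S)
  (ha : ∀ (T : Over S) (U : T.left.Opens), IsIso ((PicF.XTproj f T).app U))
  {P : Over S} {φ : ∀ T : Over S, PicF.Cl (PicF.XT f T) → (T ⟶ P)}
  (hP : AbDual.IsRelPicZeroK Scheme.fppfPrecoverage f P φ)

include hσ ha hP in
/-- The class of a point. -/
theorem exists_classes : ∃ cl : ∀ {T : Over S}, (T ⟶ P) → PicLoc.PicSet (XT f T),
    (∀ {T : Over S} (g : T ⟶ P), AbDual.IsPicZeroCl f T (cl g).1 ∧ φ T (cl g).1 = g ∧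
      pull (secT f σ hσ T) (cl g) = 1) ∧
    (∀ {T : Over S} (z : PicLoc.PicSet (XT f T)), AbDual.IsPicZeroCl f T z.1 → pull (secT f σ hσ T) z = 1 →
      cl (φ T z.1) = z) ∧
    (∀ {T T' : Over S} (h : T' ⟶ T) (g : T ⟶ P), pull (XTmap f h) (cl g) = cl (h ≫ g)) := by
  choose cl h0 h1 h2 using fun (T : Over S) (g : T ⟶ P) => PicZeroCurve.exists_rig f σ hσ ha hP T g
  refine ⟨fun {T} g => cl T g, fun {T} g => ⟨h0 T g, h2 T g, h1 T g⟩, fun {T} z hz hz1 =>
    LBDesc.rig_ext f σ hσ ha hP (h0 _ _) hz (h1 _ _) hz1 (h2 _ _), fun {T T'} h g => ?_⟩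
  refine LBDesc.rig_ext f σ hσ ha hP (LBDesc.picZero_XTmap f h (h0 T g)) (h0 _ _) ?_ (h1 _ _) ?_
  · rw [pull_pull, S12403.secT_nat, ← pull_pull, h1, map_one]
  · rw [h2]
    exact (hP.natural T T' h _ (h0 T g)).trans (congrArg (h ≫ ·) (h2 T g))

theorem picZero_one (T : Over S) : AbDual.IsPicZeroCl f T (1 : PicLoc.PicSet (XT f T)).1 :=
  AbPrim.picZero_one (A := Over.mk f)

include hσ ha hP in
/-- **`Pic⁰` with connected geometric fibres is quasi-compact over an affine base.** -/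
theorem compactSpace_of_affine [IsAffine S] [Smooth P.hom] [IsSeparated P.hom]
    (hconn : ∀ (Ω : Type u) [Field Ω] [IsAlgClosed Ω] (τ : Spec (CommRingCat.of Ω) ⟶ S),
      ConnectedSpace ↥(pullback P.hom τ)) : CompactSpace P.left := by
  obtain ⟨cl, hcl, heq, hnat⟩ := exists_classes f σ hσ ha hP
  let S₁ : Over S := Over.mk (𝟙 S)
  let e₀ : S₁ ⟶ P := φ S₁ (1 : PicLoc.PicSet (XT f S₁)).1
  have hK : IsCompact (Set.range e₀.left) := by
    haveI : CompactSpace S₁.left := inferInstanceAs (CompactSpace S)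
    exact isCompact_range e₀.left.continuous
  obtain ⟨U, hU, heU⟩ : ∃ U : P.left.Opens, IsCompact (U : Set P.left) ∧ Set.range e₀.left ⊆ U := by
    choose W hW hxW _ using fun x : P.left =>
      exists_isAffineOpen_mem_and_subset (X := P.left) (x := x) (U := ⊤) trivial
    obtain ⟨t, ht⟩ := hK.elim_finite_subcover (fun x => (W x : Set P.left)) (fun x => (W x).2)
      (fun x _ => Set.mem_iUnion.2 ⟨x, hxW x⟩)
    refine ⟨⟨⋃ x ∈ t, (W x : Set P.left), isOpen_biUnion fun x _ => (W x).2⟩, ?_, ht⟩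
    exact t.isCompact_biUnion fun x _ => (hW x).isCompact
  let pU : (U : Scheme.{u}) ⟶ S := U.ι ≫ P.hom
  haveI : CompactSpace (U : Scheme.{u}) := isCompact_iff_compactSpace.1 hU
  haveI : QuasiCompact pU := inferInstance
  haveI : QuasiCompact (pullback.fst pU pU) := inferInstance
  haveI : CompactSpace ↥(pullback pU pU) := QuasiCompact.compactSpace_of_compactSpace (pullback.fst pU pU)
  let T : Over S := Over.mk (pullback.fst pU pU ≫ pU)
  let a₁ : T ⟶ P := Over.homMk (pullback.fst pU pU ≫ U.ι) (Category.assoc _ _ _)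
  let a₂ : T ⟶ P := Over.homMk (pullback.snd pU pU ≫ U.ι) ((Category.assoc _ _ _).trans pullback.condition.symm)
  let m : T ⟶ P := φ T (cl a₁ * cl a₂).1
  suffices hm : Function.Surjective m.left by
    haveI : CompactSpace T.left := inferInstanceAs (CompactSpace ↥(pullback pU pU))
    exact hm.compactSpace m.left.continuous
  intro x
  obtain ⟨Ω, _, _, σx, y, rfl⟩ := AbelMap.exists_geomPt P.left x
  haveI : Subsingleton (Spec (CommRingCat.of Ω)) := inferInstanceAs (Subsingleton (PrimeSpectrum Ω))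
  let τ : Spec (CommRingCat.of Ω) ⟶ S := σx ≫ P.hom
  let Tτ : Over S := Over.mk τ
  let q : Tτ ⟶ P := Over.homMk σx rfl
  let z : Tτ ⟶ P := (Over.homMk τ (Category.comp_id τ) : Tτ ⟶ S₁) ≫ e₀
  have hrig : ∀ c : PicLoc.PicSet (XT f Tτ), pull (secT f σ hσ Tτ) c = 1 := fun c => picSet_point _
  have hz1 : cl z = 1 := by
    rw [← heq 1 (picZero_one f Tτ) (hrig 1)]
    congr 1
    refine Eq.trans ?_ (congrArg (φ Tτ) (congrArg Subtype.val
      (map_one (pull (XTmap f (Over.homMk τ (Category.comp_id τ) : Tτ ⟶ S₁))))))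
    exact (hP.natural S₁ Tτ _ _ (picZero_one f S₁)).symm
  let TK : Over S := Over.mk (pullback.fst P.hom τ ≫ P.hom)
  let pr : TK ⟶ P := Over.homMk (pullback.fst P.hom τ) rfl
  let pb : TK ⟶ Tτ := Over.homMk (pullback.snd P.hom τ) pullback.condition.symm
  let ν : TK ⟶ P := φ TK (cl (pb ≫ q) * (cl pr)⁻¹).1
  have hc' : AbDual.IsPicZeroCl f TK (cl (pb ≫ q) * (cl pr)⁻¹).1 :=
    AgSymm.picZero_mul (A := Over.mk f) (hcl _).1 (picZero_inv f (hcl _).1)
  have hν : ∀ a : Tτ ⟶ P, ∃ s : Tτ ⟶ TK, s ≫ pr = a ∧ s ≫ pb = 𝟙 Tτ ∧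
      cl (s ≫ ν) = cl q * (cl a)⁻¹ := by
    intro a
    let s : Tτ ⟶ TK := Over.homMk (pullback.lift a.left (𝟙 _) (by rw [Over.w a]; exact (Category.id_comp τ).symm)) (by
      show pullback.lift _ _ _ ≫ pullback.fst P.hom τ ≫ P.hom = τ
      rw [pullback.lift_fst_assoc]
      exact Over.w a)
    have hs1 : s ≫ pr = a := Over.OverMorphism.ext (pullback.lift_fst _ _ _)
    have hs2 : s ≫ pb = 𝟙 Tτ := Over.OverMorphism.ext (pullback.lift_snd _ _ _)
    refine ⟨s, hs1, hs2, ?_⟩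
    have h1 : pull (XTmap f s) (cl (pb ≫ q) * (cl pr)⁻¹) = cl q * (cl a)⁻¹ := by
      rw [map_mul, map_inv, hnat, hnat, hs1, ← Category.assoc, hs2, Category.id_comp]
    rw [← h1]
    refine (congrArg cl (hP.natural TK Tτ s _ hc').symm).trans ?_
    exact heq (pull (XTmap f s) _) (LBDesc.picZero_XTmap f s hc') (hrig _)
  have hzU : z.left y ∈ U := heU ⟨τ y, rfl⟩
  obtain ⟨sz, hsz, -, -⟩ := hν z
  obtain ⟨sq, -, -, hsq⟩ := hν q
  rw [mul_inv_cancel, ← hz1] at hsq
  have hsq' : sq ≫ ν = z := by rw [← (hcl (sq ≫ ν)).2.1, hsq, (hcl z).2.1]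
  let O₁ : (pullback P.hom τ).Opens := pullback.fst P.hom τ ⁻¹ᵁ U
  let O₂ : (pullback P.hom τ).Opens := ν.left ⁻¹ᵁ U
  have hO₁ : sz.left y ∈ O₁ := by
    show (sz ≫ pr).left y ∈ U
    rw [hsz]
    exact hzU
  have hO₂ : sq.left y ∈ O₂ := by
    show (sq ≫ ν).left y ∈ U
    rw [hsq']
    exact hzU
  haveI : Smooth (pullback.snd P.hom τ) := inferInstance
  haveI := hconn Ω τ
  haveI := irreducibleSpace_of_smooth (pullback.snd P.hom τ)
  have hne : ((O₁ : Set ↥(pullback P.hom τ)) ∩ (O₂ : Set ↥(pullback P.hom τ))).Nonempty :=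
    nonempty_preirreducible_inter O₁.2 O₂.2 ⟨_, hO₁⟩ ⟨_, hO₂⟩
  haveI : JacobsonSpace ↥(pullback P.hom τ) := LocallyOfFiniteType.jacobsonSpace (pullback.snd P.hom τ)
  obtain ⟨p, hpO, hp⟩ := nonempty_inter_closedPoints hne (O₁.2.inter O₂.2).isLocallyClosed
  let pt := pointOfClosedPoint (pullback.snd P.hom τ) p hp
  have hpt : pt ≫ pullback.snd P.hom τ = 𝟙 _ := pointOfClosedPoint_comp _ p hp
  let a : Tτ ⟶ P := Over.homMk (pt ≫ pullback.fst P.hom τ) (by
    show (pt ≫ pullback.fst P.hom τ) ≫ P.hom = τ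
    rw [Category.assoc, pullback.condition, reassoc_of% hpt])
  obtain ⟨sa, hsa, hsa', hb⟩ := hν a
  have hpsa : ∀ v, sa.left v = p := fun v => by
    have e : sa.left = pt := pullback.hom_ext (congrArg CommaMorphism.left hsa)
      ((congrArg CommaMorphism.left hsa').trans hpt.symm)
    rw [e]
    exact pointOfClosedPoint_apply _ p hp v
  have haU : Set.range a.left ⊆ Set.range U.ι := by
    rintro _ ⟨v, rfl⟩
    rw [Scheme.Opens.range_ι, ← hsa]
    show pullback.fst P.hom τ (sa.left v) ∈ U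
    rw [hpsa]
    exact hpO.1
  have hbU : Set.range (sa ≫ ν).left ⊆ Set.range U.ι := by
    rintro _ ⟨v, rfl⟩
    rw [Scheme.Opens.range_ι]
    show ν.left (sa.left v) ∈ U
    rw [hpsa]
    exact hpO.2
  let a' := IsOpenImmersion.lift U.ι a.left haU
  let b' := IsOpenImmersion.lift U.ι (sa ≫ ν).left hbU
  have hw : a' ≫ pU = b' ≫ pU := by
    simp only [pU, a', b', IsOpenImmersion.lift_fac_assoc]
    exact (Over.w a).trans (Over.w (sa ≫ ν)).symm
  let r : Tτ ⟶ T := Over.homMk (pullback.lift a' b' hw) (by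
    show pullback.lift a' b' hw ≫ pullback.fst pU pU ≫ pU = τ
    rw [pullback.lift_fst_assoc]
    simp only [pU, a', IsOpenImmersion.lift_fac_assoc]
    exact Over.w a)
  have hr1 : r ≫ a₁ = a := Over.OverMorphism.ext
    ((pullback.lift_fst_assoc a' b' hw U.ι).trans (IsOpenImmersion.lift_fac _ _ _))
  have hr2 : r ≫ a₂ = sa ≫ ν := Over.OverMorphism.ext
    ((pullback.lift_snd_assoc a' b' hw U.ι).trans (IsOpenImmersion.lift_fac _ _ _))
  have hrm : r ≫ m = q := by
    have h0 : AbDual.IsPicZeroCl f T (cl a₁ * cl a₂).1 := AgSymm.picZero_mul (A := Over.mk f) (hcl _).1 (hcl _).1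
    rw [← (hcl q).2.1, show cl q = pull (XTmap f r) (cl a₁ * cl a₂) by
      rw [map_mul, hnat, hnat, hr1, hr2, hb, mul_comm, mul_assoc, inv_mul_cancel, mul_one]]
    exact (hP.natural T Tτ r _ h0).symm
  exact ⟨r.left y, congrArg (fun g : Tτ ⟶ P => g.left.base y) hrm⟩

end Section

section Field

variable {K : Type u} [Field K] [IsAlgClosed K] {X : Scheme.{u}} (f : X ⟶ Spec (CommRingCat.of K))
  [IsProper f] [Smooth f] [GeometricallyConnected f] (hdim : ∀ s, topologicalKrullDim ↥(f.fiber s) = 1)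
  {P : Over (Spec (CommRingCat.of K))} {φ : ∀ T, PicF.Cl (PicF.XT f T) → (T ⟶ P)}
  (hP : AbDual.IsRelPicZeroK Scheme.fppfPrecoverage f P φ)

include hdim hP in
/-- **`Pic⁰` over an algebraically closed field is connected.** -/
theorem connectedSpace_of_section (σ : Spec (CommRingCat.of K) ⟶ X) (hσ : σ ≫ f = 𝟙 _)
    [LocallyOfFiniteType P.hom] : ConnectedSpace P.left := by
  obtain ⟨cl, hcl, heq, hnat⟩ := exists_classes f σ hσ (LBDesc.isIso_XTproj_app f σ hσ) hP
  let T₀ : Over (Spec (CommRingCat.of K)) := Over.mk (𝟙 _)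
  let o : T₀ ⟶ P := φ T₀ (1 : PicLoc.PicSet (XT f T₀)).1
  let y : Spec (CommRingCat.of K) := IsLocalRing.closedPoint K
  haveI : Subsingleton (Spec (CommRingCat.of K)) := inferInstanceAs (Subsingleton (PrimeSpectrum K))
  haveI : Subsingleton T₀.left := ‹Subsingleton (Spec (CommRingCat.of K))›
  haveI : JacobsonSpace P.left := LocallyOfFiniteType.jacobsonSpace P.hom
  have key : ∀ p : P.left, IsClosed ({p} : Set P.left) → p ∈ connectedComponent (o.left y) := by
    intro p hp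
    let q : T₀ ⟶ P := Over.homMk (pointOfClosedPoint P.hom p hp) (pointOfClosedPoint_comp _ p hp)
    obtain ⟨hq0, hqφ, -⟩ := hcl q
    obtain ⟨L, heL, hL, hLt⟩ := hq0
    have hLq : PicGrp.cls L hL = cl q := Subtype.ext heL
    letI : (pullback (XTproj f T₀) (𝟙 (Spec (CommRingCat.of K)))).Over (Spec (CommRingCat.of K)) :=
      ⟨pullback.snd _ _⟩
    obtain ⟨Z, qZ, hZ, hlft, -, M, hM, t, t₀, ht, ht₀, ⟨it⟩, ⟨it₀⟩⟩ := hLt y K (𝟙 _)
      (Set.eq_singleton_iff_unique_mem.2 ⟨⟨y, rfl⟩, fun w _ => Subsingleton.elim (α := Spec (CommRingCat.of K)) w y⟩)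
    let TZ : Over (Spec (CommRingCat.of K)) := Over.mk qZ
    let k₁ : XT f TZ ⟶ XT f T₀ := pullback.lift (pullback.fst f TZ.hom) (pullback.snd f TZ.hom ≫ qZ)
      (pullback.condition.trans (Category.comp_id _).symm)
    have hk₁ : k₁ ≫ XTproj f T₀ = pullback.snd f TZ.hom ≫ qZ := pullback.lift_snd _ _ _
    have hk₁' : k₁ ≫ pullback.fst f T₀.hom = pullback.fst f TZ.hom := pullback.lift_fst _ _ _
    let k₂ : XT f TZ ⟶ pullback (XTproj f T₀) (𝟙 (Spec (CommRingCat.of K))) :=
      pullback.lift k₁ (pullback.snd f TZ.hom ≫ qZ) (hk₁.trans (Category.comp_id _).symm)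
    have hk₂ : k₂ ≫ pullback.snd _ _ = pullback.snd f TZ.hom ≫ qZ := pullback.lift_snd _ _ _
    have hk₂' : k₂ ≫ pullback.fst _ _ = k₁ := pullback.lift_fst _ _ _
    let k : XT f TZ ⟶ Pic13.prodK K (pullback (XTproj f T₀) (𝟙 (Spec (CommRingCat.of K)))) qZ :=
      pullback.lift k₂ (pullback.snd f TZ.hom) hk₂
    let i : XT f T₀ ⟶ pullback (XTproj f T₀) (𝟙 (Spec (CommRingCat.of K))) :=
      pullback.lift (𝟙 _) (XTproj f T₀) ((Category.id_comp _).trans (Category.comp_id _).symm)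
    obtain ⟨M₀, hM₀, hM₀e⟩ := PicGrp.exists_eq_cls (pull k (PicGrp.cls M hM))
    let m₀ := PicGrp.cls M₀ hM₀
    have hsl : ∀ (t : Spec (CommRingCat.of K) ⟶ Z) (ht : t ≫ qZ = 𝟙 _),
        pull (XTmap f (Over.homMk t ht : T₀ ⟶ TZ)) m₀ =
          pull i (pull (Pic13.sliceAt K _ qZ t ht) (PicGrp.cls M hM)) := by
      intro t ht
      rw [show m₀ = pull k (PicGrp.cls M hM) from hM₀e.symm, pull_pull, pull_pull]
      refine congrArg (fun a => pull a (PicGrp.cls M hM)) ?_
      have hs1 : Pic13.sliceAt K (pullback (XTproj f T₀) (𝟙 (Spec (CommRingCat.of K)))) qZ t ht ≫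
          pullback.fst _ _ = 𝟙 _ := pullback.lift_fst _ _ _
      have hs2 : Pic13.sliceAt K (pullback (XTproj f T₀) (𝟙 (Spec (CommRingCat.of K)))) qZ t ht ≫
          pullback.snd _ _ = pullback.snd (XTproj f T₀) (𝟙 (Spec (CommRingCat.of K))) ≫ t := pullback.lift_snd _ _ _
      have hi1 : i ≫ pullback.fst _ _ = 𝟙 _ := pullback.lift_fst _ _ _
      have hi2 : i ≫ pullback.snd _ _ = XTproj f T₀ := pullback.lift_snd _ _ _
      have hm1 : XTmap f (Over.homMk t ht : T₀ ⟶ TZ) ≫ pullback.fst f TZ.hom = pullback.fst f T₀.hom :=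
        PicRelBC.XTmap_fst f _
      have hm2 : XTmap f (Over.homMk t ht : T₀ ⟶ TZ) ≫ pullback.snd f TZ.hom = XTproj f T₀ ≫ t :=
        PicRelBC.XTmap_snd f _
      have hk1 : k ≫ pullback.fst _ _ = k₂ := pullback.lift_fst _ _ _
      have hk2 : k ≫ pullback.snd _ _ = pullback.snd f TZ.hom := pullback.lift_snd _ _ _
      have hd : XTproj f T₀ ≫ t ≫ qZ = XTproj f T₀ := (congrArg (_ ≫ ·) ht).trans (Category.comp_id _)
      have hi : i ≫ 𝟙 _ = i := Category.comp_id i
      apply pullback.hom_ext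
      · rw [Category.assoc, Category.assoc, hk1, hs1, hi]
        apply pullback.hom_ext
        · rw [Category.assoc, hk₂', hi1]
          apply pullback.hom_ext
          · rw [Category.assoc, hk₁', hm1, Category.id_comp]
          · refine (Category.assoc _ _ _).trans ?_
            rw [Category.id_comp]
            exact (congrArg (_ ≫ ·) hk₁).trans (((reassoc_of% hm2) qZ).trans hd)
        · rw [Category.assoc, hk₂, hi2]
          exact ((reassoc_of% hm2) qZ).trans hd
      · rw [Category.assoc, Category.assoc, hk2, hm2, hs2, reassoc_of% hi2]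
    have h1 : pull (XTmap f (Over.homMk t ht : T₀ ⟶ TZ)) m₀ = cl q := by
      refine (hsl t ht).trans ((congrArg (pull i) ((pull_cls _ _ hM).trans
        ((PicGrp.cls_eq_cls_iff _ (PicLoc.isInvertible_pullback _ hL)).2 ⟨it⟩))).trans ?_)
      rw [← pull_cls _ _ hL, pull_pull, show i ≫ pullback.fst _ _ = 𝟙 _ from pullback.lift_fst _ _ _, ← hLq]
      exact PicGrp.pullHom_id_apply _ _
    have h2 : pull (XTmap f (Over.homMk t₀ ht₀ : T₀ ⟶ TZ)) m₀ = 1 :=
      (hsl t₀ ht₀).trans ((congrArg (pull i) ((pull_cls _ _ hM).trans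
        ((PicGrp.cls_eq_one_iff _).2 ⟨it₀⟩))).trans (map_one _))
    haveI := hZ
    haveI : PreconnectedSpace ↥TZ.left := inferInstanceAs (PreconnectedSpace Z)
    have hm0 : AbDual.IsPicZeroCl f TZ m₀.1 := by
      refine (PicZeroOpen.picZero_iff_delta f hdim TZ hM₀).2 fun z => ?_
      rw [(PicSmooth.isLocallyConstant_delta f TZ hM₀).apply_eq_of_preconnectedSpace z (t₀ y)]
      refine (PicSmooth.delta_pull f (Over.homMk t₀ ht₀ : T₀ ⟶ TZ) hM₀ y).symm.trans ?_
      refine (PicZeroOpen.picZero_iff_delta f hdim T₀ (PicLoc.isInvertible_pullback _ hM₀)).1 ?_ y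
      exact (congrArg (fun c : PicLoc.PicSet (XT f T₀) => AbDual.IsPicZeroCl f T₀ c.1) h2).mpr (picZero_one f T₀)
    let x := m₀ * pull (XTproj f TZ) (pull (secT f σ hσ TZ) m₀)⁻¹
    have hx0 : AbDual.IsPicZeroCl f TZ x.1 := PicZeroCurve.picZero_mul_base f hm0 _
    let g : TZ ⟶ P := φ TZ x.1
    have hg : ∀ (s : T₀ ⟶ TZ), s ≫ g = φ T₀ (pull (XTmap f s) m₀).1 := by
      intro s
      have hx : pull (XTmap f s) x = pull (XTmap f s) m₀ := ?_
      · rw [← hx]
        exact (hP.natural TZ T₀ s x.1 hx0).symm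
      show pull (XTmap f s) x = pull (XTmap f s) m₀
      rw [map_mul, pull_pull _ (XTproj f TZ),
        show XTmap f s ≫ XTproj f TZ = XTproj f T₀ ≫ s.left from PicRelBC.XTmap_snd f s, ← pull_pull,
        picSet_point (pull s.left _), map_one, mul_one]
    have e1 := congrArg (fun a : T₀ ⟶ P => a.left.base y) (hg (Over.homMk t ht))
    have e2 := congrArg (fun a : T₀ ⟶ P => a.left.base y) (hg (Over.homMk t₀ ht₀))
    rw [h1, hqφ] at e1
    rw [h2] at e2
    have hp' : q.left y = p := pointOfClosedPoint_apply _ p hp y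
    rw [← hp']
    exact (isPreconnected_range g.left.continuous).subset_connectedComponent
      ⟨t₀ y, e2⟩ ⟨t y, e1⟩
  haveI : Nonempty P.left := ⟨o.left y⟩
  refine connectedSpace_iff_connectedComponent.2 ⟨o.left y, Set.eq_univ_of_forall fun w => ?_⟩
  obtain ⟨p, hp, hpc⟩ := nonempty_inter_closedPoints (Z := closure ({w} : Set P.left))
    ⟨w, subset_closure rfl⟩ isClosed_closure.isLocallyClosed
  have hpw : p ∈ connectedComponent w :=
    closure_minimal (Set.singleton_subset_iff.2 mem_connectedComponent) isClosed_connectedComponent hp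
  rw [connectedComponent_eq (key p hpc), ← connectedComponent_eq hpw]
  exact mem_connectedComponent

end Field

end Groth.Agent.PicInf.PicZeroGroup
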