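import Groth.Agent.PicInf.PicZeroGroup
import Groth.Agent.ClosedRep.Over

/-!
A representing scheme of `Pic⁰` of a family with a section is a group scheme.
-/

set_option autoImplicit false
set_option linter.unusedSectionVars false
set_option linter.style.haveILetI false
set_option backward.isDefEq.respectTransparency false
set_option backward.isDefEq.respectTransparency.types false
set_option maxHeartbeats 1600000

universe u

open CategoryTheory CategoryTheory.Limits AlgebraicGeometry Opposite
open PicF
open Groth.Agent.W7Cube (pull pull_pull pull_cls)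

attribute [local instance] Groth.Agent.W7Cube.law

noncomputable section

namespace Groth.Agent.PicInf.PicZeroGrp

variable {X S : Scheme.{u}} (f : X ⟶ S) (σ : S ⟶ X) (hσ : σ ≫ f = 𝟙 S)

/-- The rigidified classes in `Pic⁰`. -/
def rigZero (T : Over S) : Subgroup (PicLoc.PicSet (XT f T)) where
  carrier := {c | AbDual.IsPicZeroCl f T c.1 ∧ pull (secT f σ hσ T) c = 1}
  mul_mem' := fun {a b} ha hb =>
    ⟨AgSymm.picZero_mul (A := Over.mk f) ha.1 hb.1, by rw [map_mul, ha.2, hb.2, one_mul]⟩
  one_mem' := ⟨PicZeroGroup.picZero_one f T, map_one _⟩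
  inv_mem' := fun {a} ha => ⟨PicZeroGroup.picZero_inv f ha.1, by rw [map_inv, ha.2, inv_one]⟩

variable (ha : ∀ (T : Over S) (U : T.left.Opens), IsIso ((PicF.XTproj f T).app U))
  {P : Over S} {φ : ∀ T : Over S, PicF.Cl (PicF.XT f T) → (T ⟶ P)}
  (hP : AbDual.IsRelPicZeroK Scheme.fppfPrecoverage f P φ)

include σ hσ ha hP in
/-- **A group structure with multiplication given by tensor product of classes.** -/
theorem exists_grpObj : Nonempty (GrpObj P) := by
  obtain ⟨cl, hcl, heq, hnat⟩ := PicZeroGroup.exists_classes f σ hσ ha hP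
  let e : ∀ T : Over S, (T ⟶ P) ≃ rigZero f σ hσ T := fun T =>
    { toFun := fun g => ⟨cl g, (hcl g).1, (hcl g).2.2⟩
      invFun := fun c => φ T c.1.1
      left_inv := fun g => (hcl g).2.1
      right_inv := fun c => Subtype.ext (heq c.1 c.2.1 c.2.2) }
  let G : ∀ T : Over S, Group (T ⟶ P) := fun T => (e T).group
  let F : (Over S)ᵒᵖ ⥤ GrpCat.{u} :=
    { obj := fun T => @GrpCat.of (T.unop ⟶ P) (G T.unop)
      map := fun {T T'} h =>
        letI := G T.unop
        letI := G T'.unop
        GrpCat.ofHom (MonoidHom.mk' (fun g => h.unop ≫ g) fun a b => (e T'.unop).injective (by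
          have hmul : ∀ (U : Over S) (p q : U ⟶ P), letI := G U; e U (p * q) = e U p * e U q := fun U p q =>
            (e U).apply_symm_apply _
          rw [hmul]
          refine Subtype.ext ?_
          show cl (h.unop ≫ (a * b)) = cl (h.unop ≫ a) * cl (h.unop ≫ b)
          rw [← hnat, ← hnat, ← hnat]
          exact (congrArg (fun c : rigZero f σ hσ T.unop => pull (XTmap f h.unop) c.1) (hmul T.unop a b)).trans
            (map_mul _ _ _)))
      map_id := fun T => by
        letI := G T.unop
        exact GrpCat.hom_ext (MonoidHom.ext fun g => Category.id_comp g)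
      map_comp := fun {T T' T''} a b => by
        letI := G T.unop
        exact GrpCat.hom_ext (MonoidHom.ext fun g => Category.assoc b.unop a.unop g) }
  exact ⟨GrpObj.ofRepresentableBy P F
    { homEquiv := fun {T} => Equiv.refl _
      homEquiv_comp := fun {T T'} h g => rfl }⟩

/-- `Pic⁰` over a field is separated. -/
theorem isSeparated_of_field {K : Type u} [Field K] {X : Scheme.{u}} (f : X ⟶ Spec (CommRingCat.of K))
    (σ : Spec (CommRingCat.of K) ⟶ X) (hσ : σ ≫ f = 𝟙 _)
    (ha : ∀ (T : Over (Spec (CommRingCat.of K))) (U : T.left.Opens), IsIso ((PicF.XTproj f T).app U))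
    {P : Over (Spec (CommRingCat.of K))} {φ : ∀ T, PicF.Cl (PicF.XT f T) → (T ⟶ P)}
    (hP : AbDual.IsRelPicZeroK Scheme.fppfPrecoverage f P φ) : IsSeparated P.hom := by
  obtain ⟨G⟩ := exists_grpObj f σ hσ ha hP
  exact @ClosedRep.isSeparated_of_field K _ P G

end Groth.Agent.PicInf.PicZeroGrp
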