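import Groth.Agent.PicInf.Tangent
import Groth.Agent.W7Cech.BCLin
import Groth.Agent.W7Cech.FibreAffine
import Groth.Agent.FreeLite.Basic
import Groth.Agent.QuotInf.DerDual
import Groth.Agent.GeomProp.BCStalk

/-!
The dimension of the tangent space of the Picard scheme at the origin.
-/

set_option autoImplicit false
set_option linter.unusedSectionVars false
set_option linter.style.haveILetI false
set_option backward.isDefEq.respectTransparency false
set_option backward.isDefEq.respectTransparency.types false
set_option maxHeartbeats 1000000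

universe u

open CategoryTheory CategoryTheory.Limits AlgebraicGeometry Opposite
open Groth.Agent.ExpSeq (Xε sect)
open Groth.Agent.W7Cube (pull pull_pull)
open IsLocalRing (closedPoint)
open scoped TensorProduct

attribute [local instance] Groth.Agent.W7Cube.law

noncomputable section

namespace Groth.Agent.PicInf

theorem nonempty_hh_XK {k : Type u} [Field k] (X : Scheme.{u}) [X.Over (Spec (CommRingCat.of k))]
    [IsProper (X ↘ Spec (CommRingCat.of k))] (K : Type u) [Field K] [Algebra k K] (q : ℕ) :
    Nonempty (Coh.HH (XK (k := k) (X ↘ Spec (CommRingCat.of k)) K) (Coh.structureModule _) q ≃ₗ[K]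
      K ⊗[k] Coh.HH X (Coh.structureModule X) q) := by
  haveI : CompactSpace X := QuasiCompact.compactSpace_of_compactSpace (X ↘ Spec (CommRingCat.of k))
  haveI : X.IsSeparated := by
    constructor
    rw [← terminal.comp_from (X ↘ Spec (CommRingCat.of k))]
    infer_instance
  obtain ⟨ι, hι, W, hW, hcov⟩ := Groth.Agent.W7Cech.exists_cover X
  haveI := hι
  let g : XK (X ↘ Spec (CommRingCat.of k)) K ⟶ X := pullback.fst _ _
  obtain ⟨e⟩ := Groth.Agent.W7Cech.nonempty_hh_flat_bc k K W hW hcov g (IsPullback.of_hasPullback _ _)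
    (Coh.structureModule X) (Groth.Agent.QC.isQCoh_unit _) q
  exact ⟨(CohFinite.hhEquiv K (FreeLite.pullUnitIso g) q).symm ≪≫ₗ e⟩

theorem finrank_hh_XK {k : Type u} [Field k] (X : Scheme.{u}) [X.Over (Spec (CommRingCat.of k))]
    [IsProper (X ↘ Spec (CommRingCat.of k))] (K : Type u) [Field K] [Algebra k K] :
    Module.Finite K (Coh.HH (XK (k := k) (X ↘ Spec (CommRingCat.of k)) K) (Coh.structureModule _) 1) ∧
    Module.finrank K (Coh.HH (XK (k := k) (X ↘ Spec (CommRingCat.of k)) K) (Coh.structureModule _) 1) =
      Module.finrank k (Coh.HH X (Coh.structureModule X) 1) := by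
  obtain ⟨e⟩ := nonempty_hh_XK (k := k) X K 1
  haveI : IsLocallyNoetherian X := LocallyOfFiniteType.isLocallyNoetherian (X ↘ Spec (CommRingCat.of k))
  haveI : Module.Finite k (Coh.HH X (Coh.structureModule X) 1) :=
    CohFinite.finite_proper k X _ RefStalk.isCoh_structureModule 1
  exact ⟨Module.Finite.equiv e.symm, by rw [e.finrank_eq, Module.finrank_baseChange]⟩

theorem finite_derivation (k O : Type u) [Field k] [CommRing O] [IsLocalRing O] [IsNoetherianRing O] [Algebra k O]
    [Algebra O k] [IsScalarTower k O k] : Module.Finite k (Derivation k O k) := by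
  haveI : Module.Finite k (IsLocalRing.maximalIdeal O).Cotangent := by
    obtain ⟨s, hs⟩ := Module.Finite.fg_top (R := O) (M := (IsLocalRing.maximalIdeal O).Cotangent)
    refine ⟨⟨s, top_unique fun w _ => ?_⟩⟩
    have hw : w ∈ Submodule.span O (s : Set (IsLocalRing.maximalIdeal O).Cotangent) := hs ▸ Submodule.mem_top
    induction hw using Submodule.span_induction with
    | mem y hy => exact Submodule.subset_span hy
    | zero => exact zero_mem _
    | add a b _ _ iha ihb => exact add_mem (iha trivial) (ihb trivial)
    | smul r a _ ih => rw [QuotInf.smul_cotangent (k := k)]; exact Submodule.smul_mem _ _ (ih trivial)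
  haveI : Module.Free k (IsLocalRing.maximalIdeal O).Cotangent := Module.Free.of_divisionRing _ _
  exact Module.Finite.equiv (QuotInf.derDual k O).symm

variable {k : Type u} [Field k] {X : Scheme.{u}} {f : X ⟶ Spec (CommRingCat.of k)}
variable {P : Over (Spec (CommRingCat.of k))} {φ : ∀ T : Over (Spec (CommRingCat.of k)), PicF.Cl (PicF.XT f T) → (T ⟶ P)}
variable (hP : PicRel.IsRelPic f P φ)
include hP

/-- The neutral point over an extension comes from the neutral rational point. -/
theorem phi_one (K : Type u) [Field K] [Algebra k K] :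
    (φ (S0 k K) (1 : PicLoc.PicSet (XK f K)).1).left = gK k K ≫
      (φ (Over.mk (𝟙 (Spec (CommRingCat.of k)))) (PicF.cl (Coh.structureModule
        (PicF.XT f (Over.mk (𝟙 (Spec (CommRingCat.of k)))))))).left := by
  let g : S0 k K ⟶ Over.mk (𝟙 (Spec (CommRingCat.of k))) := Over.homMk (gK k K) (Category.comp_id _)
  have h := nat_pull hP g (1 : PicLoc.PicSet (PicF.XT f (Over.mk (𝟙 (Spec (CommRingCat.of k))))))
  rw [map_one] at h
  exact congrArg (fun q => q.left) h

/-- No more tangent vectors than cohomology classes. -/
theorem finrank_derivation_le [IsProper f] {p : P.left} [Algebra k (P.left.presheaf.stalk p)]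
    (halg : P.left.fromSpecStalk p ≫ P.hom = Spec.map (CommRingCat.ofHom (algebraMap k (P.left.presheaf.stalk p))))
    [Algebra (P.left.presheaf.stalk p) k] [IsScalarTower k (P.left.presheaf.stalk p) k]
    [Module.Finite k (Derivation k (P.left.presheaf.stalk p) k)]
    {K : Type u} [Field K] [Algebra k K] [IsAlgClosed K] [Algebra (P.left.presheaf.stalk p) K]
    [IsScalarTower k (P.left.presheaf.stalk p) K] [IsLocalHom (algebraMap (P.left.presheaf.stalk p) K)]
    (hK : algebraMap (P.left.presheaf.stalk p) K = (algebraMap k K).comp (algebraMap (P.left.presheaf.stalk p) k))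
    (heK : Spec.map (CommRingCat.ofHom (algebraMap (P.left.presheaf.stalk p) K)) ≫ P.left.fromSpecStalk p =
      (φ (S0 k K) (1 : PicLoc.PicSet (XK f K)).1).left) :
    letI : X.Over (Spec (CommRingCat.of k)) := ⟨f⟩
    Module.finrank k (Derivation k (P.left.presheaf.stalk p) k) ≤
      Module.finrank k (Coh.HH X (Coh.structureModule X) 1) := by
  letI : X.Over (Spec (CommRingCat.of k)) := ⟨f⟩
  haveI : IsProper (X ↘ Spec (CommRingCat.of k)) := ‹IsProper f›
  obtain ⟨Φ, hΦ, hrange⟩ := exists_tangent halg hP heK
  haveI : Module.Finite K (Coh.HH (XK f K) (Coh.structureModule (XK f K)) 1) := (finrank_hh_XK (k := k) X K).1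
  have hdim : Module.finrank K (Coh.HH (XK f K) (Coh.structureModule (XK f K)) 1) =
      Module.finrank k (Coh.HH X (Coh.structureModule X) 1) := (finrank_hh_XK (k := k) X K).2
  haveI : Module.Free k (Derivation k (P.left.presheaf.stalk p) k) := Module.Free.of_divisionRing _ _
  let b := Module.finBasis k (Derivation k (P.left.presheaf.stalk p) k)
  have hb : ∀ i, ∃ a, ∀ r, Φ a r = algebraMap k K (b i r) := fun i => by
    obtain ⟨x, D', hx, hD', hr⟩ := exists_class halg hP hK heK (b i)
    obtain ⟨a, ha⟩ := hrange x hx D' hD'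
    exact ⟨a, fun r => by rw [ha, hr]⟩
  choose a ha using hb
  have hind : LinearIndependent K a := by
    rw [Fintype.linearIndependent_iff]
    intro c hc i
    by_contra hne
    haveI : Module.Free k K := Module.Free.of_divisionRing _ _
    let bK := Module.Free.chooseBasis k K
    obtain ⟨j, hj⟩ : ∃ j, bK.repr (c i) j ≠ 0 := by
      by_contra hall
      push Not at hall
      exact hne (bK.repr.map_eq_zero_iff.1 (Finsupp.ext hall))
    refine hj (Fintype.linearIndependent_iff.1 b.linearIndependent (fun i => bK.repr (c i) j) ?_ i)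
    refine Derivation.ext fun r => ?_
    have h1 : ∑ l, c l * algebraMap k K (b l r) = 0 := by
      let ev : Derivation k (P.left.presheaf.stalk p) K →+ K :=
        { toFun := fun D => D r, map_zero' := rfl, map_add' := fun _ _ => rfl }
      have h0 := congrArg (fun z => ev (Φ z)) hc
      simp only [map_sum, map_smul, map_zero] at h0
      refine Eq.trans (Finset.sum_congr rfl fun l _ => ?_) h0
      show c l * _ = c l * (Φ (a l)) r
      rw [ha]
    have h2 := congrArg (fun z => bK.repr z j) h1
    simp only [map_sum, Finsupp.coe_finset_sum, Finset.sum_apply, map_zero, Finsupp.coe_zero, Pi.zero_apply] at h2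
    have h3 : ∀ l, bK.repr (c l * algebraMap k K (b l r)) j = bK.repr (c l) j * b l r := fun l => by
      rw [mul_comm, ← Algebra.smul_def, map_smul, Finsupp.smul_apply, smul_eq_mul, mul_comm]
    simp only [h3] at h2
    let ev : Derivation k (P.left.presheaf.stalk p) k →+ k :=
      { toFun := fun D => D r, map_zero' := rfl, map_add' := fun _ _ => rfl }
    show ev (∑ l, bK.repr (c l) j • b l) = 0
    rw [map_sum]
    exact h2
  have := hind.fintype_card_le_finrank
  rw [Fintype.card_fin, hdim] at this
  exact this

/-- **The tangent space at the origin has dimension `h¹`.** -/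
theorem finrank_cotangent [IsProper f] [LocallyOfFiniteType P.hom] {p : P.left}
    (hp : (φ (Over.mk (𝟙 (Spec (CommRingCat.of k)))) (PicF.cl (Coh.structureModule
        (PicF.XT f (Over.mk (𝟙 (Spec (CommRingCat.of k)))))))).left.base (closedPoint k) = p) :
    letI : X.Over (Spec (CommRingCat.of k)) := ⟨f⟩
    Module.finrank (IsLocalRing.ResidueField (P.left.presheaf.stalk p))
        (IsLocalRing.CotangentSpace (P.left.presheaf.stalk p)) =
      Module.finrank k (Coh.HH X (Coh.structureModule X) 1) := by
  letI : X.Over (Spec (CommRingCat.of k)) := ⟨f⟩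
  haveI : IsProper (X ↘ Spec (CommRingCat.of k)) := ‹IsProper f›
  haveI : IsLocallyNoetherian P.left := LocallyOfFiniteType.isLocallyNoetherian P.hom
  letI : P.left.Over (Spec (CommRingCat.of k)) := ⟨P.hom⟩
  letI := Curv2.stalkAlgebra k P.left p
  have halg := GeomProp.fromSpecStalk_over k P.left p
  let e0 := φ (Over.mk (𝟙 (Spec (CommRingCat.of k)))) (PicF.cl (Coh.structureModule
        (PicF.XT f (Over.mk (𝟙 (Spec (CommRingCat.of k)))))))
  obtain ⟨e₀, hloc, he₀, -⟩ := InfLift.exists_stalk_hom e0.left (x := p) hp
  letI algK : Algebra (P.left.presheaf.stalk p) k := e₀.hom.toAlgebra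
  haveI hlk : IsLocalHom (algebraMap (P.left.presheaf.stalk p) k) := hloc
  haveI : IsScalarTower k (P.left.presheaf.stalk p) k := IsScalarTower.of_algebraMap_eq fun x => by
    have h : CommRingCat.ofHom (algebraMap k (P.left.presheaf.stalk p)) ≫ e₀ = 𝟙 _ := by
      apply Spec.map_injective
      rw [Spec.map_comp, ← halg, reassoc_of% he₀, Spec.map_id]
      exact Over.w e0
    exact (congr(($h).hom x)).symm
  haveI := finite_derivation k (P.left.presheaf.stalk p)
  refine (QuotInf.finrank_derivation k (P.left.presheaf.stalk p)).symm.trans (le_antisymm ?_ ?_)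
  · obtain ⟨K, _, _, _⟩ : ∃ (K : Type u) (_ : Field K) (_ : Algebra k K), IsAlgClosed K := ⟨AlgebraicClosure k, inferInstance, inferInstance, inferInstance⟩
    letI algKK : Algebra (P.left.presheaf.stalk p) K := ((algebraMap k K).comp e₀.hom).toAlgebra
    haveI : IsLocalHom (algebraMap (P.left.presheaf.stalk p) K) :=
      @RingHom.isLocalHom_comp _ _ _ _ _ _ (algebraMap k K) e₀.hom inferInstance hloc
    haveI : IsScalarTower k (P.left.presheaf.stalk p) K := IsScalarTower.of_algebraMap_eq fun x => by
      exact (congrArg (algebraMap k K) (IsScalarTower.algebraMap_apply k (P.left.presheaf.stalk p) k x))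
    have heK : Spec.map (CommRingCat.ofHom (algebraMap (P.left.presheaf.stalk p) K)) ≫ P.left.fromSpecStalk p =
        (φ (S0 k K) (1 : PicLoc.PicSet (XK f K)).1).left := by
      rw [phi_one hP K]
      show Spec.map (CommRingCat.ofHom ((algebraMap k K).comp e₀.hom)) ≫ _ = _
      rw [CommRingCat.ofHom_comp, Spec.map_comp, Category.assoc]
      exact congrArg (gK k K ≫ ·) he₀
    exact finrank_derivation_le hP halg rfl heK
  · have hek : Spec.map (CommRingCat.ofHom (algebraMap (P.left.presheaf.stalk p) k)) ≫ P.left.fromSpecStalk p =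
        (φ (S0 k k) (1 : PicLoc.PicSet (XK f k)).1).left := by
      rw [phi_one hP k]
      show Spec.map e₀ ≫ _ = Spec.map (CommRingCat.ofHom (algebraMap k k)) ≫ _
      rw [he₀]
      exact (congrArg (· ≫ e0.left) (Spec.map_id _)).trans (Category.id_comp _) |>.symm
    obtain ⟨Φ, hΦ, -⟩ := exists_tangent halg hP hek
    rw [← (finrank_hh_XK (k := k) X k).2]
    exact LinearMap.finrank_le_finrank_of_injective hΦ

end Groth.Agent.PicInf

end
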