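import Groth.Agent.PicInf.Pts
import Groth.Agent.InfLift.SchemeSmallExt
import Groth.Agent.MTBridge.NilHom
import Groth.Agent.GrpField.SmoothPoint
import Mathlib.AlgebraicGeometry.AlgClosed.Basic

/-!
Artinian points of a relative Picard scheme over an algebraically closed field, and smoothness.
-/

set_option autoImplicit false
set_option linter.unusedSectionVars false
set_option linter.style.haveILetI false
set_option backward.isDefEq.respectTransparency false
set_option backward.isDefEq.respectTransparency.types false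
set_option maxHeartbeats 1000000

universe u

open CategoryTheory CategoryTheory.Limits AlgebraicGeometry Opposite
open Groth.Agent.W7Cube (pull pull_pull)
open IsLocalRing (closedPoint)

attribute [local instance] Groth.Agent.W7Cube.law

noncomputable section

namespace Groth.Agent.PicInf

/-- The chart at a rational point: regularity of the local ring is smoothness there. -/
theorem section_chart {K : Type u} [Field K] (G : Over (Spec (CommRingCat.of K))) (σ : Over.mk (𝟙 (Spec (CommRingCat.of K))) ⟶ G)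
    [LocallyOfFiniteType G.hom] [LocallyOfFinitePresentation G.hom] :
    IsClosed ({σ.left (closedPoint K)} : Set G.left) ∧
      (IsRegularLocalRing (G.left.presheaf.stalk (σ.left (closedPoint K))) ↔
        σ.left (closedPoint K) ∈ G.hom.smoothLocus) := by
  let e : G.left := σ.left (closedPoint K)
  let T : (Spec (CommRingCat.of K)).Opens := ⊤
  have hT : IsAffineOpen T := isAffineOpen_top _
  obtain ⟨V, hV, heV, -⟩ := exists_isAffineOpen_mem_and_subset (X := G.left) (x := e) (U := ⊤) trivial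
  let s : Spec (CommRingCat.of K) ⟶ G.left := σ.left
  have hs : s ≫ G.hom = 𝟙 _ := Over.w σ
  have hsV : T ≤ s ⁻¹ᵁ V := by
    rintro x -
    show s x ∈ V
    rwa [show x = closedPoint K from Subsingleton.elim (α := PrimeSpectrum K) _ _]
  have hVT : V ≤ G.hom ⁻¹ᵁ T := le_top
  let ε := s.appLE V T hsV
  have hε : G.hom.appLE T V hVT ≫ ε = 𝟙 _ := by
    rw [Scheme.Hom.appLE_comp_appLE]
    simp [hs]
    rfl
  let R := Γ(Spec (CommRingCat.of K), T)
  have hR : IsField R := MulEquiv.isField (Field.toIsField K)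
    (Scheme.ΓSpecIso (CommRingCat.of K)).commRingCatIsoToRingEquiv.toMulEquiv
  letI : Field R := hR.toField
  letI : Algebra R Γ(G.left, V) := (G.hom.appLE T V hVT).hom.toAlgebra
  have : Algebra.FiniteType R Γ(G.left, V) := G.hom.finiteType_appLE hT hV hVT
  let m := (hV.primeIdealOf ⟨e, heV⟩).asIdeal
  have hm : m = RingHom.ker ε.hom := by
    have h := IsAffineOpen.comap_primeIdealOf_appLE (f := s) (x := closedPoint K) V hV T hT hsV trivial
    have h' : Ideal.comap ε.hom (hT.primeIdealOf ⟨closedPoint K, trivial⟩).asIdeal = m :=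
      congrArg PrimeSpectrum.asIdeal h
    have hbot : ∀ q : Ideal R, q.IsPrime → q = ⊥ := fun q hq =>
      (Ideal.eq_bot_or_top q).resolve_right hq.ne_top
    rw [hbot _ (hT.primeIdealOf _).2] at h'
    exact h'.symm
  have hεc : ∀ c : R, ε (algebraMap R Γ(G.left, V) c) = c := fun c =>
    congr($hε c)
  have hres : ∀ b : Γ(G.left, V), ∃ c : R, b - algebraMap R Γ(G.left, V) c ∈ m := fun b =>
    ⟨ε b, by rw [hm, RingHom.mem_ker, map_sub, sub_eq_zero]; exact (hεc _).symm⟩
  have hmax : m.IsMaximal := by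
    rw [hm]
    exact RingHom.ker_isMaximal_of_surjective ε.hom fun c => ⟨_, hεc c⟩
  refine ⟨?_, ?_⟩
  · have : JacobsonSpace G.left := LocallyOfFiniteType.jacobsonSpace G.hom
    apply isClosed_singleton_of_isLocallyClosed_singleton
    have h : IsClosed ({hV.primeIdealOf ⟨e, heV⟩} : Set (Spec Γ(G.left, V))) :=
      (PrimeSpectrum.isClosed_singleton_iff_isMaximal _).2 hmax
    have h' := h.isLocallyClosed.image hV.fromSpec.isOpenEmbedding.isInducing
      hV.fromSpec.isOpenEmbedding.isOpen_range.isLocallyClosed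
    erw [Set.image_singleton, hV.fromSpec_primeIdealOf] at h'
    exact h'
  · rw [Scheme.Hom.mem_smoothLocus, formallySmooth_stalkMap_iff T hT V hV hVT heV]
    have hloc := hV.isLocalization_stalk ⟨e, heV⟩
    show IsRegularLocalRing (G.left.presheaf.stalk e) ↔ Algebra.FormallySmooth R (Localization.AtPrime m)
    rw [← GrpField.regular_iff_smoothAt_of_residue m hres]
    let := TopCat.Presheaf.algebra_section_stalk G.left.presheaf ⟨e, heV⟩
    let i : G.left.presheaf.stalk e ≃+* Localization.AtPrime m :=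
      haveI : IsLocalization m.primeCompl (G.left.presheaf.stalk e) := hloc
      (IsLocalization.algEquiv m.primeCompl (G.left.presheaf.stalk e) (Localization.AtPrime m)).toRingEquiv
    exact ⟨fun _ => IsRegularLocalRing.of_ringEquiv i, fun _ => IsRegularLocalRing.of_ringEquiv i.symm⟩


variable {K : Type u} [Field K] {X : Scheme.{u}} {f : X ⟶ Spec (CommRingCat.of K)}
variable {P : Over (Spec (CommRingCat.of K))} {φ : ∀ T : Over (Spec (CommRingCat.of K)), PicF.Cl (PicF.XT f T) → (T ⟶ P)}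

/-- The base point. -/
abbrev pt1 (K : Type u) [Field K] : Over (Spec (CommRingCat.of K)) := Over.mk (𝟙 (Spec (CommRingCat.of K)))

/-- The structure morphism as a morphism over the base. -/
abbrev toPt1 (T : Over (Spec (CommRingCat.of K))) : T ⟶ pt1 K := Over.homMk T.hom (Category.comp_id _)

theorem comp_toPt1 {T : Over (Spec (CommRingCat.of K))} (z : pt1 K ⟶ T) : z ≫ toPt1 T = 𝟙 _ :=
  Over.OverMorphism.ext (Over.w z)

theorem pull_XTmap_comp {T T' T'' : Over (Spec (CommRingCat.of K))} (a : T'' ⟶ T') (b : T' ⟶ T)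
    (c : PicLoc.PicSet (PicF.XT f T)) :
    pull (PicF.XTmap f a) (pull (PicF.XTmap f b) c) = pull (PicF.XTmap f (a ≫ b)) c := by
  rw [pull_pull, PicRelBC.XTmap_comp]

theorem pull_XTmap_id {T : Over (Spec (CommRingCat.of K))} (c : PicLoc.PicSet (PicF.XT f T)) :
    pull (PicF.XTmap f (𝟙 T)) c = c := by
  have e : PicF.XTmap f (𝟙 T) = 𝟙 _ := by
    apply pullback.hom_ext
    · rw [PicRelBC.XTmap_fst, Category.id_comp]
    · rw [PicRelBC.XTmap_snd, Category.id_comp]
      exact Category.comp_id _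
  rw [e]
  exact PicGrp.pullHom_id_apply _ c

/-- An artinian neighbourhood of the base point has a point. -/
theorem exists_aug [IsAlgClosed K] (T : Over (Spec (CommRingCat.of K))) [LocallyOfFiniteType T.hom]
    [Nonempty T.left] : Nonempty (pt1 K ⟶ T) := by
  haveI : JacobsonSpace T.left := LocallyOfFiniteType.jacobsonSpace T.hom
  obtain ⟨q, -, hq⟩ := nonempty_inter_closedPoints (X := T.left) (Z := Set.univ)
    Set.univ_nonempty isOpen_univ.isLocallyClosed
  exact ⟨Over.homMk (pointOfClosedPoint T.hom q hq) (pointOfClosedPoint_comp _ q hq)⟩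

variable {A : Type u} [CommRing A] [IsLocalRing A] [IsArtinianRing A] (β : Spec (CommRingCat.of A) ⟶ Spec (CommRingCat.of K))
  [LocallyOfFiniteType β]

omit [LocallyOfFiniteType β] in
theorem subsingleton_spec : Subsingleton (PrimeSpectrum A) :=
  ⟨fun x y => PrimeSpectrum.ext ((IsLocalRing.eq_maximalIdeal (IsArtinianRing.isMaximal_of_isPrime x.asIdeal)).trans
    (IsLocalRing.eq_maximalIdeal (IsArtinianRing.isMaximal_of_isPrime y.asIdeal)).symm)⟩

variable (hP : PicRel.IsRelPic f P φ)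
include hP

theorem points_surj [IsAlgClosed K] (g : Over.mk β ⟶ P) :
    ∃ c : PicLoc.PicSet (PicF.XT f (Over.mk β)), φ _ c.1 = g := by
  haveI := subsingleton_spec (A := A)
  obtain ⟨ι, U, hU, hc⟩ := hP.locallySurjective (Over.mk β) g
  obtain ⟨i, u₀, -⟩ := hU (closedPoint A)
  haveI : Etale (U i).hom := (U i).prop
  haveI : Nonempty (PicRel.ovr (Over.mk β) (U i)).left := ⟨u₀⟩
  haveI : LocallyOfFiniteType (PicRel.ovr (Over.mk β) (U i)).hom :=
    inferInstanceAs (LocallyOfFiniteType ((U i).hom ≫ β))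
  obtain ⟨pt⟩ := exists_aug (PicRel.ovr (Over.mk β) (U i))
  obtain ⟨a, ha⟩ := Spec.map_surjective (pt.left ≫ (U i).hom)
  have ha' : Spec.map a ≫ β = 𝟙 _ := by
    rw [ha, Category.assoc]
    exact Over.w pt
  have hsurj : Function.Surjective a.hom := fun x => by
    obtain ⟨b, hb⟩ := Spec.map_surjective β
    have h : b ≫ a = 𝟙 _ := Spec.map_injective (by rw [Spec.map_comp, hb, ha', Spec.map_id])
    exact ⟨b.hom x, congr(($h).hom x)⟩
  obtain ⟨n, hn⟩ := IsArtinianRing.isNilpotent_jacobson_bot (R := A)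
  have hle : RingHom.ker a.hom ≤ (⊥ : Ideal A).jacobson := by
    rw [IsLocalRing.jacobson_eq_maximalIdeal ⊥ bot_ne_top]
    exact IsLocalRing.le_maximalIdeal (RingHom.ker_ne_top a.hom)
  have hpow : RingHom.ker a.hom ^ n = ⊥ := le_bot_iff.1 ((Ideal.pow_right_mono hle n).trans hn.le)
  obtain ⟨h, -, hh⟩ := MTBridge.exists_lift_of_smooth_nil (U i).hom n a.hom hsurj hpow pt.left (𝟙 _) (by
    rw [Category.comp_id]
    exact ha)
  let hU' : Over.mk β ⟶ PicRel.ovr (Over.mk β) (U i) := Over.homMk h (by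
    show h ≫ (U i).hom ≫ β = β
    rw [reassoc_of% hh])
  obtain ⟨c, hci, hφc⟩ := hc i
  refine ⟨pull (PicF.XTmap f hU') ⟨c, hci⟩, ?_⟩
  rw [nat_pull hP, hφc, ← Category.assoc]
  rw [show hU' ≫ PicRel.ovrHom (Over.mk β) (U i) = 𝟙 _ from Over.OverMorphism.ext hh, Category.id_comp]

theorem points_inj [IsProper f] {c c' : PicLoc.PicSet (PicF.XT f (Over.mk β))} (h : φ _ c.1 = φ _ c'.1) : c = c' := by
  let T : Over (Spec (CommRingCat.of K)) := Over.mk β
  haveI : IsAffine T.left := inferInstanceAs (IsAffine (Spec (CommRingCat.of A)))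
  haveI : Subsingleton T.left := subsingleton_spec (A := A)
  haveI : CompactSpace (PicF.XT f T) := QuasiCompact.compactSpace_of_compactSpace (PicF.XTproj f T)
  haveI : QuasiSeparatedSpace (PicF.XT f T) := quasiSeparatedSpace_of_quasiSeparated (PicF.XTproj f T)
  haveI : Finite (MaximalSpectrum Γ(PicF.XT f T, ⊤)) := by
    letI : Algebra A Γ(PicF.XT f T, ⊤) := (Coh.toGlobal (PicF.XTproj f T) : A →+* Γ(PicF.XT f T, ⊤)).toAlgebra
    haveI := AltN1.finite_global (A := A) (PicF.XTproj f T)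
    haveI : IsArtinianRing Γ(PicF.XT f T, ⊤) := IsArtinianRing.of_finite A _
    infer_instance
  obtain ⟨ι, U, hU, hloc⟩ := hP.locallyInjective T c.1 c'.1 c.2 c'.2 h
  obtain ⟨i, u, -⟩ := hU (closedPoint A)
  refine mul_inv_eq_one.1 (eq_one_of_cover (U i) u (T := T) ?_)
  rw [map_mul, map_inv, mul_inv_eq_one]
  exact Subtype.ext (hloc i)

omit hP in
variable (f) in
/-- Kernel classes lift along small extensions. -/
def KernelLifts : Prop :=
  ∀ (B' B : Type u) [CommRing B'] [CommRing B] [IsLocalRing B'] [IsLocalRing B] [IsArtinianRing B'] [IsArtinianRing B]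
    (π : B' →+* B) (_ : Function.Surjective π)
    (_ : ∃ t : B', RingHom.ker π = Ideal.span {t} ∧ ∀ a ∈ IsLocalRing.maximalIdeal B', a * t = 0)
    (β : Spec (CommRingCat.of B') ⟶ Spec (CommRingCat.of K)) (_ : LocallyOfFiniteType β)
    (T₀ : Over (Spec (CommRingCat.of K))) (i : T₀ ⟶ Over.mk β) (e : T₀.left ≅ Spec (CommRingCat.of B))
    (_ : e.inv ≫ i.left = Spec.map (CommRingCat.ofHom π)) (z : pt1 K ⟶ T₀)
    (c : PicLoc.PicSet (PicF.XT f T₀)), pull (PicF.XTmap f z) c = 1 →
      ∃ d : PicLoc.PicSet (PicF.XT f (Over.mk β)), pull (PicF.XTmap f i) d = c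

omit [LocallyOfFiniteType β] in
/-- **Smoothness from lifts of kernel classes.** -/
theorem smooth_of_kernelLifts [IsAlgClosed K] [IsProper f] [LocallyOfFiniteType P.hom] (H : KernelLifts f) :
    Smooth P.hom := by
  refine InfLift.smooth_of_small_lift P.hom fun B' B _ _ _ _ _ _ π hπ ht α β hβ comm => ?_
  haveI := hβ
  haveI : LocallyOfFiniteType (Spec.map (CommRingCat.ofHom π) ≫ β) := by
    haveI : IsClosedImmersion (Spec.map (CommRingCat.ofHom π)) := IsClosedImmersion.spec_of_surjective _ hπ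
    infer_instance
  let T₀ : Over (Spec (CommRingCat.of K)) := Over.mk (Spec.map (CommRingCat.ofHom π) ≫ β)
  let i : T₀ ⟶ Over.mk β := Over.homMk (Spec.map (CommRingCat.ofHom π))
  obtain ⟨c, hc⟩ := points_surj (Spec.map (CommRingCat.ofHom π) ≫ β) hP (Over.homMk α comm.symm)
  haveI : Nonempty T₀.left := ⟨closedPoint B⟩
  haveI : LocallyOfFiniteType T₀.hom := ‹LocallyOfFiniteType (Spec.map (CommRingCat.ofHom π) ≫ β)›
  obtain ⟨z⟩ := exists_aug T₀
  let c₀ := pull (PicF.XTmap f z) c
  obtain ⟨d₁, hd₁⟩ := H B' B π hπ ht β hβ T₀ i (Iso.refl _) (Category.id_comp _) z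
    (c * (pull (PicF.XTmap f (toPt1 T₀)) c₀)⁻¹) (by
      rw [map_mul, map_inv, pull_XTmap_comp z (toPt1 T₀), comp_toPt1, pull_XTmap_id]
      exact mul_inv_cancel c₀)
  let d := d₁ * pull (PicF.XTmap f (toPt1 (Over.mk β))) c₀
  have hd : pull (PicF.XTmap f i) d = c := by
    simp only [d]
    rw [map_mul, hd₁, pull_XTmap_comp i (toPt1 (Over.mk β)) c₀,
      show i ≫ toPt1 (Over.mk β) = toPt1 T₀ from Over.OverMorphism.ext rfl, inv_mul_cancel_right]
  refine ⟨(φ (Over.mk β) d.1).left, ?_, Over.w (φ (Over.mk β) d.1)⟩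
  have h := nat_pull hP i d
  rw [hd, hc] at h
  exact (congrArg (fun q => q.left) h).symm

omit [LocallyOfFiniteType β] in
/-- Kernel classes lift if the origin is a smooth point. -/
theorem kernelLifts_of_mem_smoothLocus [IsAlgClosed K] [IsProper f] [LocallyOfFiniteType P.hom]
    (he : (φ (pt1 K) (1 : PicLoc.PicSet (PicF.XT f (pt1 K))).1).left (closedPoint K) ∈ P.hom.smoothLocus) :
    KernelLifts f := by
  intro B' B _ _ _ _ _ _ π hπ ht β hβ T₀ i e hei z c hc
  haveI := hβ
  haveI := InfLift.lfp_of_lft P.hom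
  let α := φ T₀ c.1
  have hz : z ≫ α = φ (pt1 K) (1 : PicLoc.PicSet (PicF.XT f (pt1 K))).1 := by
    rw [← nat_pull hP, hc]
  have hcp : (e.inv ≫ α.left) (closedPoint B) ∈ P.hom.smoothLocus := by
    rw [← hz] at he
    haveI := subsingleton_spec (A := B)
    haveI : Subsingleton ↥(Spec (CommRingCat.of B)) := subsingleton_spec (A := B)
    haveI : Subsingleton T₀.left := e.hom.homeomorph.injective.subsingleton
    rw [Scheme.Hom.comp_apply, Subsingleton.elim (e.inv (closedPoint B)) (z.left (closedPoint K))]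
    exact he
  obtain ⟨γ, hγ₁, hγ₂⟩ := InfLift.exists_lift_of_mem_smoothLocus P.hom π hπ (InfLift.sq_zero_of_small ht)
    (e.inv ≫ α.left) hcp β (by
      rw [Category.assoc, Over.w α, ← hei, Category.assoc]
      exact congrArg (e.inv ≫ ·) (Over.w i))
  obtain ⟨d, hd⟩ := points_surj β hP (Over.homMk γ hγ₂)
  refine ⟨d, ?_⟩
  have key : φ T₀ (pull (PicF.XTmap f i) d).1 = φ T₀ c.1 := by
    rw [nat_pull hP, hd]
    refine Over.OverMorphism.ext ((cancel_epi e.inv).1 ?_)
    show e.inv ≫ i.left ≫ γ = e.inv ≫ α.left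
    rw [reassoc_of% hei]
    exact hγ₁
  let βB : Spec (CommRingCat.of B) ⟶ Spec (CommRingCat.of K) := e.inv ≫ T₀.hom
  haveI : LocallyOfFiniteType βB := by
    haveI : IsClosedImmersion (Spec.map (CommRingCat.ofHom π)) := IsClosedImmersion.spec_of_surjective _ hπ
    rw [show βB = Spec.map (CommRingCat.ofHom π) ≫ β by
      rw [← hei, Category.assoc]
      exact congrArg (e.inv ≫ ·) (Over.w i).symm]
    infer_instance
  let r : Over.mk βB ⟶ T₀ := Over.homMk e.inv rfl
  let r' : T₀ ⟶ Over.mk βB := Over.homMk e.hom (by simp [βB])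
  have h2 := points_inj βB hP (c := pull (PicF.XTmap f r) (pull (PicF.XTmap f i) d))
    (c' := pull (PicF.XTmap f r) c) (by rw [nat_pull hP r, key, nat_pull hP r])
  have h3 := congrArg (pull (PicF.XTmap f r')) h2
  rwa [pull_XTmap_comp r', pull_XTmap_comp r', show r' ≫ r = 𝟙 T₀ from Over.OverMorphism.ext e.hom_inv_id,
    pull_XTmap_id, pull_XTmap_id] at h3

omit [LocallyOfFiniteType β] hP in
variable (φ) in
/-- The twist of the universal maps by a class. -/
def twist (c₀ : PicLoc.PicSet (PicF.XT f (pt1 K))) (T : Over (Spec (CommRingCat.of K))) (c : PicF.Cl (PicF.XT f T)) :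
    T ⟶ P := φ T (PicGrp.mulCl c (pull (PicF.XTmap f (toPt1 T)) c₀).1)

omit [LocallyOfFiniteType β] in
theorem isRelPic_twist (c₀ : PicLoc.PicSet (PicF.XT f (pt1 K))) : PicRel.IsRelPic f P (twist φ c₀) where
  natural T T' g c hc := by
    have h := nat_pull hP g (⟨c, hc⟩ * pull (PicF.XTmap f (toPt1 T)) c₀)
    rw [map_mul, pull_XTmap_comp, show g ≫ toPt1 T = toPt1 T' from Over.OverMorphism.ext (Over.w g)] at h
    exact h
  locallySurjective T g := by
    obtain ⟨ι, U, hU, hc⟩ := hP.locallySurjective T g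
    refine ⟨ι, U, hU, fun i => ?_⟩
    obtain ⟨c, hci, hφ⟩ := hc i
    let d : PicLoc.PicSet (PicF.XT f (PicRel.ovr T (U i))) :=
      ⟨c, hci⟩ * (pull (PicF.XTmap f (toPt1 (PicRel.ovr T (U i)))) c₀)⁻¹
    refine ⟨d.1, d.2, ?_⟩
    show φ _ ((d * pull (PicF.XTmap f (toPt1 (PicRel.ovr T (U i)))) c₀).1) = _
    simp only [d]
    rw [inv_mul_cancel_right]
    exact hφ
  locallyInjective T c c' hc hc' h := by
    let u : PicLoc.PicSet (PicF.XT f T) := ⟨c, hc⟩
    let u' : PicLoc.PicSet (PicF.XT f T) := ⟨c', hc'⟩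
    obtain ⟨ι, U, hU, hloc⟩ := hP.locallyInjective T (u * pull (PicF.XTmap f (toPt1 T)) c₀).1
      (u' * pull (PicF.XTmap f (toPt1 T)) c₀).1 (u * pull (PicF.XTmap f (toPt1 T)) c₀).2
      (u' * pull (PicF.XTmap f (toPt1 T)) c₀).2 h
    refine ⟨ι, U, hU, fun i => ?_⟩
    have h2 : pull (PicF.XTmap f (PicRel.ovrHom T (U i))) (u * pull (PicF.XTmap f (toPt1 T)) c₀) =
        pull (PicF.XTmap f (PicRel.ovrHom T (U i))) (u' * pull (PicF.XTmap f (toPt1 T)) c₀) :=
      Subtype.ext (hloc i)
    rw [map_mul, map_mul, mul_left_inj] at h2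
    exact congrArg Subtype.val h2

omit [LocallyOfFiniteType β] hP in
theorem twist_one (c₀ : PicLoc.PicSet (PicF.XT f (pt1 K))) :
    twist φ c₀ (pt1 K) (1 : PicLoc.PicSet (PicF.XT f (pt1 K))).1 = φ (pt1 K) c₀.1 := by
  show φ _ ((1 : PicLoc.PicSet (PicF.XT f (pt1 K))) * pull (PicF.XTmap f (toPt1 (pt1 K))) c₀).1 = _
  rw [one_mul, show toPt1 (pt1 K) = 𝟙 _ from Over.OverMorphism.ext rfl, pull_XTmap_id]

end Groth.Agent.PicInf

end
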