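import Groth.Agent.PicInf.Descend
import Groth.Agent.PicInf.Lift
import Groth.Agent.PicInf.Dim
import Groth.Agent.ExpSeq.DeformArt
import Groth.Agent.S11763

/-!
Lifts of artinian points of a relative Picard scheme where the fibre has no second cohomology.
-/

set_option autoImplicit false
set_option linter.unusedSectionVars false
set_option linter.style.haveILetI false
set_option backward.isDefEq.respectTransparency false
set_option backward.isDefEq.respectTransparency.types false
set_option maxHeartbeats 1600000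

universe u

open CategoryTheory CategoryTheory.Limits AlgebraicGeometry Opposite
open Groth.Agent.W7Cube (pull pull_pull)
open IsLocalRing (closedPoint)

attribute [local instance] Groth.Agent.W7Cube.law

noncomputable section

namespace Groth.Agent.PicInf

theorem surjective_pull_iq {A : Type u} [CommRing A] [IsArtinianRing A] [IsLocalRing A] {Y : Scheme.{u}}
    (p : Y ⟶ Spec (CommRingCat.of A)) [Flat p] (J : Ideal A) (hJ : J ≤ IsLocalRing.maximalIdeal A)
    (h : Subsingleton (Coh.HH (pullback p (Spec.map (CommRingCat.ofHom (IsLocalRing.residue A))))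
      (Coh.structureModule _) 2)) :
    Function.Surjective (pull (ExpSeq.Deform.iq p J)) := fun c => by
  obtain ⟨Ψ, hΨ⟩ := ThickPic.exists_picEquiv_compat (ExpSeq.Deform.iq p J)
    (ExpSeq.Deform.isHomeomorph_iq p hJ) (W7Cube.pullMul (ExpSeq.Deform.iq p J))
  obtain ⟨y, hy⟩ := (ExpSeq.Deform.both p J hJ 1).2 h (Ψ (Additive.ofMul c))
  obtain ⟨b, rfl⟩ := (ThickPic.picH1 Y).surjective y
  exact ⟨b.toMul, Additive.ofMul.injective (Ψ.injective ((hΨ b.toMul).symm.trans hy))⟩

/-- Vanishing on the fibre gives vanishing on every fibre over an extension field. -/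
theorem subsingleton_hh_field {X S : Scheme.{u}} (f : X ⟶ S) [IsProper f] {K : Type u} [Field K]
    (g : Spec (CommRingCat.of K) ⟶ S) (n : ℕ)
    (h : Subsingleton (Coh.HH (f.fiber (g (closedPoint K))) (Coh.structureModule _) n)) :
    Subsingleton (Coh.HH (pullback f g) (Coh.structureModule _) n) := by
  let s := g (closedPoint K)
  let k := S.residueField s
  let a : S.residueField s ⟶ CommRingCat.of K := Scheme.descResidueField (Scheme.stalkClosedPointTo g)
  have ha : Spec.map a ≫ S.fromSpecResidueField s = g :=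
    Scheme.descResidueField_stalkClosedPointTo_fromSpecResidueField K S g
  letI : (f.fiber s).Over (Spec (CommRingCat.of k)) := ⟨f.fiberToSpecResidueField s⟩
  haveI : IsProper ((f.fiber s) ↘ Spec (CommRingCat.of k)) :=
    MorphismProperty.pullback_snd (P := @IsProper) f _ ‹IsProper f›
  letI : Algebra k K := a.hom.toAlgebra
  obtain ⟨e⟩ := nonempty_hh_XK (k := k) (f.fiber s) K n
  haveI : Subsingleton (TensorProduct k K (Coh.HH (f.fiber s) (Coh.structureModule _) n)) := by
    refine subsingleton_of_forall_eq 0 fun z => ?_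
    induction z with
    | zero => rfl
    | tmul x y => rw [h.elim y 0, TensorProduct.tmul_zero]
    | add x y hx hy => rw [hx, hy, add_zero]
  let i : pullback (pullback.snd f (S.fromSpecResidueField s)) (Spec.map a) ≅ pullback f g :=
    pullbackLeftPullbackSndIso _ _ _ ≪≫ pullback.congrHom rfl ha
  exact S11763.subsingleton_of_iso i.hom n e.toEquiv.subsingleton

/-- The fibre cohomology of the structure sheaf. -/
def fiberHUnit {X S : Scheme.{u}} (f : X ⟶ S) (z : S) (n : ℕ) :
    CohIII.fiberH f (Coh.structureModule X) z n ≃+ Coh.HH (f.fiber z) (Coh.structureModule _) n :=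
  ((Sheaf.functorH (Opens.grothendieckTopology (f.fiber z)) n).mapIso
    ((SheafOfModules.toSheaf (f.fiber z).ringCatSheaf).mapIso
      (FreeLite.pullUnitIso (f.fiberι z)))).addCommGroupIsoToAddEquiv

theorem exists_chart_hom {Z : Scheme.{u}} {V : Z.Opens} (hV : IsAffineOpen V) {A : Type u} [CommRing A]
    [IsLocalRing A] [IsArtinianRing A] (g : Spec (CommRingCat.of A) ⟶ Z) (hg : g (closedPoint A) ∈ V) :
    ∃ a : Γ(Z, V) ⟶ CommRingCat.of A, Spec.map a ≫ hV.fromSpec = g := by
  haveI : Subsingleton (Spec (CommRingCat.of A)) := subsingleton_spec (A := A)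
  have hr : Set.range g ⊆ Set.range hV.fromSpec := by
    rintro _ ⟨x, rfl⟩
    rw [hV.range_fromSpec, Subsingleton.elim x (closedPoint A)]
    exact hg
  exact ⟨Spec.preimage (IsOpenImmersion.lift hV.fromSpec g hr), by
    rw [Spec.map_preimage]; exact IsOpenImmersion.lift_fac _ _ _⟩

theorem chart_hom_ext {Z : Scheme.{u}} {V : Z.Opens} (hV : IsAffineOpen V) {A : CommRingCat.{u}}
    {a a' : Γ(Z, V) ⟶ A} (h : Spec.map a ≫ hV.fromSpec = Spec.map a' ≫ hV.fromSpec) : a = a' :=
  Spec.map_injective ((cancel_mono hV.fromSpec).1 h)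

/-- Descent of a lift of an artinian point along a finite free extension. -/
theorem exists_descend_point {P S : Scheme.{u}} (hom : P ⟶ S) {B' B C' C : Type u} [CommRing B'] [CommRing B]
    [CommRing C'] [CommRing C] [IsLocalRing B'] [IsLocalRing B] [IsLocalRing C'] [IsArtinianRing B'] [IsArtinianRing B]
    [IsArtinianRing C'] [Algebra B' C'] [Module.Finite B' C'] [Module.Free B' C']
    (π : B' →+* B) (hπ : Function.Surjective π) (t : B') (hker : RingHom.ker π = Ideal.span {t}) (ht : t * t = 0)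
    (ψ : B →+* C) (q : C' →+* C) [Nontrivial C] (hq : q.comp (algebraMap B' C') = ψ.comp π)
    (hqker : RingHom.ker q = Ideal.span {algebraMap B' C' t})
    (α : Spec (CommRingCat.of B) ⟶ P) (β : Spec (CommRingCat.of B') ⟶ S)
    (comm : Spec.map (CommRingCat.ofHom π) ≫ β = α ≫ hom) (γ' : Spec (CommRingCat.of C') ⟶ P)
    (h1 : Spec.map (CommRingCat.ofHom q) ≫ γ' = Spec.map (CommRingCat.ofHom ψ) ≫ α)
    (h2 : γ' ≫ hom = Spec.map (CommRingCat.ofHom (algebraMap B' C')) ≫ β) :
    ∃ γ : Spec (CommRingCat.of B') ⟶ P, Spec.map (CommRingCat.ofHom π) ≫ γ = α ∧ γ ≫ hom = β := by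
  haveI : Subsingleton (Spec (CommRingCat.of B')) := subsingleton_spec (A := B')
  haveI : Subsingleton (Spec (CommRingCat.of B)) := subsingleton_spec (A := B)
  haveI : Subsingleton (Spec (CommRingCat.of C')) := subsingleton_spec (A := C')
  obtain ⟨W, hW, hsW, -⟩ := exists_isAffineOpen_mem_and_subset (X := S) (x := β (closedPoint B')) (U := ⊤) trivial
  have hp : hom (α (closedPoint B)) ∈ W := by
    rw [← Scheme.Hom.comp_apply, ← comm, Scheme.Hom.comp_apply,
      Subsingleton.elim (Spec.map (CommRingCat.ofHom π) (closedPoint B)) (closedPoint B')]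
    exact hsW
  obtain ⟨V, hV, hxV, hVW⟩ := exists_isAffineOpen_mem_and_subset (X := P) (x := α (closedPoint B)) (U := hom ⁻¹ᵁ W) hp
  have e : V ≤ hom ⁻¹ᵁ W := hVW
  obtain ⟨a, ha⟩ := exists_chart_hom hV α hxV
  obtain ⟨b, hb⟩ := exists_chart_hom hW β hsW
  obtain ⟨x⟩ := (inferInstance : Nonempty (PrimeSpectrum C))
  obtain ⟨g, hg⟩ := exists_chart_hom hV γ' (by
    rw [Subsingleton.elim (closedPoint C') (Spec.map (CommRingCat.ofHom q) x), ← Scheme.Hom.comp_apply, h1,
      Scheme.Hom.comp_apply, Subsingleton.elim (Spec.map (CommRingCat.ofHom ψ) x) (closedPoint B)]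
    exact hxV)
  have hqg : g ≫ CommRingCat.ofHom q = a ≫ CommRingCat.ofHom ψ := chart_hom_ext hV (by
    rw [Spec.map_comp, Spec.map_comp, Category.assoc, Category.assoc, hg, ha, h1])
  obtain ⟨ρ, hρ⟩ := exists_retraction (A := B') (C := C')
  obtain ⟨h, hπh, hfix⟩ := exists_descend π hπ t hker ht ρ hρ ψ q hq hqker a.hom g.hom
    (congrArg CommRingCat.Hom.hom hqg)
  have heg : hom.appLE W V e ≫ g = b ≫ CommRingCat.ofHom (algebraMap B' C') := chart_hom_ext hW (by
    rw [Spec.map_comp, Spec.map_comp, Category.assoc, Category.assoc, hW.SpecMap_appLE_fromSpec hom hV e, hb,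
      reassoc_of% hg, h2])
  have heh : hom.appLE W V e ≫ CommRingCat.ofHom h = b :=
    CommRingCat.hom_ext (RingHom.ext fun r => hfix _ _ (ConcreteCategory.congr_hom heg r))
  refine ⟨Spec.map (CommRingCat.ofHom h) ≫ hV.fromSpec, ?_, ?_⟩
  · rw [← Spec.map_comp_assoc, show CommRingCat.ofHom h ≫ CommRingCat.ofHom π = a from CommRingCat.hom_ext hπh, ha]
  · rw [Category.assoc, ← hW.SpecMap_appLE_fromSpec hom hV e, ← Spec.map_comp_assoc, heh, hb]

variable {X S : Scheme.{u}} {f : X ⟶ S} {P : Over S} {φ : ∀ T : Over S, PicF.Cl (PicF.XT f T) → (T ⟶ P)}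

theorem rel_nat (hP : PicRel.IsRelPic f P φ) {T T' : Over S} (g : T' ⟶ T) (c : PicLoc.PicSet (PicF.XT f T)) :
    φ T' (pull (PicF.XTmap f g) c).1 = g ≫ φ T c.1 :=
  hP.natural T T' g c.1 c.2

/-- An artinian point comes from a class after a finite residue extension. -/
theorem exists_class_artin (hP : PicRel.IsRelPic f P φ) {B : Type u} [CommRing B] [IsLocalRing B] [IsArtinianRing B]
    (α : Spec (CommRingCat.of B) ⟶ P.left) :
    ∃ (κ : Type u) (_ : Field κ) (_ : Algebra B κ) (_ : Module.Finite B κ),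
      ∀ (C : Type u) [CommRing C] [IsLocalRing C] [IsArtinianRing C] (ψ : B →+* C) (r : C →+* κ),
        Function.Surjective r → r.comp ψ = algebraMap B κ →
        ∃ c : PicLoc.PicSet (PicF.XT f (Over.mk (Spec.map (CommRingCat.ofHom ψ) ≫ α ≫ P.hom))),
          (φ (Over.mk (Spec.map (CommRingCat.ofHom ψ) ≫ α ≫ P.hom)) c.1).left =
            Spec.map (CommRingCat.ofHom ψ) ≫ α := by
  let T₀ : Over S := Over.mk (α ≫ P.hom)
  obtain ⟨ι, U, hU, hc⟩ := hP.locallySurjective T₀ (Over.homMk α rfl)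
  obtain ⟨i, u₀, -⟩ := hU (closedPoint B)
  haveI : Etale (U i).hom := (U i).prop
  obtain ⟨W, hW, hu₀, -⟩ := exists_isAffineOpen_mem_and_subset (X := (U i).left) (x := u₀) (U := ⊤) trivial
  obtain ⟨a, ha⟩ : ∃ a : CommRingCat.of B ⟶ Γ((U i).left, W), Spec.map a = hW.fromSpec ≫ (U i).hom :=
    Spec.map_surjective (hW.fromSpec ≫ (U i).hom)
  haveI : LocallyOfFiniteType (Spec.map a) := by rw [ha]; infer_instance
  letI : Algebra B Γ((U i).left, W) := a.hom.toAlgebra
  haveI : Algebra.FiniteType B Γ((U i).left, W) :=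
    (HasRingHomProperty.Spec_iff (P := @LocallyOfFiniteType) (φ := a)).1 ‹_›
  obtain ⟨M, hM, -⟩ := Ideal.exists_le_maximal _ (hW.primeIdealOf ⟨u₀, hu₀⟩).2.ne_top
  haveI := hM
  letI : Field (Γ((U i).left, W) ⧸ M) := Ideal.Quotient.field M
  haveI : Algebra.FiniteType B (Γ((U i).left, W) ⧸ M) :=
    Algebra.FiniteType.of_surjective (Ideal.Quotient.mkₐ B M) (Ideal.Quotient.mkₐ_surjective B M)
  refine ⟨Γ((U i).left, W) ⧸ M, inferInstance, inferInstance, finite_of_finite_type_of_isJacobsonRing _ _, ?_⟩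
  intro C _ _ _ ψ r hr hψ
  obtain ⟨n, hn⟩ := IsArtinianRing.isNilpotent_jacobson_bot (R := C)
  have hpow : RingHom.ker r ^ n = ⊥ := by
    rw [IsLocalRing.jacobson_eq_maximalIdeal ⊥ bot_ne_top] at hn
    exact le_bot_iff.1 ((Ideal.pow_right_mono (IsLocalRing.le_maximalIdeal (RingHom.ker_ne_top r)) n).trans hn.le)
  obtain ⟨h, -, hh⟩ := MTBridge.exists_lift_of_smooth_nil (U i).hom n r hr hpow
    (Spec.map (CommRingCat.ofHom (Ideal.Quotient.mk M)) ≫ hW.fromSpec) (Spec.map (CommRingCat.ofHom ψ)) (by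
      rw [Category.assoc, ← ha, ← Spec.map_comp, ← Spec.map_comp, ← CommRingCat.ofHom_comp, hψ]
      rfl)
  let T : Over S := Over.mk (Spec.map (CommRingCat.ofHom ψ) ≫ α ≫ P.hom)
  let hU' : T ⟶ PicRel.ovr T₀ (U i) := Over.homMk h (by
    show h ≫ (U i).hom ≫ α ≫ P.hom = _
    rw [reassoc_of% hh]
    rfl)
  obtain ⟨c, hci, hφc⟩ := hc i
  refine ⟨pull (PicF.XTmap f hU') ⟨c, hci⟩, ?_⟩
  rw [rel_nat hP, hφc]
  show h ≫ (U i).hom ≫ α = _
  rw [reassoc_of% hh]

/-- **Lifts along small extensions where the fibre has no second cohomology.** -/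
theorem exists_lift_small [IsProper f] [Flat f] (hP : PicRel.IsRelPic f P φ)
    {B' B : Type u} [CommRing B'] [CommRing B] [IsLocalRing B'] [IsLocalRing B] [IsArtinianRing B'] [IsArtinianRing B]
    (π : B' →+* B) (hπ : Function.Surjective π) (t : B') (hker : RingHom.ker π = Ideal.span {t})
    (hann : ∀ a ∈ IsLocalRing.maximalIdeal B', a * t = 0)
    (α : Spec (CommRingCat.of B) ⟶ P.left) (β : Spec (CommRingCat.of B') ⟶ S)
    (comm : Spec.map (CommRingCat.ofHom π) ≫ β = α ≫ P.hom)
    (h2 : Subsingleton (Coh.HH (f.fiber (β (closedPoint B'))) (Coh.structureModule _) 2)) :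
    ∃ γ : Spec (CommRingCat.of B') ⟶ P.left, Spec.map (CommRingCat.ofHom π) ≫ γ = α ∧ γ ≫ P.hom = β := by
  have hπt : π t = 0 := RingHom.mem_ker.1 (hker.symm ▸ Ideal.mem_span_singleton_self t)
  have ht : t * t = 0 := hann t (IsLocalRing.le_maximalIdeal (RingHom.ker_ne_top π) (RingHom.mem_ker.2 hπt))
  obtain ⟨κ, _, _, _, hclass⟩ := exists_class_artin hP α
  letI : Algebra B' B := π.toAlgebra
  haveI : Module.Finite B' B := Module.Finite.of_surjective (Algebra.linearMap B' B) hπ
  letI : Algebra B' κ := ((algebraMap B κ).comp π).toAlgebra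
  haveI : IsScalarTower B' B κ := IsScalarTower.of_algebraMap_eq fun x => rfl
  haveI : Module.Finite B' κ := Module.Finite.trans B κ
  obtain ⟨C', _, _, _, _, _, _, r, hr⟩ := exists_gonflement (A := B') (κ' := κ)
  let t' : C' := algebraMap B' C' t
  let J : Ideal C' := Ideal.span {t'}
  have hJr : ∀ x ∈ J, r x = 0 := fun x hx => by
    obtain ⟨y, rfl⟩ := Ideal.mem_span_singleton'.1 hx
    rw [map_mul, r.commutes, show algebraMap B' κ t = algebraMap B κ (π t) from rfl, hπt, map_zero, mul_zero]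
  let rC : C' ⧸ J →+* κ := Ideal.Quotient.lift J r.toRingHom hJr
  have hrC : Function.Surjective rC := fun y => by
    obtain ⟨x, rfl⟩ := hr y
    exact ⟨Ideal.Quotient.mk J x, rfl⟩
  haveI : Nontrivial (C' ⧸ J) := rC.domain_nontrivial
  haveI : IsLocalRing (C' ⧸ J) := IsLocalRing.of_surjective' (Ideal.Quotient.mk J) Ideal.Quotient.mk_surjective
  let q : C' →+* C' ⧸ J := Ideal.Quotient.mk J
  obtain ⟨ψ, hψ⟩ : ∃ ψ : B →+* C' ⧸ J, ψ.comp π = q.comp (algebraMap B' C') := by
    refine ⟨π.liftOfSurjective hπ ⟨q.comp (algebraMap B' C'), fun x hx => ?_⟩, RingHom.liftOfRightInverse_comp _ _ _ _⟩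
    rw [hker] at hx
    obtain ⟨y, rfl⟩ := Ideal.mem_span_singleton'.1 hx
    exact RingHom.mem_ker.2 (Ideal.Quotient.eq_zero_iff_mem.2 (by
      rw [map_mul]; exact Ideal.mul_mem_left _ _ (Ideal.mem_span_singleton_self t')))
  obtain ⟨c, hc⟩ := hclass (C' ⧸ J) ψ rC hrC ((RingHom.cancel_right hπ).1 (by
    rw [RingHom.comp_assoc, hψ]
    exact RingHom.ext fun x => r.commutes x))
  let T : Over S := Over.mk (Spec.map (CommRingCat.ofHom ψ) ≫ α ≫ P.hom)
  let T' : Over S := Over.mk (Spec.map (CommRingCat.ofHom (algebraMap B' C')) ≫ β)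
  have hiw : Spec.map (CommRingCat.ofHom q) ≫ T'.hom = T.hom := by
    show _ ≫ _ ≫ _ = _ ≫ _ ≫ _
    rw [← Spec.map_comp_assoc, ← CommRingCat.ofHom_comp, ← hψ, CommRingCat.ofHom_comp, Spec.map_comp_assoc, comm]
  let i : T ⟶ T' := Over.homMk (Spec.map (CommRingCat.ofHom q)) hiw
  let p' : PicF.XT f T' ⟶ Spec (CommRingCat.of C') := PicF.XTproj f T'
  haveI : Flat p' := MorphismProperty.pullback_snd (P := @Flat) f T'.hom ‹Flat f›
  have hres : Subsingleton (Coh.HH (pullback p' (Spec.map (CommRingCat.ofHom (IsLocalRing.residue C'))))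
      (Coh.structureModule _) 2) := by
    let g := Spec.map (CommRingCat.ofHom (IsLocalRing.residue C')) ≫ T'.hom
    have hgp : g (closedPoint (IsLocalRing.ResidueField C')) = β (closedPoint B') := by
      haveI : Subsingleton (Spec (CommRingCat.of B')) := subsingleton_spec (A := B')
      show (Spec.map (CommRingCat.ofHom (IsLocalRing.residue C')) ≫
        Spec.map (CommRingCat.ofHom (algebraMap B' C')) ≫ β) (closedPoint (IsLocalRing.ResidueField C')) = _
      rw [Scheme.Hom.comp_apply, Scheme.Hom.comp_apply]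
      exact congrArg β (Subsingleton.elim _ _)
    exact S11763.subsingleton_of_iso (pullbackLeftPullbackSndIso f T'.hom _).inv 2
      (subsingleton_hh_field f g 2 (hgp.symm ▸ h2))
  let e : pullback p' (Spec.map (CommRingCat.ofHom q)) ⟶ PicF.XT f T :=
    pullback.lift (pullback.fst _ _ ≫ pullback.fst _ _) (pullback.snd _ _) (by
      rw [Category.assoc, pullback.condition, reassoc_of% pullback.condition, hiw])
  have hw : PicF.XTmap f i ≫ p' = PicF.XTproj f T ≫ Spec.map (CommRingCat.ofHom q) := PicRelBC.XTmap_snd f i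
  let k : PicF.XT f T ⟶ pullback p' (Spec.map (CommRingCat.ofHom q)) :=
    pullback.lift (PicF.XTmap f i) (PicF.XTproj f T) hw
  have hke : k ≫ e = 𝟙 _ := by
    apply pullback.hom_ext
    · simp only [k, e, Category.assoc, pullback.lift_fst, pullback.lift_fst_assoc, Category.id_comp]
      exact PicRelBC.XTmap_fst f i
    · simp only [k, e, Category.assoc, pullback.lift_snd, Category.id_comp]
  have hJm : J ≤ IsLocalRing.maximalIdeal C' :=
    (show J ≤ RingHom.ker r.toRingHom from hJr).trans (IsLocalRing.le_maximalIdeal (RingHom.ker_ne_top _))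
  obtain ⟨d, hd⟩ := surjective_pull_iq p' J hJm hres (pull e c)
  have hdc : pull (PicF.XTmap f i) d = c := by
    rw [show PicF.XTmap f i = k ≫ ExpSeq.Deform.iq p' J from (pullback.lift_fst _ _ _).symm, ← pull_pull, hd, pull_pull,
      hke]
    exact PicGrp.pullHom_id_apply _ c
  have h1 : Spec.map (CommRingCat.ofHom q) ≫ (φ T' d.1).left = Spec.map (CommRingCat.ofHom ψ) ≫ α := by
    rw [← hc]
    have h := rel_nat hP i d
    rw [hdc] at h
    exact (congrArg (fun z => z.left) h).symm
  exact exists_descend_point P.hom π hπ t hker ht ψ q hψ.symm Ideal.mk_ker α β comm (φ T' d.1).left h1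
    (Over.w (φ T' d.1))

end Groth.Agent.PicInf

end
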