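import Groth.Agent.PicInf.JacTangent
import Groth.Agent.PicInf.Relative
import Groth.Agent.PicSmooth.DegZero
import Groth.Agent.AbelMap.Degree
import Groth.Agent.AVPoincare.Exists
import Groth.Agent.S12411

/-!
`Pic⁰` of a curve over an algebraically closed field: a representing scheme carries a universal rigidified class of
degree zero, is smooth, and has dimension the genus.
-/

set_option autoImplicit false
set_option linter.unusedSectionVars false
set_option linter.style.haveILetI false
set_option backward.isDefEq.respectTransparency false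
set_option backward.isDefEq.respectTransparency.types false
set_option maxHeartbeats 2000000

universe u

open CategoryTheory CategoryTheory.Limits MonoidalCategory CartesianMonoidalCategory AlgebraicGeometry
open PicF
open Groth.Agent.W7Cube (pull pull_pull pull_cls)
open IsLocalRing (closedPoint)

attribute [local instance] Groth.Agent.W7Cube.law

noncomputable section

namespace Groth.Agent.PicInf.PicZeroCurve

/-- The fibre of a scheme over a field. -/
theorem dim_fiber_field {Ω : Type u} [Field Ω] {X : Scheme.{u}} (q : X ⟶ Spec (CommRingCat.of Ω))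
    (y : Spec (CommRingCat.of Ω)) : topologicalKrullDim ↥(q.fiber y) = topologicalKrullDim X := by
  haveI : IsIso ((Spec (CommRingCat.of Ω)).fromSpecResidueField y) := AssTensor.isIso_fromSpecResidueField _ y
  haveI : IsIso (q.fiberι y) :=
    inferInstanceAs (IsIso (pullback.fst _ ((Spec (CommRingCat.of Ω)).fromSpecResidueField y)))
  exact (Homeomorph.isHomeomorph (Scheme.homeoOfIso (asIso (q.fiberι y)))).topologicalKrullDim_eq

/-- On a curve over a field the relative degree is the degree. -/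
theorem chiDiff_field {Ω : Type u} [Field Ω] {X : Scheme.{u}} [X.Over (Spec (CommRingCat.of Ω))]
    [IsProper (X ↘ Spec (CommRingCat.of Ω))] (hd : topologicalKrullDim X ≤ 1) {L : X.Modules} (hL : Coh.IsQCoh L)
    (y : Spec (CommRingCat.of Ω)) :
    PicSmooth.chiDiff (X ↘ Spec (CommRingCat.of Ω)) L y = Pic13.curveDeg Ω (X ↘ Spec (CommRingCat.of Ω)) L := by
  have hfib : ∀ z, topologicalKrullDim ↥((X ↘ Spec (CommRingCat.of Ω)).fiber z) ≤ ((1 : ℕ) : WithBot ℕ∞) := fun z =>
    (dim_fiber_field _ z).le.trans hd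
  have key : ∀ (M : X.Modules), Coh.IsQCoh M →
      PerfAux.eulerChar (X ↘ Spec (CommRingCat.of Ω)) M y = FGA.eulerCharLE Ω X M 1 := by
    intro M hM
    unfold PerfAux.eulerChar FGA.eulerCharLE
    rw [finsum_eq_sum_of_support_subset _ (s := Finset.range 2) (fun i hi => ?_)]
    · refine Finset.sum_congr rfl fun i _ => ?_
      rw [AbelMap.betti_field hM y i]
    · by_contra hi2
      refine Function.mem_support.1 hi ?_
      haveI : Subsingleton (Coh.HH X M i) :=
        PicSmooth.subsingleton_hh_of_affine_base (X ↘ Spec (CommRingCat.of Ω)) 1 hfib M hM i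
          (by simpa using hi2)
      rw [AbelMap.betti_field hM y i, show CurveRR.h Ω M i = 0 from Module.finrank_zero_of_subsingleton]
      simp
  show _ - _ = _ - _
  rw [key L hL, key _ (TMul.isQCoh_of_isInvertible (PicLoc.isInvertible_structureModule X))]

section General

variable {X S : Scheme.{u}} (f : X ⟶ S) (σ : S ⟶ X) (hσ : σ ≫ f = 𝟙 S)
  (ha : ∀ (T : Over S) (U : T.left.Opens), IsIso ((PicF.XTproj f T).app U))
  {P : Over S} {φ : ∀ T : Over S, PicF.Cl (PicF.XT f T) → (T ⟶ P)}
  (hP : AbDual.IsRelPicZeroK Scheme.fppfPrecoverage f P φ)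

/-- Classes from the base do not change being in `Pic⁰`. -/
theorem picZero_mul_base {T : Over S} {c : PicLoc.PicSet (XT f T)} (h : AbDual.IsPicZeroCl f T c.1)
    (m : PicLoc.PicSet T.left) : AbDual.IsPicZeroCl f T (c * pull (XTproj f T) m).1 :=
  AbPrim.picZero_mul_base (A := Over.mk f) h m

include hP in
/-- Classes from the base are invisible. -/
theorem phi_mul_base {T : Over S} {c : PicLoc.PicSet (XT f T)} (h : AbDual.IsPicZeroCl f T c.1)
    (m : PicLoc.PicSet T.left) : φ T (c * pull (XTproj f T) m).1 = φ T c.1 := by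
  have h' := picZero_mul_base f h m
  obtain ⟨N, hN, rfl⟩ := PicGrp.exists_eq_cls m
  choose U hU hUN using id hN
  refine Over.OverMorphism.ext ((T.left.openCoverOfIsOpenCover U (eq_top_iff.2 fun x _ =>
    TopologicalSpace.Opens.mem_iSup.2 ⟨x, hU x⟩)).hom_ext _ _ fun x => ?_)
  let g := AbDual.ovrHom T (U x).ι
  have hw : PicF.XTmap f g ≫ PicF.XTproj f T = PicF.XTproj f (AbDual.ovr T (U x).ι) ≫ (U x).ι :=
    Limits.pullback.lift_snd _ _ _
  have h1 : pull (U x).ι (PicGrp.cls N hN) = 1 := by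
    rw [pull_cls, PicGrp.cls_eq_one_iff]
    exact ⟨((Scheme.Modules.restrictFunctorIsoPullback (U x).ι).app N).symm ≪≫ (hUN x).some⟩
  have e : pull (PicF.XTmap f g) (c * pull (XTproj f T) (PicGrp.cls N hN)) = pull (PicF.XTmap f g) c := by
    refine (map_mul _ _ _).trans ((congrArg (_ * ·) ?_).trans (_root_.mul_one _))
    refine ((pull_pull (PicF.XTmap f g) (XTproj f T) (PicGrp.cls N hN)).trans
      ((congrArg (fun m => pull m (PicGrp.cls N hN)) hw).trans ?_))
    exact (pull_pull _ _ _).symm.trans ((congrArg (pull _) h1).trans (map_one _))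
  have n1 := hP.natural T _ g _ h'
  have n2 := hP.natural T _ g _ h
  have e' : g ≫ φ T (c * pull (XTproj f T) (PicGrp.cls N hN)).1 = g ≫ φ T c.1 :=
    n1.symm.trans ((congrArg (φ _) (congrArg Subtype.val e)).trans n2)
  exact congrArg CommaMorphism.left e'

include hσ ha hP in
/-- Rigidified `Pic⁰` classes exhaust the points. -/
theorem exists_rig (T : Over S) (g : T ⟶ P) : ∃ c : PicLoc.PicSet (XT f T),
    AbDual.IsPicZeroCl f T c.1 ∧ pull (secT f σ hσ T) c = 1 ∧ φ T c.1 = g := by
  obtain ⟨R, hR, hRu⟩ := hP.locallySurjective T g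
  obtain ⟨κ, U, v, hR', hv⟩ := S12404.exists_small_cover hR
  obtain ⟨_, _, _⟩ := S12404.sigma_props hR'
  choose c hc hcg using fun i => hRu (v i) (hv i)
  let T' := AbDual.ovr T (Sigma.desc v)
  let pcl : ∀ i, PicLoc.PicSet (XT f (AbDual.ovr T (v i))) :=
    fun i => ⟨c i, (hc i).choose, (hc i).choose_spec.1, (hc i).choose_spec.2.1⟩
  let d : ∀ i, PicLoc.PicSet (XT f (AbDual.ovr T (v i))) := fun i =>
    pcl i * pull (XTproj f _) (pull (secT f σ hσ _) (pcl i))⁻¹
  have hd1 : ∀ i, pull (secT f σ hσ _) (d i) = 1 := fun i => by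
    simp only [d, map_mul, pull_pull, S12403.secT_proj f σ hσ]
    rw [show ∀ x, pull (𝟙 (AbDual.ovr T (v i)).left) x = x from fun x => by
      obtain ⟨N, hN, rfl⟩ := PicGrp.exists_eq_cls x
      exact Subtype.ext (Quot.sound ⟨(Scheme.Modules.pullbackId _).app N⟩), mul_inv_cancel]
  have hd0 : ∀ i, AbDual.IsPicZeroCl f _ (d i).1 := fun i => picZero_mul_base f (hc i) _
  have hd2 : ∀ i, φ _ (d i).1 = AbDual.ovrHom T (v i) ≫ g := fun i =>
    (phi_mul_base f hP (c := pcl i) (hc i) _).trans (hcg i)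
  choose D hD hDd using fun i => PicGrp.exists_eq_cls (d i)
  obtain ⟨C, hC, hCi⟩ := LBDesc.exists_invertible_disjointUnion _ (S12404.disjoint_summand f T v)
    (S12404.cover_summand f T v) D hD
  let C' : PicLoc.PicSet (XT f T') := PicGrp.cls C hC
  have hC' : ∀ i, pull (XTmap f (S12404.summand T v i)) C' = d i := fun i => by
    rw [hDd i]
    exact Subtype.ext (Quot.sound (hCi i))
  haveI : ∀ i, IsOpenImmersion (S12404.summand T v i).left := fun i => inferInstanceAs (IsOpenImmersion (Sigma.ι U i))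
  have hC0 : AbDual.IsPicZeroCl f T' C'.1 := AVPoincare.picZero_of_openCover (A := Over.mk f) _
    (S12404.summand T v) (fun t => (sigmaOpenCover U).exists_eq t) C'
    fun i => by
      refine (congrArg (fun x : PicLoc.PicSet (XT f _) => AbDual.IsPicZeroCl f _ x.1) (hC' i)).mpr ?_
      exact hd0 i
  have hCs : pull (secT f σ hσ T') C' = 1 := by
    obtain ⟨N, hN, hN'⟩ := PicGrp.exists_eq_cls (pull (secT f σ hσ T') C')
    rw [hN']
    refine Subtype.ext (Quot.sound (LBDesc.trivial_of_disjointUnion (Sigma.ι U)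
      (fun a b hab => disjoint_opensRange_sigmaι U a b hab) (fun y => (sigmaOpenCover U).exists_eq y) N fun i => ?_))
    refine PicFam.nonempty_iso_of_cl_eq (congrArg Subtype.val (?_ : pull (Sigma.ι U i) (PicGrp.cls N hN) = 1))
    rw [← hN']
    change pull ((S12404.summand T v i).left) (pull (secT f σ hσ T') C') = 1
    rw [pull_pull, ← hd1 i, ← hC' i, pull_pull, S12403.secT_nat f σ hσ (S12404.summand T v i)]
  have hnat : ∀ {T₁ T₂ : Over S} (q : T₁ ⟶ T₂) (x : PicLoc.PicSet (XT f T₂)), AbDual.IsPicZeroCl f T₂ x.1 →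
      φ T₁ (pull (XTmap f q) x).1 = q ≫ φ T₂ x.1 := fun q x hx => hP.natural _ _ q x.1 hx
  have hCg : φ T' C'.1 = AbDual.ovrHom T (Sigma.desc v) ≫ g := by
    refine Over.OverMorphism.ext (Sigma.hom_ext _ _ fun i => ?_)
    have e := hnat (S12404.summand T v i) C' hC0
    rw [hC' i, hd2 i, ← S12404.summand_comp T v i, Category.assoc] at e
    exact (congrArg CommaMorphism.left e).symm
  let a := AbDual.ovrHom T' (pullback.fst (Sigma.desc v) (Sigma.desc v))
  let b : AbDual.ovr T' (pullback.fst (Sigma.desc v) (Sigma.desc v)) ⟶ T' :=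
    Over.homMk (pullback.snd _ _) (pullback.condition_assoc T.hom).symm
  have hab : a ≫ AbDual.ovrHom T (Sigma.desc v) = b ≫ AbDual.ovrHom T (Sigma.desc v) :=
    Over.OverMorphism.ext pullback.condition
  have hrig : ∀ q : AbDual.ovr T' (pullback.fst (Sigma.desc v) (Sigma.desc v)) ⟶ T',
      pull (secT f σ hσ _) (pull (XTmap f q) C') = 1 := fun q => by
    rw [pull_pull, S12403.secT_nat, ← pull_pull, hCs, map_one]
  have hglue : pull (XTmap f a) C' = pull (XTmap f b) C' := by
    refine LBDesc.rig_ext f σ hσ ha hP (LBDesc.picZero_XTmap f a hC0) (LBDesc.picZero_XTmap f b hC0)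
      (hrig a) (hrig b) ?_
    rw [hnat a C' hC0, hnat b C' hC0, hCg, ← Category.assoc, ← Category.assoc, hab]
  obtain ⟨c₀, hc₀, -⟩ := S12403.result f σ hσ ha T (Sigma.desc v)
    ⟨C'.1, C'.2, congrArg Subtype.val hCs⟩ (congrArg Subtype.val hglue)
  let c₁ : PicLoc.PicSet (XT f T) := ⟨c₀.1, c₀.2.1⟩
  have hp : pull (XTmap f (AbDual.ovrHom T (Sigma.desc v))) c₁ = C' := Subtype.ext hc₀
  haveI : Surjective (AbDual.ovrHom T (Sigma.desc v)).left := ‹Surjective (Sigma.desc v)›
  haveI : LocallyOfFiniteType (AbDual.ovrHom T (Sigma.desc v)).left := inferInstanceAs (LocallyOfFiniteType (Sigma.desc v))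
  have h10 : AbDual.IsPicZeroCl f T c₁.1 :=
    AVPoincare.picZero_of_surjective (A := Over.mk f) (AbDual.ovrHom T (Sigma.desc v)) c₁
      ((congrArg (fun x : PicLoc.PicSet (XT f T') => AbDual.IsPicZeroCl f T' x.1) hp).mpr hC0)
  refine ⟨c₁, h10, Subtype.ext c₀.2.2, ?_⟩
  have e := hnat (AbDual.ovrHom T (Sigma.desc v)) c₁ h10
  rw [hp, hCg] at e
  refine Over.OverMorphism.ext ((cancel_epi (Sigma.desc v)).1 ?_)
  exact (congrArg CommaMorphism.left e).symm

include hσ ha hP in
/-- A universal rigidified class in `Pic⁰`. -/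
theorem exists_universal : ∃ ξ : PicF.Rig f σ hσ P, AbDual.IsPicZeroCl f P ξ.1 ∧
    ∀ (T : Over S) (c : PicF.Rig f σ hσ T), AbDual.IsPicZeroCl f T c.1 →
      ∃! g : T ⟶ P, PicF.pullCl (PicF.XTmap f g) ξ.1 = c.1 := by
  obtain ⟨x, hx0, hx1, hx2⟩ := exists_rig f σ hσ ha hP P (𝟙 P)
  refine ⟨⟨x.1, x.2, congrArg Subtype.val hx1⟩, hx0, fun T c hc => ?_⟩
  have hφ : ∀ g : T ⟶ P, φ T (pull (XTmap f g) x).1 = g := fun g =>
    ((hP.natural P T g x.1 hx0).trans (congrArg (g ≫ ·) hx2)).trans (Category.comp_id g)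
  refine ⟨φ T c.1, congrArg Subtype.val (?_ : pull (XTmap f (φ T c.1)) x = ⟨c.1, c.2.1⟩), fun g hg => ?_⟩
  · refine LBDesc.rig_ext f σ hσ ha hP (LBDesc.picZero_XTmap f _ hx0) hc ?_ (Subtype.ext c.2.2) (hφ _)
    rw [pull_pull, S12403.secT_nat, ← pull_pull, hx1, map_one]
  · exact (hφ g).symm.trans (congrArg (φ T) hg)

end General

variable {k : Type u} [Field k] [IsAlgClosed k] {C : Scheme.{u}} [C.Over (Spec (CommRingCat.of k))]
  [IsProper (C ↘ Spec (CommRingCat.of k))] [Smooth (C ↘ Spec (CommRingCat.of k))]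
  [GeometricallyConnected (C ↘ Spec (CommRingCat.of k))] (hdim : topologicalKrullDim C = 1)

include hdim

/-- A module of degree zero is algebraically equivalent to zero on every geometric fibre. -/
theorem isAlgTrivialAt_of_delta (T : Over (Spec (CommRingCat.of k)))
    {L : (XT (C ↘ Spec (CommRingCat.of k)) T).Modules} (hL : PicF.IsInvertible L) (t : T.left)
    (h : PicSmooth.delta (C ↘ Spec (CommRingCat.of k)) T L t = 0) :
    AbDual.IsAlgTrivialAt (XTproj (C ↘ Spec (CommRingCat.of k)) T) L t := by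
  intro Ω _ _ σ hσ
  let f := C ↘ Spec (CommRingCat.of k)
  let p := XTproj f T
  haveI : IsProper p := MorphismProperty.pullback_snd _ _ ‹IsProper f›
  haveI : Smooth p := MorphismProperty.pullback_snd _ _ ‹Smooth f›
  haveI : GeometricallyConnected p := inferInstanceAs (GeometricallyConnected (pullback.snd f T.hom))
  letI : (pullback p σ).Over (Spec (CommRingCat.of Ω)) := ⟨pullback.snd p σ⟩
  haveI : IsProper (pullback p σ ↘ Spec (CommRingCat.of Ω)) := MorphismProperty.pullback_snd _ _ ‹_›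
  haveI : Smooth (pullback p σ ↘ Spec (CommRingCat.of Ω)) := MorphismProperty.pullback_snd _ _ ‹_›
  haveI : ConnectedSpace ↥(pullback p σ) :=
    GeometricallyConnected.geometrically_connectedSpace (f := p) _ _ _ (.of_hasPullback _ _)
  let y : Spec (CommRingCat.of Ω) := IsLocalRing.closedPoint Ω
  have hy : σ y = t := by
    have : σ y ∈ Set.range σ.base := ⟨y, rfl⟩
    rw [hσ] at this
    exact this
  have hd : topologicalKrullDim ↥(pullback p σ) = 1 :=
    ((dim_fiber_field (pullback.snd p σ) y).symm.trans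
      ((DimField.dim_fiber_eq_of_isPullback (IsPullback.of_hasPullback p σ) y).trans
        (DimField.dim_fiber_eq_of_isPullback
          (show IsPullback (pullback.fst f T.hom) p f T.hom from IsPullback.of_hasPullback f T.hom) (σ y)))).trans
      (PicInf.Jac.dim_fiber hdim _)
  rw [S12411.result Ω (pullback p σ) hd _ (PicLoc.isInvertible_pullback _ hL),
    ← chiDiff_field hd.le (TMul.isQCoh_of_isInvertible (PicLoc.isInvertible_pullback _ hL)) y]
  have h2 := PicSmooth.chiDiff_pull (IsPullback.of_hasPullback p σ) hL y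
  rw [hy] at h2
  exact h2.trans h

/-- **`Pic⁰` is the degree zero part.** -/
theorem picZero_iff (T : Over (Spec (CommRingCat.of k))) (c : PicLoc.PicSet (XT (C ↘ Spec (CommRingCat.of k)) T)) :
    AbDual.IsPicZeroCl (C ↘ Spec (CommRingCat.of k)) T c.1 ↔ PicInf.Jac.Deg0 T c := by
  have hd := fun s => PicInf.Jac.dim_fiber (k := k) hdim s
  constructor
  · rintro ⟨L, he, hL, hLt⟩
    obtain rfl : c = PicGrp.cls L hL := Subtype.ext he.symm
    rw [PicInf.Jac.deg0_cls hdim]
    intro t
    rw [PicSmooth.delta_eq (C ↘ Spec (CommRingCat.of k)) hd T L hL t,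
      PicSmooth.euler_eq_of_isAlgTrivialAt (C ↘ Spec (CommRingCat.of k)) hd T L hL t (hLt t), sub_self]
  · intro h
    obtain ⟨L, hL, rfl⟩ := PicGrp.exists_eq_cls c
    rw [PicInf.Jac.deg0_cls hdim] at h
    exact ⟨L, rfl, hL, fun t => isAlgTrivialAt_of_delta hdim T hL t (h t)⟩

variable {σ : Spec (CommRingCat.of k) ⟶ C} {hσ : σ ≫ (C ↘ Spec (CommRingCat.of k)) = 𝟙 (Spec (CommRingCat.of k))}
  {J : Over (Spec (CommRingCat.of k))} (ξ : PicF.Rig (C ↘ Spec (CommRingCat.of k)) σ hσ J)
  (hξ : FGA.HasFibreDegreeZeroCl (C ↘ Spec (CommRingCat.of k)) J ξ.1)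
  (huniv : ∀ (T : Over (Spec (CommRingCat.of k))) (c : PicF.Rig (C ↘ Spec (CommRingCat.of k)) σ hσ T),
    FGA.HasFibreDegreeZeroCl (C ↘ Spec (CommRingCat.of k)) T c.1 →
    ∃! g : T ⟶ J, PicF.pullCl (PicF.XTmap (C ↘ Spec (CommRingCat.of k)) g) ξ.1 = c.1)

include hξ huniv

/-- The closed fibre of an artinian family of curves has no second cohomology, so classes lift. -/
theorem exists_lift_class {B : Type u} [CommRing B] [IsLocalRing B] [IsArtinianRing B] (I : Ideal B)
    (hI : I ≤ IsLocalRing.maximalIdeal B) (β : Spec (CommRingCat.of B) ⟶ Spec (CommRingCat.of k))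
    (c : PicLoc.PicSet (XT (C ↘ Spec (CommRingCat.of k))
      (Over.mk (Spec.map (CommRingCat.ofHom (Ideal.Quotient.mk I)) ≫ β)))) :
    ∃ d : PicLoc.PicSet (XT (C ↘ Spec (CommRingCat.of k)) (Over.mk β)),
      pull (XTmap (C ↘ Spec (CommRingCat.of k))
        (Over.homMk (Spec.map (CommRingCat.ofHom (Ideal.Quotient.mk I))) rfl :
          Over.mk (Spec.map (CommRingCat.ofHom (Ideal.Quotient.mk I)) ≫ β) ⟶ Over.mk β)) d = c := by
  let f := C ↘ Spec (CommRingCat.of k)
  let q := CommRingCat.ofHom (Ideal.Quotient.mk I)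
  let T : Over (Spec (CommRingCat.of k)) := Over.mk (Spec.map q ≫ β)
  let T' : Over (Spec (CommRingCat.of k)) := Over.mk β
  let i : T ⟶ T' := Over.homMk (Spec.map q) rfl
  let p' : PicF.XT f T' ⟶ Spec (CommRingCat.of B) := PicF.XTproj f T'
  haveI : Flat p' := MorphismProperty.pullback_snd (P := @Flat) f T'.hom inferInstance
  haveI : IsProper p' := MorphismProperty.pullback_snd (P := @IsProper) f T'.hom inferInstance
  let r := Spec.map (CommRingCat.ofHom (IsLocalRing.residue B))
  haveI : IsProper (pullback.snd p' r) := MorphismProperty.pullback_snd (P := @IsProper) _ _ ‹_›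
  have hres : Subsingleton (Coh.HH (pullback p' r) (Coh.structureModule _) 2) :=
    PicSmooth.subsingleton_hh_of_affine_base (pullback.snd p' r) 1 (fun y =>
      (((DimField.dim_fiber_eq_of_isPullback (IsPullback.of_hasPullback p' r) y).trans
        (DimField.dim_fiber_eq_of_isPullback
          (show IsPullback (pullback.fst f T'.hom) p' f T'.hom from IsPullback.of_hasPullback f T'.hom) (r y))).trans
        (PicInf.Jac.dim_fiber hdim _)).le) _
      (TMul.isQCoh_of_isInvertible (PicLoc.isInvertible_structureModule _)) 2 (by norm_num)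
  let e : pullback p' (Spec.map q) ⟶ PicF.XT f T :=
    pullback.lift (pullback.fst _ _ ≫ pullback.fst _ _) (pullback.snd _ _) (by
      rw [Category.assoc, pullback.condition, reassoc_of% pullback.condition]; rfl)
  have hw : PicF.XTmap f i ≫ p' = PicF.XTproj f T ≫ Spec.map q := PicRelBC.XTmap_snd f i
  let k' : PicF.XT f T ⟶ pullback p' (Spec.map q) := pullback.lift (PicF.XTmap f i) (PicF.XTproj f T) hw
  have hke : k' ≫ e = 𝟙 _ := by
    apply pullback.hom_ext
    · simp only [k', e, Category.assoc, pullback.lift_fst, pullback.lift_fst_assoc, Category.id_comp]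
      exact PicRelBC.XTmap_fst f i
    · simp only [k', e, Category.assoc, pullback.lift_snd, Category.id_comp]
  obtain ⟨d, hd⟩ := PicInf.surjective_pull_iq p' I hI hres (pull e c)
  refine ⟨d, ?_⟩
  rw [show PicF.XTmap f i = k' ≫ ExpSeq.Deform.iq p' I from (pullback.lift_fst _ _ _).symm, ← pull_pull, hd,
    pull_pull, hke]
  exact PicGrp.pullHom_id_apply _ c

/-- **A Jacobian is smooth.** -/
theorem smooth_of_universal [LocallyOfFiniteType J.hom] : Smooth J.hom := by
  refine InfLift.smooth_of_small_lift _ fun B' B _ _ _ _ _ _ π hπ _ α β _ comm => ?_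
  let f := C ↘ Spec (CommRingCat.of k)
  let I := RingHom.ker π
  have hI : I ≤ IsLocalRing.maximalIdeal B' := IsLocalRing.le_maximalIdeal (RingHom.ker_ne_top π)
  let q := CommRingCat.ofHom (Ideal.Quotient.mk I)
  let ψ : CommRingCat.of B ≅ CommRingCat.of (B' ⧸ I) :=
    (RingHom.quotientKerEquivOfSurjective hπ).symm.toCommRingCatIso
  have hq : CommRingCat.ofHom π ≫ ψ.hom = q := CommRingCat.hom_ext (RingHom.ext fun x =>
    (RingHom.quotientKerEquivOfSurjective hπ).injective (by
      show RingHom.quotientKerEquivOfSurjective hπ ((RingHom.quotientKerEquivOfSurjective hπ).symm (π x)) = _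
      rw [RingEquiv.apply_symm_apply]
      rfl))
  haveI : Nontrivial (B' ⧸ I) := Ideal.Quotient.nontrivial_iff.2 (RingHom.ker_ne_top π)
  haveI : IsLocalRing (B' ⧸ I) :=
    IsLocalRing.of_surjective' (Ideal.Quotient.mk I) Ideal.Quotient.mk_surjective
  let T : Over (Spec (CommRingCat.of k)) := Over.mk (Spec.map q ≫ β)
  let gα : T ⟶ J := Over.homMk (Spec.map ψ.hom ≫ α) (by
    show (Spec.map ψ.hom ≫ α) ≫ J.hom = Spec.map q ≫ β
    rw [Category.assoc, ← comm, ← Spec.map_comp_assoc, hq])
  let i : T ⟶ Over.mk β := Over.homMk (Spec.map q) rfl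
  obtain ⟨d, hd⟩ := exists_lift_class hdim ξ hξ huniv I hI β (pull (XTmap f gα) (PicInf.Jac.xi ξ))
  haveI : Subsingleton (Spec (CommRingCat.of B')) := PicInf.subsingleton_spec (A := B')
  have hsurj : Function.Surjective i.left := fun t =>
    ⟨IsLocalRing.closedPoint (B' ⧸ I), Subsingleton.elim (α := Spec (CommRingCat.of B')) _ _⟩
  obtain ⟨γ, hγ, -⟩ := PicInf.Jac.exists_map hdim ξ huniv β d (PicInf.Jac.deg0_of_pull hdim i hsurj
    (hd.symm ▸ PicInf.Jac.deg0_pull hdim gα (c := PicInf.Jac.xi ξ) hξ))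
  refine ⟨γ.left, ?_, Over.w γ⟩
  have h1 : i ≫ γ = gα := by
    refine PicInf.Jac.map_ext hdim ξ hξ huniv (τ := Spec.map q ≫ β) ?_
    rw [← PicInf.rel_pull_comp, hγ]
    exact hd
  apply (cancel_epi (Spec.map ψ.hom)).1
  rw [← Spec.map_comp_assoc, hq]
  exact congrArg CommaMorphism.left h1

omit hξ huniv

/-- **The dimension of `Pic⁰` of a curve is its genus.** -/
theorem topologicalKrullDim_eq (P : Over (Spec (CommRingCat.of k))) [LocallyOfFiniteType P.hom]
    (φ : ∀ T : Over (Spec (CommRingCat.of k)), PicF.Cl (PicF.XT (C ↘ Spec (CommRingCat.of k)) T) → (T ⟶ P))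
    (hP : AbDual.IsRelPicZeroK Scheme.fppfPrecoverage (C ↘ Spec (CommRingCat.of k)) P φ) :
    topologicalKrullDim P.left = (Module.finrank k (Coh.HH C (Coh.structureModule C) 1) : WithBot ℕ∞) := by
  let f := C ↘ Spec (CommRingCat.of k)
  haveI : Nonempty C := by
    by_contra h
    rw [not_nonempty_iff] at h
    haveI : IsEmpty (TopologicalSpace.IrreducibleCloseds ↥C) :=
      ⟨fun Z => h.false Z.isIrreducible.nonempty.choose⟩
    rw [topologicalKrullDim, Order.krullDim_eq_bot] at hdim
    exact WithBot.bot_ne_coe hdim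
  haveI : JacobsonSpace C := LocallyOfFiniteType.jacobsonSpace f
  obtain ⟨p, -, hp⟩ := nonempty_inter_closedPoints (Z := (Set.univ : Set ↥C)) Set.univ_nonempty
    isOpen_univ.isLocallyClosed
  let σ := pointOfClosedPoint f p hp
  have hσ : σ ≫ f = 𝟙 _ := pointOfClosedPoint_comp f p hp
  have ha := LBDesc.isIso_XTproj_app f σ hσ
  obtain ⟨ξ, hξ, huniv⟩ := exists_universal f σ hσ ha hP
  have hξ' : FGA.HasFibreDegreeZeroCl f P ξ.1 := (picZero_iff hdim P ⟨ξ.1, ξ.2.1⟩).1 hξ
  have huniv' : ∀ (T : Over (Spec (CommRingCat.of k))) (c : PicF.Rig f σ hσ T),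
      FGA.HasFibreDegreeZeroCl f T c.1 → ∃! g : T ⟶ P, PicF.pullCl (PicF.XTmap f g) ξ.1 = c.1 :=
    fun T c hc => huniv T c ((picZero_iff hdim T ⟨c.1, c.2.1⟩).2 hc)
  haveI : Smooth P.hom := smooth_of_universal hdim ξ hξ' huniv'
  exact PicInf.Jac.topologicalKrullDim_eq hdim ξ hξ' huniv'

end Groth.Agent.PicInf.PicZeroCurve
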