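import Groth.Agent.PicInf.Lift
import Groth.Agent.PicInf.Dim
import Groth.Agent.LocalDimBC.Scheme
import Groth.Agent.S1617
import Groth.Agent.S17906
import Mathlib.AlgebraicGeometry.Morphisms.LocalFlatDescent

/-!
Smoothness and dimension of a Picard scheme over a field, through the algebraic closure.
-/

set_option autoImplicit false
set_option linter.unusedSectionVars false
set_option linter.style.haveILetI false
set_option backward.isDefEq.respectTransparency false
set_option backward.isDefEq.respectTransparency.types false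
set_option maxHeartbeats 1000000

universe u

open CategoryTheory CategoryTheory.Limits AlgebraicGeometry Opposite
open Groth.Agent.W7Cube (pull pull_pull)
open IsLocalRing (closedPoint)

attribute [local instance] Groth.Agent.W7Cube.law

noncomputable section

namespace Groth.Agent.PicInf

theorem mem_smoothLocus_baseChange {X S S' X' : Scheme.{u}} (q : X ⟶ S) [LocallyOfFinitePresentation q] (g : S' ⟶ S)
    (e : X' ⟶ X) (q' : X' ⟶ S') [LocallyOfFinitePresentation q'] (h : IsPullback e q' q g) {x' : X'} (hx : e x' ∈ q.smoothLocus) :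
    x' ∈ q'.smoothLocus := by
  refine (InfLift.mem_smoothLocus_iff_nhd q' x').1 ⟨e ⁻¹ᵁ q.smoothLocus, hx, ?_⟩
  exact MorphismProperty.of_isPullback ((isPullback_morphismRestrict e q.smoothLocus).paste_vert h)
    (InfLift.smooth_ι_smoothLocus q)

section field

variable {K : Type u} [Field K] (G : Over (Spec (CommRingCat.of K))) [LocallyOfFiniteType G.hom]
  (σ : Over.mk (𝟙 (Spec (CommRingCat.of K))) ⟶ G)

theorem regular_iff_dim {n : ℕ}
    (hn : Module.finrank (IsLocalRing.ResidueField (G.left.presheaf.stalk (σ.left (closedPoint K))))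
      (IsLocalRing.CotangentSpace (G.left.presheaf.stalk (σ.left (closedPoint K)))) = n) :
    σ.left (closedPoint K) ∈ G.hom.smoothLocus ↔
      ringKrullDim (G.left.presheaf.stalk (σ.left (closedPoint K))) = (n : WithBot ℕ∞) := by
  haveI : IsLocallyNoetherian G.left := LocallyOfFiniteType.isLocallyNoetherian G.hom
  haveI := InfLift.lfp_of_lft G.hom
  rw [← (section_chart G σ).2, isRegularLocalRing_iff,
    IsLocalRing.spanFinrank_maximalIdeal_eq_finrank_cotangentSpace, hn, eq_comm]

end field

variable {k : Type u} [Field k] {X : Scheme.{u}} (f : X ⟶ Spec (CommRingCat.of k))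
variable {P : Over (Spec (CommRingCat.of k))}
variable (φ : ∀ T : Over (Spec (CommRingCat.of k)), PicF.Cl (PicF.XT f T) → (T ⟶ P))
variable (K : Type u) [Field K] [Algebra k K]

/-- The base changed scheme. -/
abbrev PK (P : Over (Spec (CommRingCat.of k))) : Over (Spec (CommRingCat.of K)) :=
  Over.mk (pullback.snd P.hom (gK k K))

/-- The base changed family of maps. -/
def phiK (T : Over (Spec (CommRingCat.of K))) (c : PicF.Cl (PicF.XT (pullback.snd f (gK k K)) T)) :
    T ⟶ PK K P :=
  Over.homMk
    (pullback.lift (φ (Over.mk (T.hom ≫ gK k K)) (PicF.pullCl (pullbackLeftPullbackSndIso f (gK k K) T.hom).inv c)).left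
      T.hom (Over.w (φ (Over.mk (T.hom ≫ gK k K)) (PicF.pullCl (pullbackLeftPullbackSndIso f (gK k K) T.hom).inv c))))
    (pullback.lift_snd _ _ _)

variable {f φ} (hP : PicRel.IsRelPic f P φ)
include hP

theorem isRelPic_phiK : PicRel.IsRelPic (pullback.snd f (gK k K)) (PK K P) (phiK f φ K) :=
  S17906.result f (gK k K) P φ hP

theorem phiK_one_fst :
    (phiK f φ K (pt1 K) (1 : PicLoc.PicSet (PicF.XT (pullback.snd f (gK k K)) (pt1 K))).1).left ≫
        pullback.fst P.hom (gK k K) =
      gK k K ≫ (φ (Over.mk (𝟙 (Spec (CommRingCat.of k)))) (PicF.cl (Coh.structureModule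
        (PicF.XT f (Over.mk (𝟙 (Spec (CommRingCat.of k)))))))).left := by
  let j := PicRelBC.eT f (gK k K) (pt1 K)
  let g : PicRelBC.bar (gK k K) (pt1 K) ⟶ Over.mk (𝟙 (Spec (CommRingCat.of k))) :=
    Over.homMk (gK k K) (by simp)
  have h := nat_pull hP g (1 : PicLoc.PicSet (PicF.XT f (Over.mk (𝟙 (Spec (CommRingCat.of k))))))
  rw [map_one] at h
  refine (pullback.lift_fst _ _ _).trans ?_
  refine Eq.trans ?_ (congrArg (fun q => q.left) h)
  show (φ _ (pull j.hom (1 : PicLoc.PicSet (PicF.XT (pullback.snd f (gK k K)) (pt1 K)))).1).left = _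
  rw [map_one]

variable [IsProper f] [LocallyOfFiniteType P.hom] [IsAlgClosed K]
include K

theorem smooth_of_mem_smoothLocus
    (he : (φ (Over.mk (𝟙 (Spec (CommRingCat.of k)))) (PicF.cl (Coh.structureModule
      (PicF.XT f (Over.mk (𝟙 (Spec (CommRingCat.of k)))))))).left (closedPoint k) ∈ P.hom.smoothLocus) :
    Smooth P.hom := by
  haveI := InfLift.lfp_of_lft P.hom
  haveI : IsProper (pullback.snd f (gK k K)) := MorphismProperty.pullback_snd _ _ ‹_›
  haveI : LocallyOfFiniteType (PK K P).hom := MorphismProperty.pullback_snd P.hom (gK k K) ‹_›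
  haveI := InfLift.lfp_of_lft (PK K P).hom
  have hP' := isRelPic_phiK K hP
  have hfst : pullback.fst P.hom (gK k K)
      ((phiK f φ K (pt1 K) (1 : PicLoc.PicSet (PicF.XT (pullback.snd f (gK k K)) (pt1 K))).1).left (closedPoint K)) ∈
        P.hom.smoothLocus := by
    refine (congrArg (fun z => z ∈ P.hom.smoothLocus) congr($(phiK_one_fst K hP) (closedPoint K))).mpr ?_
    have hz : gK k K (closedPoint K) = closedPoint k := Subsingleton.elim (α := PrimeSpectrum k) _ _
    rw [Scheme.Hom.comp_apply, hz]
    exact he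
  have h := smooth_of_kernelLifts hP' (kernelLifts_of_mem_smoothLocus hP'
    (mem_smoothLocus_baseChange P.hom (gK k K) _ _ (IsPullback.of_hasPullback _ _) hfst))
  haveI : Surjective (gK k K) := ⟨fun z => ⟨closedPoint K, Subsingleton.elim (α := PrimeSpectrum k) _ _⟩⟩
  haveI : Flat (gK k K) := by
    rw [HasRingHomProperty.Spec_iff (P := @Flat)]
    exact RingHom.flat_algebraMap_iff.2 inferInstance
  exact MorphismProperty.of_pullback_snd_of_descendsAlong (P := @Smooth)
    (Q := @Surjective ⊓ @Flat ⊓ @QuasiCompact) (g := gK k K) ⟨⟨inferInstance, inferInstance⟩, inferInstance⟩ h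

/-- At a closed point of a smooth Picard scheme the dimension is `h¹`. -/
theorem dim_closedPoint [Smooth P.hom] {p : P.left} (hp : IsClosed ({p} : Set P.left)) :
    letI : X.Over (Spec (CommRingCat.of k)) := ⟨f⟩
    ringKrullDim (P.left.presheaf.stalk p) =
      (Module.finrank k (Coh.HH X (Coh.structureModule X) 1) : WithBot ℕ∞) := by
  letI : X.Over (Spec (CommRingCat.of k)) := ⟨f⟩
  haveI : IsProper (X ↘ Spec (CommRingCat.of k)) := ‹IsProper f›
  haveI := InfLift.lfp_of_lft P.hom
  haveI : IsProper (pullback.snd f (gK k K)) := MorphismProperty.pullback_snd _ _ ‹_›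
  haveI : LocallyOfFiniteType (PK K P).hom := MorphismProperty.pullback_snd P.hom (gK k K) ‹_›
  haveI : Surjective (gK k K) := ⟨fun z => ⟨closedPoint K, Subsingleton.elim (α := PrimeSpectrum k) _ _⟩⟩
  haveI : JacobsonSpace (PK K P).left := LocallyOfFiniteType.jacobsonSpace (PK K P).hom
  obtain ⟨q₀, hq₀⟩ := (pullback.fst P.hom (gK k K)).surjective p
  obtain ⟨q, hq, hqc⟩ := nonempty_inter_closedPoints (X := (PK K P).left)
    (Z := (pullback.fst P.hom (gK k K)) ⁻¹' {p}) ⟨q₀, hq₀⟩
    (hp.preimage (pullback.fst P.hom (gK k K)).continuous).isLocallyClosed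
  let s : pt1 K ⟶ PK K P :=
    Over.homMk (pointOfClosedPoint (PK K P).hom q hqc) (pointOfClosedPoint_comp _ q hqc)
  have hs : s.left (closedPoint K) = q := by
    show pointOfClosedPoint (PK K P).hom q hqc (closedPoint K) = q
    rw [pointOfClosedPoint, Scheme.Hom.comp_apply, Scheme.fromSpecResidueField_apply]
  have hP' := isRelPic_phiK K hP
  obtain ⟨c₀, hc₀⟩ := points_surj (𝟙 (Spec (CommRingCat.of K))) hP' s
  have hone : (twist (phiK f φ K) c₀ (pt1 K) (PicF.cl (Coh.structureModule
      (PicF.XT (pullback.snd f (gK k K)) (pt1 K))))).left (closedPoint K) = q := by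
    refine Eq.trans ?_ ((congrArg (fun g : pt1 K ⟶ PK K P => g.left (closedPoint K)) hc₀).trans hs)
    exact congrArg (fun g : pt1 K ⟶ PK K P => g.left (closedPoint K)) (twist_one (φ := phiK f φ K) c₀)
  have hcot := finrank_cotangent (k := K) (isRelPic_twist hP' c₀) (p := q) hone
  haveI : Smooth (PK K P).hom := MorphismProperty.pullback_snd P.hom (gK k K) ‹_›
  haveI := InfLift.lfp_of_lft (PK K P).hom
  have hmem : s.left (closedPoint K) ∈ (PK K P).hom.smoothLocus := by
    rw [Scheme.Hom.smoothLocus_eq_top]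
    trivial
  rw [← hs] at hcot
  have hdim := (regular_iff_dim (PK K P) s hcot).1 hmem
  rw [hs] at hdim
  letI : P.left.Over (Spec (CommRingCat.of k)) := ⟨P.hom⟩
  letI : (PK K P).left.Over (Spec (CommRingCat.of K)) := ⟨(PK K P).hom⟩
  haveI : LocallyOfFiniteType (P.left ↘ Spec (CommRingCat.of k)) := ‹LocallyOfFiniteType P.hom›
  haveI : LocallyOfFiniteType ((PK K P).left ↘ Spec (CommRingCat.of K)) := ‹LocallyOfFiniteType (PK K P).hom›
  have hl := LocalDimBC.localDim_of_isPullback P.hom (gK k K) _ _
    (IsPullback.of_hasPullback P.hom (gK k K)) q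
  rw [show pullback.fst P.hom (gK k K) q = p from hq] at hl
  refine (S1617.result k P.left p hp).symm.trans (hl.symm.trans ((S1617.result K (PK K P).left q hqc).trans
    (hdim.trans ?_)))
  exact congrArg (fun n : ℕ => (n : WithBot ℕ∞)) (finrank_hh_XK (k := k) X K).2

end Groth.Agent.PicInf

end
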