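import Groth.Agent.PicInf.PowMap
import Groth.Agent.PicInf.BaseK
import Groth.Agent.HomTan.Point
import Groth.Agent.PicSmooth.Degree
import Groth.Agent.PtsDense.Basic
import Groth.Agent.GrpAct.DimClosed
import Groth.Agent.SpRelDim.LocalDim

/-!
The tangent spaces and the dimension of a Jacobian given by a universal rigidified class of degree zero.
-/

set_option autoImplicit false
set_option linter.unusedSectionVars false
set_option linter.style.haveILetI false
set_option backward.isDefEq.respectTransparency false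
set_option backward.isDefEq.respectTransparency.types false
set_option maxHeartbeats 1600000

universe u

open CategoryTheory CategoryTheory.Limits AlgebraicGeometry Opposite
open Groth.Agent.ExpSeq (Xε sect dnMap dnPoint)
open Groth.Agent.HomTan (XV dV mu pt)
open Groth.Agent.W7Cube (pull pull_pull)
open IsLocalRing (closedPoint)
open TrivSqZeroExt (inlHom)

attribute [local instance] Groth.Agent.W7Cube.law

noncomputable section

namespace Groth.Agent.PicInf.Jac

theorem eulerCharLE_congr (k : Type u) [Field k] (Y : Scheme.{u}) [Y.Over (Spec (CommRingCat.of k))]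
    {M N : Y.Modules} (e : M ≅ N) (d : ℕ) : FGA.eulerCharLE k Y M d = FGA.eulerCharLE k Y N d := by
  unfold FGA.eulerCharLE
  refine Finset.sum_congr rfl fun i _ => ?_
  congr 2
  exact LinearEquiv.finrank_eq (CohFinite.hhEquiv k e i)

theorem trivialCl_of_local {A : Type u} [CommRing A] [IsLocalRing A] {c : PicF.Cl (Spec (CommRingCat.of A))}
    (h : PicF.IsInvertibleCl c) : PicF.IsTrivialCl c := by
  obtain ⟨L, rfl, hL⟩ := h
  haveI : Subsingleton (MaximalSpectrum (CommRingCat.of A)) :=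
    ⟨fun m m' => MaximalSpectrum.ext ((IsLocalRing.eq_maximalIdeal (R := A) m.isMaximal).trans
      (IsLocalRing.eq_maximalIdeal (R := A) m'.isMaximal).symm)⟩
  exact Quot.sound (LBDesc.nonempty_trivial_of_semilocal (CommRingCat.of A) hL)

variable {k : Type u} [Field k] {C : Scheme.{u}} [C.Over (Spec (CommRingCat.of k))]
  [IsProper (C ↘ Spec (CommRingCat.of k))] [Smooth (C ↘ Spec (CommRingCat.of k))]

/-- The base point. -/
abbrev T0 : Over (Spec (CommRingCat.of k)) := Over.mk (𝟙 (Spec (CommRingCat.of k)))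

variable (k) in
/-- The first order neighbourhood. -/
abbrev TV (V : Type u) [AddCommGroup V] [Module k V] [Module kᵐᵒᵖ V] [IsCentralScalar k V] :
    Over (Spec (CommRingCat.of k)) := Over.mk (dV k V)

variable {V W : Type u} [AddCommGroup V] [Module k V] [Module kᵐᵒᵖ V] [IsCentralScalar k V]
  [AddCommGroup W] [Module k W] [Module kᵐᵒᵖ W] [IsCentralScalar k W]

variable (k V) in
/-- The point of the neighbourhood. -/
def zV : (T0 : Over (Spec (CommRingCat.of k))) ⟶ TV k V :=
  Over.homMk (Spec.map (CommRingCat.ofHom (TrivSqZeroExt.fstHom k k V).toRingHom)) (by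
    show Spec.map _ ≫ Spec.map _ = 𝟙 _
    rw [← Spec.map_comp, ← CommRingCat.ofHom_comp, ← Spec.map_id]
    congr 1)

variable (k V) in
/-- The projection of the neighbourhood. -/
def pV : TV k V ⟶ (T0 : Over (Spec (CommRingCat.of k))) := Over.homMk (dV k V) (Category.comp_id _)

@[reassoc]
theorem zV_pV : zV k V ≫ pV k V = 𝟙 _ := Over.OverMorphism.ext (Over.w (zV k V))

@[reassoc]
theorem ovMap_pV (L : V →ₗ[k] W) : ovMap L ≫ pV k V = pV k W := Over.OverMorphism.ext (Over.w (ovMap L))

theorem sect_eq_one_iff {x : PicLoc.PicSet (Xε k C)} :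
    pull (sect k C) x = 1 ↔ pull (PicF.XTmap (C ↘ Spec (CommRingCat.of k)) (zV k k)) x = 1 := by
  let j : C ⟶ PicF.XT (C ↘ Spec (CommRingCat.of k)) T0 := pullback.lift (𝟙 C) (C ↘ Spec (CommRingCat.of k)) (by
    show 𝟙 C ≫ _ = _ ≫ 𝟙 _
    rw [Category.id_comp, Category.comp_id])
  have e : j ≫ PicF.XTmap (C ↘ Spec (CommRingCat.of k)) (zV k k) = sect k C := by
    apply pullback.hom_ext
    · rw [Category.assoc, PicRelBC.XTmap_fst]
      exact (pullback.lift_fst _ _ _).trans (ExpSeq.sect_fst (k := k) C).symm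
    · rw [Category.assoc, PicRelBC.XTmap_snd]
      show pullback.lift _ _ _ ≫ pullback.snd _ _ ≫ dnPoint k = pullback.lift _ _ _ ≫ pullback.snd _ _
      rw [pullback.lift_snd_assoc, pullback.lift_snd]
  have e' : pullback.fst (C ↘ Spec (CommRingCat.of k)) (T0 : Over (Spec (CommRingCat.of k))).hom ≫ j = 𝟙 _ := by
    apply pullback.hom_ext
    · rw [Category.assoc, Category.id_comp]
      exact (congrArg (_ ≫ ·) (pullback.lift_fst _ _ _)).trans (Category.comp_id _)
    · rw [Category.assoc, Category.id_comp]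
      refine (congrArg (_ ≫ ·) (pullback.lift_snd _ _ _)).trans ?_
      exact pullback.condition.trans (Category.comp_id _)
  rw [← e, ← pull_pull]
  refine ⟨fun h => ?_, fun h => (congrArg (pull j) h).trans (map_one _)⟩
  have h2 := congrArg (pull (pullback.fst (C ↘ Spec (CommRingCat.of k)) (T0 : Over (Spec (CommRingCat.of k))).hom)) h
  rw [map_one, pull_pull _ j, e'] at h2
  exact (PicGrp.pullHom_id_apply _ _).symm.trans h2

/-- Degree zero on the fibres. -/
def Deg0 (T : Over (Spec (CommRingCat.of k))) (c : PicLoc.PicSet (PicF.XT (C ↘ Spec (CommRingCat.of k)) T)) : Prop :=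
  FGA.HasFibreDegreeZeroCl (C ↘ Spec (CommRingCat.of k)) T c.1

variable (hdim : topologicalKrullDim C = 1)
include hdim

theorem dim_fiber (s : Spec (CommRingCat.of k)) : topologicalKrullDim ↥(((C ↘ Spec (CommRingCat.of k))).fiber s) = 1 := by
  haveI : IsIso ((Spec (CommRingCat.of k)).fromSpecResidueField s) := AssTensor.isIso_fromSpecResidueField _ s
  haveI : IsIso (((C ↘ Spec (CommRingCat.of k))).fiberι s) :=
    inferInstanceAs (IsIso (pullback.fst _ ((Spec (CommRingCat.of k)).fromSpecResidueField s)))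
  rw [← hdim]
  exact (Homeomorph.isHomeomorph (Scheme.homeoOfIso (asIso (((C ↘ Spec (CommRingCat.of k))).fiberι s)))).topologicalKrullDim_eq

theorem deg0_cls (T : Over (Spec (CommRingCat.of k))) {L : (PicF.XT (C ↘ Spec (CommRingCat.of k)) T).Modules} (hL : PicF.IsInvertible L) :
    Deg0 T (PicGrp.cls L hL) ↔ ∀ t, PicSmooth.delta (C ↘ Spec (CommRingCat.of k)) T L t = 0 := by
  have hd := dim_fiber (k := k) hdim
  constructor
  · rintro ⟨L', he, h⟩ t
    obtain ⟨e⟩ := PicFam.nonempty_iso_of_cl_eq he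
    rw [PicSmooth.delta_eq (C ↘ Spec (CommRingCat.of k)) hd T L hL t, sub_eq_zero, ← h t]
    exact (eulerCharLE_congr _ _ ((Scheme.Modules.pullback _).mapIso e) 1).symm
  · intro h
    refine ⟨L, rfl, fun t => ?_⟩
    have h2 := h t
    rwa [PicSmooth.delta_eq (C ↘ Spec (CommRingCat.of k)) hd T L hL t, sub_eq_zero] at h2

theorem deg0_pull {T T' : Over (Spec (CommRingCat.of k))} (g : T' ⟶ T) {c : PicLoc.PicSet (PicF.XT (C ↘ Spec (CommRingCat.of k)) T)}
    (h : Deg0 T c) : Deg0 T' (pull (PicF.XTmap (C ↘ Spec (CommRingCat.of k)) g) c) := by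
  obtain ⟨L, hL, rfl⟩ := PicGrp.exists_eq_cls c
  rw [W7Cube.pull_cls, deg0_cls hdim]
  intro t'
  rw [PicSmooth.delta_pull (C ↘ Spec (CommRingCat.of k)) g hL t']
  exact (deg0_cls hdim T hL).1 h _

theorem deg0_of_pull {T T' : Over (Spec (CommRingCat.of k))} (g : T' ⟶ T) (hg : Function.Surjective g.left)
    {c : PicLoc.PicSet (PicF.XT (C ↘ Spec (CommRingCat.of k)) T)} (h : Deg0 T' (pull (PicF.XTmap (C ↘ Spec (CommRingCat.of k)) g) c)) : Deg0 T c := by
  obtain ⟨L, hL, rfl⟩ := PicGrp.exists_eq_cls c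
  rw [W7Cube.pull_cls, deg0_cls hdim] at h
  rw [deg0_cls hdim]
  intro t
  obtain ⟨t', rfl⟩ := hg t
  exact (PicSmooth.delta_pull (C ↘ Spec (CommRingCat.of k)) g hL t').symm.trans (h t')

variable {σ : Spec (CommRingCat.of k) ⟶ C} {hσ : σ ≫ (C ↘ Spec (CommRingCat.of k)) = 𝟙 (Spec (CommRingCat.of k))}
  {J : Over (Spec (CommRingCat.of k))} (ξ : PicF.Rig (C ↘ Spec (CommRingCat.of k)) σ hσ J) (hξ : FGA.HasFibreDegreeZeroCl (C ↘ Spec (CommRingCat.of k)) J ξ.1)
  (huniv : ∀ (T : Over (Spec (CommRingCat.of k))) (c : PicF.Rig (C ↘ Spec (CommRingCat.of k)) σ hσ T), FGA.HasFibreDegreeZeroCl (C ↘ Spec (CommRingCat.of k)) T c.1 →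
    ∃! g : T ⟶ J, PicF.pullCl (PicF.XTmap (C ↘ Spec (CommRingCat.of k)) g) ξ.1 = c.1)

/-- The universal class. -/
abbrev xi : PicLoc.PicSet (PicF.XT (C ↘ Spec (CommRingCat.of k)) J) := ⟨ξ.1, ξ.2.1⟩

include huniv

theorem exists_map {A : Type u} [CommRing A] [IsLocalRing A] (τ : Spec (CommRingCat.of A) ⟶ Spec (CommRingCat.of k))
    (c : PicLoc.PicSet (PicF.XT (C ↘ Spec (CommRingCat.of k)) (Over.mk τ))) (hc : Deg0 (Over.mk τ) c) :
    ∃! g : Over.mk τ ⟶ J, pull (PicF.XTmap (C ↘ Spec (CommRingCat.of k)) g) (xi ξ) = c := by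
  obtain ⟨g, hg, hu⟩ := huniv (Over.mk τ)
    ⟨c.1, c.2, trivialCl_of_local (A := A) (PicRelBC.isInvertibleCl_pullCl _ c.2)⟩ hc
  exact ⟨g, Subtype.ext hg, fun g' hg' => hu g' (congrArg Subtype.val hg')⟩

include hξ

theorem map_ext {A : Type u} [CommRing A] [IsLocalRing A] {τ : Spec (CommRingCat.of A) ⟶ Spec (CommRingCat.of k)}
    {g g' : Over.mk τ ⟶ J} (h : pull (PicF.XTmap (C ↘ Spec (CommRingCat.of k)) g) (xi ξ) = pull (PicF.XTmap (C ↘ Spec (CommRingCat.of k)) g') (xi ξ)) : g = g' :=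
  (exists_map hdim ξ huniv τ _ (deg0_pull hdim g' (c := xi ξ) hξ)).unique h rfl

omit hdim hξ huniv in
variable (q : (T0 : Over (Spec (CommRingCat.of k))) ⟶ J) in
/-- The normalised class of a point of a neighbourhood. -/
def cl (γ : TV k V ⟶ J) : PicLoc.PicSet (PicF.XT (C ↘ Spec (CommRingCat.of k)) (TV k V)) :=
  pull (PicF.XTmap (C ↘ Spec (CommRingCat.of k)) γ) (xi ξ) * (pull (PicF.XTmap (C ↘ Spec (CommRingCat.of k)) (pV k V)) (pull (PicF.XTmap (C ↘ Spec (CommRingCat.of k)) q) (xi ξ)))⁻¹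

variable (q : (T0 : Over (Spec (CommRingCat.of k))) ⟶ J)

omit hdim hξ huniv in
theorem cl_natural (L : V →ₗ[k] W) (γ : TV k V ⟶ J) :
    pull (muL C L) (cl ξ q γ) = cl ξ q (ovMap L ≫ γ) := by
  show pull (PicF.XTmap (C ↘ Spec (CommRingCat.of k)) (ovMap L)) _ = _
  rw [cl, cl, map_mul, map_inv, rel_pull_comp, rel_pull_comp, rel_pull_comp, rel_pull_comp, ovMap_pV]

omit hdim hξ huniv in
theorem pull_cl (γ : TV k V ⟶ J) (hγ : zV k V ≫ γ = q) : pull (PicF.XTmap (C ↘ Spec (CommRingCat.of k)) (zV k V)) (cl ξ q γ) = 1 := by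
  rw [cl, map_mul, map_inv, rel_pull_comp, rel_pull_comp, rel_pull_comp, hγ, zV_pV, Category.id_comp, mul_inv_cancel]

theorem cl_injective {γ γ' : TV k V ⟶ J} [IsLocalRing (TrivSqZeroExt k V)] (h : cl ξ q γ = cl ξ q γ') : γ = γ' :=
  map_ext hdim ξ hξ huniv (τ := dV k V) (mul_right_cancel h)

theorem exists_cl [IsLocalRing (TrivSqZeroExt k V)] {x : PicLoc.PicSet (PicF.XT (C ↘ Spec (CommRingCat.of k)) (TV k V))}
    (hx : pull (PicF.XTmap (C ↘ Spec (CommRingCat.of k)) (zV k V)) x = 1) : ∃ γ : TV k V ⟶ J, zV k V ≫ γ = q ∧ cl ξ q γ = x := by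
  let c := x * pull (PicF.XTmap (C ↘ Spec (CommRingCat.of k)) (pV k V)) (pull (PicF.XTmap (C ↘ Spec (CommRingCat.of k)) q) (xi ξ))
  have hz : pull (PicF.XTmap (C ↘ Spec (CommRingCat.of k)) (zV k V)) c = pull (PicF.XTmap (C ↘ Spec (CommRingCat.of k)) q) (xi ξ) := by
    rw [map_mul, hx, one_mul, rel_pull_comp, rel_pull_comp, zV_pV, Category.id_comp]
  have hsurj : Function.Surjective (zV k V).left := fun t => by
    haveI := HomTan.subsingleton_primeSpectrum k V
    exact ⟨closedPoint k, Subsingleton.elim (α := PrimeSpectrum (TrivSqZeroExt k V)) _ _⟩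
  obtain ⟨γ, hγ, -⟩ := exists_map hdim ξ huniv (dV k V) c
    (deg0_of_pull hdim (zV k V) hsurj (hz ▸ deg0_pull hdim q (c := xi ξ) hξ))
  refine ⟨γ, ?_, ?_⟩
  · refine map_ext hdim ξ hξ huniv (τ := 𝟙 (Spec (CommRingCat.of k))) ?_
    rw [← rel_pull_comp, hγ, hz]
  · rw [cl, hγ]
    exact mul_inv_cancel_right _ _

variable {m : J.left} (hm : q.left (closedPoint k) = m)
variable [Algebra k (J.left.presheaf.stalk m)]
  (halg : J.left.fromSpecStalk m ≫ J.hom = Spec.map (CommRingCat.ofHom (algebraMap k (J.left.presheaf.stalk m))))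
variable [Algebra (J.left.presheaf.stalk m) k] [IsScalarTower k (J.left.presheaf.stalk m) k]
  (he : Spec.map (CommRingCat.ofHom (algebraMap (J.left.presheaf.stalk m) k)) ≫ J.left.fromSpecStalk m = q.left)
include hm halg he

theorem exists_ring {γ : TV k V ⟶ J} [IsLocalRing (TrivSqZeroExt k V)] (hγ : zV k V ≫ γ = q) :
    ∃ a ha, pt halg a ha = γ ∧ (TrivSqZeroExt.fstHom k k V).toRingHom.comp a = algebraMap (J.left.presheaf.stalk m) k := by
  have hcp : γ.left (closedPoint (TrivSqZeroExt k V)) = m := by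
    rw [← hm, ← hγ]
    show _ = γ.left ((zV k V).left (closedPoint k))
    congr 1
    haveI := HomTan.subsingleton_primeSpectrum k V
    exact Subsingleton.elim (α := PrimeSpectrum (TrivSqZeroExt k V)) _ _
  obtain ⟨a, -, ha, -⟩ := InfLift.exists_stalk_hom γ.left hcp
  have hca : a.hom.comp (algebraMap k (J.left.presheaf.stalk m)) = inlHom k V := by
    have h2 : CommRingCat.ofHom (algebraMap k (J.left.presheaf.stalk m)) ≫ a =
        CommRingCat.ofHom (algebraMap k (TrivSqZeroExt k V)) := by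
      apply Spec.map_injective
      rw [Spec.map_comp, ← halg, reassoc_of% ha]
      exact Over.w γ
    exact congrArg CommRingCat.Hom.hom h2
  refine ⟨a.hom, hca, Over.OverMorphism.ext ha, ?_⟩
  refine congrArg CommRingCat.Hom.hom (show a ≫ CommRingCat.ofHom (TrivSqZeroExt.fstHom k k V).toRingHom =
    CommRingCat.ofHom (algebraMap (J.left.presheaf.stalk m) k) from
      Spec.map_injective ((cancel_mono (J.left.fromSpecStalk m)).1 ?_))
  rw [Spec.map_comp, Category.assoc, ha, he]
  exact congrArg (fun g => g.left) hγ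

/-- **The tangent space is the first cohomology.** -/
theorem finrank_derivation :
    Module.finrank k (Derivation k (J.left.presheaf.stalk m) k) =
      Module.finrank k (Coh.HH C (Coh.structureModule C) 1) := by
  obtain ⟨β, hinj, hadd, hsmul, hker⟩ := exists_beta k C
  let γ : Derivation k (J.left.presheaf.stalk m) k → (TV k k ⟶ J) := fun D =>
    pt (V := k) halg (QuotInf.derHom D) (QuotInf.derHom_algebraMap D)
  have hzγ : ∀ D, zV k k ≫ γ D = q := fun D => by
    refine Over.OverMorphism.ext ?_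
    show Spec.map _ ≫ Spec.map _ ≫ _ = _
    rw [← Spec.map_comp_assoc, ← CommRingCat.ofHom_comp, QuotInf.derHom_fst, he]
  have hβ : ∀ a, pull (PicF.XTmap (C ↘ Spec (CommRingCat.of k)) (zV k k)) (β a) = 1 := fun a => sect_eq_one_iff.1 ((hker _).2 ⟨a, rfl⟩)
  have hex : ∀ D, ∃ a, β a = cl ξ q (γ D) := fun D =>
    (hker _).1 (sect_eq_one_iff.2 (pull_cl ξ q (γ D) (hzγ D)))
  choose Φ hΦ using hex
  have hov : ∀ (L : k × k →ₗ[k] k) (a : J.left.presheaf.stalk m →+* TrivSqZeroExt k (k × k))
      (ha : a.comp (algebraMap k (J.left.presheaf.stalk m)) = inlHom k (k × k)) (D : Derivation k (J.left.presheaf.stalk m) k),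
      (TrivSqZeroExt.map L).toRingHom.comp a = QuotInf.derHom D → ovMap L ≫ pt halg a ha = γ D := by
    intro L a ha D h
    refine Over.OverMorphism.ext ?_
    show Spec.map _ ≫ Spec.map _ ≫ _ = Spec.map _ ≫ _
    rw [← Spec.map_comp_assoc, ← CommRingCat.ofHom_comp, h]
  have hsm : ∀ (c : k) D, Φ (c • D) = c • Φ D := fun c D => by
    apply hinj
    rw [hΦ, hsmul, hΦ]
    show _ = pull (muL C (c • LinearMap.id)) _
    rw [cl_natural]
    congr 1
    refine (Over.OverMorphism.ext ?_).symm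
    show Spec.map _ ≫ Spec.map _ ≫ _ = Spec.map _ ≫ _
    rw [← Spec.map_comp_assoc, ← CommRingCat.ofHom_comp]
    congr 3
    exact RingHom.ext fun r => TrivSqZeroExt.ext (TrivSqZeroExt.fst_map _ _) ((TrivSqZeroExt.snd_map _ _).trans rfl)
  have had : ∀ D D', Φ (D + D') = Φ D + Φ D' := fun D D' => by
    let γ₂ : TV k (k × k) ⟶ J :=
      pt (V := k × k) halg (QuotInf.derHom2 D D') (QuotInf.derHom2_algebraMap D D')
    let c : PicLoc.PicSet (XV k (k × k) C) :=
      pull (muL C (LinearMap.inl k k k)) (β (Φ D)) * pull (muL C (LinearMap.inr k k k)) (β (Φ D'))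
    have key : ∀ (L : k × k →ₗ[k] k), pull (muL C L) c =
        pull (muL C (L ∘ₗ LinearMap.inl k k k)) (β (Φ D)) * pull (muL C (L ∘ₗ LinearMap.inr k k k)) (β (Φ D')) :=
      fun L => by
        simp only [c]
        rw [map_mul, pull_pull, pull_pull, muL_comp, muL_comp]
    have hid : ∀ x : PicLoc.PicSet (Xε k C), pull (muL C (LinearMap.id : k →ₗ[k] k)) x = x := fun x => by
      rw [muL_id]
      exact PicGrp.pullHom_id_apply _ x
    have hs : ∀ a, pull (sect k C) (β a) = 1 := fun a => (hker _).2 ⟨a, rfl⟩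
    let Lf := LinearMap.fst k k k
    let Ls := LinearMap.snd k k k
    have k1 : pull (muL C Lf) c = β (Φ D) := by
      rw [key, LinearMap.fst_comp_inl, LinearMap.fst_comp_inr, hid, pull_zero C (hs _), mul_one]
    have k2 : pull (muL C Ls) c = β (Φ D') := by
      rw [key, LinearMap.snd_comp_inl, LinearMap.snd_comp_inr, hid, pull_zero C (hs _), one_mul]
    have k3 : pull (muL C (Lf + Ls)) c = β (Φ D + Φ D') := by
      rw [key, show (Lf + Ls) ∘ₗ LinearMap.inl k k k = LinearMap.id by ext; simp [Lf, Ls],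
        show (Lf + Ls) ∘ₗ LinearMap.inr k k k = LinearMap.id by ext; simp [Lf, Ls], hid, hid, hadd]
    have hcz : pull (PicF.XTmap (C ↘ Spec (CommRingCat.of k)) (zV k (k × k))) c = 1 := by
      have hzi : ∀ (L : k →ₗ[k] k × k), zV k (k × k) ≫ ovMap L = zV k k := fun L => by
        refine Over.OverMorphism.ext ?_
        show Spec.map _ ≫ Spec.map _ = Spec.map _
        rw [← Spec.map_comp, ← CommRingCat.ofHom_comp]
        congr 2
        exact RingHom.ext fun r => TrivSqZeroExt.fst_map _ _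
      simp only [c]
      rw [map_mul]
      show pull (PicF.XTmap (C ↘ Spec (CommRingCat.of k)) (zV k (k × k))) (pull (PicF.XTmap (C ↘ Spec (CommRingCat.of k)) (ovMap _)) _) *
        pull (PicF.XTmap (C ↘ Spec (CommRingCat.of k)) (zV k (k × k))) (pull (PicF.XTmap (C ↘ Spec (CommRingCat.of k)) (ovMap _)) _) = 1
      rw [rel_pull_comp, rel_pull_comp, hzi, hzi, hβ, hβ, mul_one]
    obtain ⟨γc, hγc, hclc⟩ := exists_cl hdim ξ hξ huniv q hcz
    obtain ⟨A, hA, hAγ, hAfst⟩ := exists_ring hdim ξ hξ huniv q hm halg he hγc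
    have hL : ∀ (L : k × k →ₗ[k] k) D'', pull (muL C L) c = cl ξ q (γ D'') → ∀ r, L (A r).snd = D'' r := by
      intro L D'' h r
      rw [← hclc, cl_natural] at h
      have h2 := cl_injective hdim ξ hξ huniv q h
      rw [← hAγ] at h2
      have h3 : (TrivSqZeroExt.map L).toRingHom.comp A = QuotInf.derHom D'' := by
        refine congrArg CommRingCat.Hom.hom (show CommRingCat.ofHom ((TrivSqZeroExt.map L).toRingHom.comp A) =
          CommRingCat.ofHom (QuotInf.derHom D'') from
            Spec.map_injective ((cancel_mono (J.left.fromSpecStalk m)).1 ?_))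
        refine Eq.trans ?_ (congrArg (fun g => g.left) h2)
        rw [CommRingCat.ofHom_comp, Spec.map_comp, Category.assoc]
        rfl
      exact (TrivSqZeroExt.snd_map L (A r)).symm.trans (congrArg TrivSqZeroExt.snd (RingHom.congr_fun h3 r))
    apply hinj
    rw [hΦ, ← k3, ← hclc, cl_natural]
    congr 1
    rw [← hAγ]
    refine (hov _ A hA (D + D') (RingHom.ext fun r => TrivSqZeroExt.ext ?_ ?_)).symm
    · refine (TrivSqZeroExt.fst_map _ _).trans (RingHom.congr_fun hAfst r)
    · refine (TrivSqZeroExt.snd_map _ _).trans ?_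
      rw [LinearMap.add_apply, hL Lf D (k1.trans (hΦ D)), hL Ls D' (k2.trans (hΦ D'))]
      rfl
  let Φl : Derivation k (J.left.presheaf.stalk m) k →ₗ[k] Coh.HH C (Coh.structureModule C) 1 :=
    { toFun := Φ, map_add' := had, map_smul' := hsm }
  refine (LinearEquiv.ofBijective Φl ⟨fun D D' h => ?_, fun a => ?_⟩).finrank_eq
  · replace h : Φ D = Φ D' := h
    have h2 := cl_injective hdim ξ hξ huniv q ((hΦ D).symm.trans ((congrArg β h).trans (hΦ D')))
    have h3 : QuotInf.derHom D = QuotInf.derHom D' := HomTan.pt_injective halg h2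
    exact Derivation.ext fun r => congrArg TrivSqZeroExt.snd (RingHom.congr_fun h3 r)
  · obtain ⟨γ', hγ', hcl⟩ := exists_cl hdim ξ hξ huniv q (hβ a)
    obtain ⟨A, hA, hAγ, hAfst⟩ := exists_ring hdim ξ hξ huniv q hm halg he hγ'
    obtain ⟨D, hD⟩ := QuotInf.exists_derivation A hA hAfst
    refine ⟨D, hinj ?_⟩
    show β (Φ D) = β a
    rw [hΦ, ← hcl]
    congr 1
    rw [← hAγ]
    exact Over.OverMorphism.ext (by
      show Spec.map (CommRingCat.ofHom (QuotInf.derHom D)) ≫ _ = Spec.map (CommRingCat.ofHom A) ≫ _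
      rw [hD])

omit hm halg he

/-- The local ring at a rational point of the Jacobian has dimension the genus. -/
theorem dim_point [Smooth J.hom] (q : (T0 : Over (Spec (CommRingCat.of k))) ⟶ J) :
    IsClosed ({q.left (closedPoint k)} : Set J.left) ∧
      ringKrullDim (J.left.presheaf.stalk (q.left (closedPoint k))) =
        (Module.finrank k (Coh.HH C (Coh.structureModule C) 1) : WithBot ℕ∞) := by
  haveI := InfLift.lfp_of_lft J.hom
  haveI : IsLocallyNoetherian J.left := LocallyOfFiniteType.isLocallyNoetherian J.hom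
  refine ⟨(section_chart J q).1, ?_⟩
  letI : J.left.Over (Spec (CommRingCat.of k)) := ⟨J.hom⟩
  let m := q.left (closedPoint k)
  letI := Curv2.stalkAlgebra k J.left m
  have halg := GeomProp.fromSpecStalk_over k J.left m
  obtain ⟨e₀, hloc, he₀, -⟩ := InfLift.exists_stalk_hom q.left (x := m) rfl
  letI : Algebra (J.left.presheaf.stalk m) k := e₀.hom.toAlgebra
  haveI : IsLocalHom (algebraMap (J.left.presheaf.stalk m) k) := hloc
  haveI : IsScalarTower k (J.left.presheaf.stalk m) k := IsScalarTower.of_algebraMap_eq fun x => by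
    have h : CommRingCat.ofHom (algebraMap k (J.left.presheaf.stalk m)) ≫ e₀ = 𝟙 _ := by
      apply Spec.map_injective
      rw [Spec.map_comp, ← halg, reassoc_of% he₀, Spec.map_id]
      exact Over.w q
    exact (congr(($h).hom x)).symm
  haveI := finite_derivation k (J.left.presheaf.stalk m)
  have hcot := (QuotInf.finrank_derivation k (J.left.presheaf.stalk m)).symm.trans
    (finrank_derivation hdim ξ hξ huniv q rfl halg he₀)
  have hmem : m ∈ J.hom.smoothLocus := by
    rw [Scheme.Hom.smoothLocus_eq_top]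
    trivial
  exact (regular_iff_dim J q hcot).1 hmem

/-- **The dimension of the Jacobian is the genus.** -/
theorem topologicalKrullDim_eq [IsSepClosed k] [Smooth J.hom] :
    topologicalKrullDim J.left = (Module.finrank k (Coh.HH C (Coh.structureModule C) 1) : WithBot ℕ∞) := by
  haveI : LocallyOfFiniteType J.hom := inferInstance
  obtain ⟨g0, -, -⟩ := exists_map hdim ξ huniv (𝟙 (Spec (CommRingCat.of k))) 1 (by
    rw [show (1 : PicLoc.PicSet (PicF.XT (C ↘ Spec (CommRingCat.of k)) (Over.mk (𝟙 (Spec (CommRingCat.of k)))))) =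
      PicGrp.cls _ (PicLoc.isInvertible_structureModule _) from rfl, deg0_cls hdim]
    intro t
    exact sub_self _)
  haveI : Nonempty J.left := ⟨g0.left (closedPoint k)⟩
  refine GrpAct.topologicalKrullDim_eq_of_closed J.hom _ fun a ha => ?_
  obtain ⟨W, j, w, n, hj, rfl, hn⟩ := SpRelDim.exists_constant_fibreDim_of_smooth J.hom a
  haveI := hj
  obtain ⟨y, ⟨z, rfl⟩, s, hs, hsy⟩ := (PtsDense.dense_rational k J.hom).inter_open_nonempty _
    j.isOpenEmbedding.isOpen_range (Set.range_nonempty_iff_nonempty.2 ⟨w⟩)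
  obtain ⟨hzc, hzd⟩ := dim_point hdim ξ hξ huniv (Over.homMk s hs)
  rw [show (Over.homMk s hs : (T0 : Over (Spec (CommRingCat.of k))) ⟶ J).left (closedPoint k) = j z from hsy] at hzc hzd
  have hclosed : ∀ v : W, IsClosed ({j v} : Set J.left) → IsClosed ({v} : Set W) := fun v hv => by
    have h := hv.preimage j.continuous
    rwa [← Set.image_singleton, Set.preimage_image_eq _ j.isOpenEmbedding.injective] at h
  have hstalk : ∀ v : W, ringKrullDim (J.left.presheaf.stalk (j v)) = ringKrullDim (W.presheaf.stalk v) := fun v =>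
    ringKrullDim_eq_of_ringEquiv (asIso (j.stalkMap v)).commRingCatIsoToRingEquiv
  rw [hstalk, ← GrpAct.fibreDimAt_eq_dim_stalk (j ≫ J.hom) w (hclosed w ha), hn w, ← hn z,
    GrpAct.fibreDimAt_eq_dim_stalk (j ≫ J.hom) z (hclosed z hzc), ← hstalk, hzd]

end Groth.Agent.PicInf.Jac

end
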