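import Groth.Agent.InfLift.SchemeSmallExt
import Mathlib.RingTheory.AdjoinRoot
import Mathlib.FieldTheory.Minpoly.Field
import Mathlib.RingTheory.Jacobson.Artinian

/-!
Local finite free extensions with prescribed residue field, and descent of lifts along them.
-/

set_option autoImplicit false
set_option linter.unusedSectionVars false
set_option linter.style.haveILetI false
set_option maxHeartbeats 1000000

universe u

open IsLocalRing Polynomial

noncomputable section

namespace Groth.Agent.PicInf

/-- A local finite free algebra over an Artinian local ring with one more residue generator. -/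
theorem exists_adjoin {A κ' : Type u} [CommRing A] [IsLocalRing A] [IsArtinianRing A] [Field κ'] [Algebra A κ']
    [Module.Finite A κ'] (x : κ') :
    ∃ (C : Type u) (_ : CommRing C) (_ : Algebra A C) (_ : IsLocalRing C) (_ : IsArtinianRing C)
      (_ : Module.Finite A C) (_ : Module.Free A C) (r : C →ₐ[A] κ'), x ∈ r.range := by
  haveI := RingHom.ker_isPrime (algebraMap A κ')
  have hloc : RingHom.ker (algebraMap A κ') = maximalIdeal A :=
    IsLocalRing.eq_maximalIdeal (IsArtinianRing.isMaximal_of_isPrime (RingHom.ker (algebraMap A κ')))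
  letI : Algebra (ResidueField A) κ' := (Ideal.Quotient.lift (maximalIdeal A) (algebraMap A κ')
    (fun a ha => RingHom.mem_ker.1 (hloc.ge ha))).toAlgebra
  haveI : IsScalarTower A (ResidueField A) κ' := IsScalarTower.of_algebraMap_eq fun a => rfl
  haveI : Module.Finite (ResidueField A) κ' := Module.Finite.of_restrictScalars_finite A (ResidueField A) κ'
  have hx : IsIntegral (ResidueField A) x := IsIntegral.of_finite _ x
  have hlifts : minpoly (ResidueField A) x ∈ Polynomial.lifts (residue A) := by
    rw [Polynomial.lifts_iff_coeff_lifts]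
    exact fun n => IsLocalRing.residue_surjective _
  obtain ⟨F, hF, hdeg, hmonic⟩ := Polynomial.lifts_and_degree_eq_and_monic hlifts (minpoly.monic hx)
  have hF' : aeval x F = 0 := by
    rw [← aeval_map_algebraMap (ResidueField A), show F.map (algebraMap A (ResidueField A)) = minpoly _ x from hF,
      minpoly.aeval]
  let C := AdjoinRoot F
  haveI : Module.Finite A C := hmonic.finite_adjoinRoot
  haveI : Module.Free A C := hmonic.free_adjoinRoot
  haveI : Algebra.IsIntegral A C := Algebra.IsIntegral.of_finite A C
  let r : C →ₐ[A] κ' := AdjoinRoot.liftAlgHom F (Algebra.ofId A κ') x hF'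
  haveI : Nontrivial C := r.toRingHom.domain_nontrivial
  haveI : IsArtinianRing C := IsArtinianRing.of_finite A C
  let M : Ideal C := RingHom.ker r.toRingHom
  haveI : M.IsPrime := RingHom.ker_isPrime _
  have hM : M.IsMaximal := IsArtinianRing.isMaximal_of_isPrime M
  have hker : M ≤ (maximalIdeal A).map (algebraMap A C) := by
    intro c hc
    obtain ⟨G, rfl⟩ := AdjoinRoot.mk_surjective c
    have h0 : aeval x (G.map (residue A)) = 0 := by
      refine (aeval_map_algebraMap (ResidueField A) x G).trans ?_
      exact (AdjoinRoot.liftAlgHom_mk F (Algebra.ofId A κ') x hF' G).symm.trans hc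
    obtain ⟨H, hH⟩ := minpoly.dvd _ _ h0
    obtain ⟨H', rfl⟩ := Polynomial.map_surjective (residue A) IsLocalRing.residue_surjective H
    rw [← hF, ← Polynomial.map_mul, ← sub_eq_zero, ← Polynomial.map_sub] at hH
    have h1 : G - F * H' ∈ (maximalIdeal A).map Polynomial.C := by
      rw [Ideal.mem_map_C_iff]
      intro n
      refine (IsLocalRing.residue_eq_zero_iff _).1 ?_
      rw [← Polynomial.coeff_map, hH, coeff_zero]
    have h2 : AdjoinRoot.mk F G = AdjoinRoot.mk F (G - F * H') := by
      rw [map_sub, map_mul, AdjoinRoot.mk_self, zero_mul, sub_zero]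
    rw [h2, show algebraMap A C = (AdjoinRoot.mk F).comp Polynomial.C from rfl, ← Ideal.map_map]
    exact Ideal.mem_map_of_mem _ h1
  haveI : IsLocalRing C := IsLocalRing.of_unique_max_ideal ⟨M, hM, fun N hN => by
    haveI := hN
    have h1 : maximalIdeal A = N.comap (algebraMap A C) :=
      (IsLocalRing.eq_maximalIdeal (Ideal.isMaximal_comap_of_isIntegral_of_isMaximal N)).symm
    have h2 : M ≤ N := hker.trans (Ideal.map_le_iff_le_comap.2 h1.le)
    exact (hM.eq_of_le hN.ne_top h2).symm⟩
  exact ⟨C, inferInstance, inferInstance, inferInstance, inferInstance, inferInstance, inferInstance, r,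
    ⟨AdjoinRoot.root F, AdjoinRoot.liftAlgHom_root F (Algebra.ofId A κ') x hF'⟩⟩

/-- **A local finite free extension with prescribed residue extension.** -/
theorem exists_gonflement {A κ' : Type u} [CommRing A] [IsLocalRing A] [IsArtinianRing A] [Field κ'] [Algebra A κ']
    [Module.Finite A κ'] :
    ∃ (C : Type u) (_ : CommRing C) (_ : Algebra A C) (_ : IsLocalRing C) (_ : IsArtinianRing C)
      (_ : Module.Finite A C) (_ : Module.Free A C) (r : C →ₐ[A] κ'), Function.Surjective r := by
  classical
  suffices key : ∀ s : Finset κ', ∃ (C : Type u) (_ : CommRing C) (_ : Algebra A C) (_ : IsLocalRing C)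
      (_ : IsArtinianRing C) (_ : Module.Finite A C) (_ : Module.Free A C) (r : C →ₐ[A] κ'),
        ∀ x ∈ s, x ∈ r.range by
    obtain ⟨s, hs⟩ := Module.Finite.fg_top (R := A) (M := κ')
    obtain ⟨C, iC, iA, iL, iR, iF, iFr, r, hr⟩ := key s
    refine ⟨C, iC, iA, iL, iR, iF, iFr, r, fun y => ?_⟩
    have h : Submodule.span A (s : Set κ') ≤ Subalgebra.toSubmodule r.range := Submodule.span_le.2 hr
    exact h (hs.ge Submodule.mem_top)
  intro s
  induction s using Finset.induction with
  | empty => exact ⟨A, inferInstance, inferInstance, inferInstance, inferInstance, inferInstance, inferInstance,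
      Algebra.ofId A κ', fun x hx => absurd hx (Finset.notMem_empty x)⟩
  | insert x s _ ih =>
    obtain ⟨C, _, _, _, _, _, _, r, hr⟩ := ih
    letI : Algebra C κ' := r.toRingHom.toAlgebra
    haveI : IsScalarTower A C κ' := IsScalarTower.of_algebraMap_eq fun a => (r.commutes a).symm
    haveI : Module.Finite C κ' := Module.Finite.of_restrictScalars_finite A C κ'
    obtain ⟨D, iD, iCD, iL, iR, iF, iFr, r', hx'⟩ := exists_adjoin (A := C) x
    letI : Algebra A D := ((algebraMap C D).comp (algebraMap A C)).toAlgebra
    haveI : IsScalarTower A C D := IsScalarTower.of_algebraMap_eq fun a => rfl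
    refine ⟨D, iD, inferInstance, iL, iR, Module.Finite.trans C D, Module.Free.trans (R := A) (S := C) (M := D),
      r'.restrictScalars A, fun y hy => ?_⟩
    rcases Finset.mem_insert.1 hy with rfl | hy
    · exact hx'
    · obtain ⟨c, hc⟩ := hr y hy
      exact ⟨algebraMap C D c, (r'.commutes c).trans hc⟩

/-- A retraction of a local free algebra. -/
theorem exists_retraction {A C : Type u} [CommRing A] [IsLocalRing A] [CommRing C] [Algebra A C] [Nontrivial C]
    [Module.Finite A C] [Module.Free A C] : ∃ ρ : C →ₗ[A] A, ρ 1 = 1 := by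
  classical
  let b := Module.Free.chooseBasis A C
  by_cases h : ∃ i, IsUnit (b.repr 1 i)
  · obtain ⟨i, hi⟩ := h
    refine ⟨(↑hi.unit⁻¹ : A) • b.coord i, ?_⟩
    show (↑hi.unit⁻¹ : A) * b.repr 1 i = 1
    exact hi.val_inv_mul
  · push Not at h
    exfalso
    have hmem : (1 : C) ∈ (maximalIdeal A).map (algebraMap A C) := by
      rw [← b.linearCombination_repr 1, Finsupp.linearCombination_apply]
      refine Ideal.sum_mem _ fun i _ => ?_
      show (b.repr 1 i) • b i ∈ _
      rw [Algebra.smul_def]
      exact Ideal.mul_mem_right _ _ (Ideal.mem_map_of_mem _ ((mem_maximalIdeal _).2 (h i)))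
    obtain ⟨M, hM⟩ := Ideal.exists_maximal C
    haveI : Algebra.IsIntegral A C := Algebra.IsIntegral.of_finite A C
    have h1 : maximalIdeal A = M.comap (algebraMap A C) :=
      (IsLocalRing.eq_maximalIdeal (Ideal.isMaximal_comap_of_isIntegral_of_isMaximal M)).symm
    exact hM.ne_top ((Ideal.eq_top_iff_one _).2 (Ideal.map_le_iff_le_comap.2 h1.le hmem))

/-- **Descent of lifts along a small extension.** -/
theorem exists_descend {R B' B C' C : Type u} [CommRing R] [CommRing B'] [CommRing B] [CommRing C'] [CommRing C]
    [Algebra B' C'] (π : B' →+* B) (hπ : Function.Surjective π) (t : B') (hker : RingHom.ker π = Ideal.span {t})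
    (ht : t * t = 0) (ρ : C' →ₗ[B'] B') (hρ : ρ 1 = 1) (ψ : B →+* C) (q : C' →+* C)
    (hq : q.comp (algebraMap B' C') = ψ.comp π) (hqker : RingHom.ker q = Ideal.span {algebraMap B' C' t})
    (a : R →+* B) (g : R →+* C') (hg : q.comp g = ψ.comp a) :
    ∃ h : R →+* B', π.comp h = a ∧ ∀ r b, g r = algebraMap B' C' b → h r = b := by
  have hρι : ∀ x, ρ (algebraMap B' C' x) = x := fun x => by
    rw [Algebra.algebraMap_eq_smul_one, map_smul, hρ, smul_eq_mul, mul_one]
  have hdec : ∀ r, ∃ x c, π x = a r ∧ g r = algebraMap B' C' x + algebraMap B' C' t * c := fun r => by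
    obtain ⟨x, hx⟩ := hπ (a r)
    have h0 : g r - algebraMap B' C' x ∈ RingHom.ker q := by
      rw [RingHom.mem_ker, map_sub, ← RingHom.comp_apply q (algebraMap B' C'), hq, RingHom.comp_apply, hx,
        ← RingHom.comp_apply q g, hg, RingHom.comp_apply, sub_self]
    rw [hqker] at h0
    obtain ⟨c, hc⟩ := Ideal.mem_span_singleton'.1 h0
    exact ⟨x, c, hx, by rw [mul_comm _ c, hc, add_sub_cancel]⟩
  have hρd : ∀ x c, ρ (algebraMap B' C' x + algebraMap B' C' t * c) = x + t * ρ c := fun x c => by
    rw [map_add, hρι, ← Algebra.smul_def, map_smul, smul_eq_mul]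
  refine ⟨{ toFun := fun r => ρ (g r)
            map_one' := by rw [map_one, hρ]
            map_zero' := by rw [map_zero, map_zero]
            map_add' := fun x y => by rw [map_add, map_add]
            map_mul' := fun r s => ?_ }, RingHom.ext fun r => ?_, fun r b hb => ?_⟩
  · obtain ⟨x, c, -, hr⟩ := hdec r
    obtain ⟨y, d, -, hs⟩ := hdec s
    have ht' : algebraMap B' C' t * algebraMap B' C' t = 0 := by rw [← map_mul, ht, map_zero]
    have hprod : g (r * s) = algebraMap B' C' (x * y) + algebraMap B' C' t * (x • d + y • c) := by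
      rw [map_mul, hr, hs, map_mul, Algebra.smul_def, Algebra.smul_def]
      linear_combination (c * d) * ht'
    rw [hprod, hr, hs, hρd, hρd, hρd, map_add, map_smul, map_smul, smul_eq_mul, smul_eq_mul]
    linear_combination -(ρ c * ρ d) * ht
  · obtain ⟨x, c, hx, hr⟩ := hdec r
    show π (ρ (g r)) = a r
    rw [hr, hρd, map_add, map_mul, hx,
      show π t = 0 from RingHom.mem_ker.1 (hker.symm ▸ Ideal.mem_span_singleton_self t), zero_mul, add_zero]
  · show ρ (g r) = b
    rw [hb, hρι]

end Groth.Agent.PicInf

end
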