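import Groth.Agent.HomTan.Thick
import Groth.Agent.ExpSeq.Pic
import Groth.Agent.W7Cube.Pic

/-!
First order deformations of the trivial line bundle, linearly in the base field.
-/

set_option autoImplicit false
set_option linter.unusedSectionVars false
set_option linter.style.haveILetI false
set_option backward.isDefEq.respectTransparency false
set_option backward.isDefEq.respectTransparency.types false
set_option maxHeartbeats 1000000

universe u

open CategoryTheory CategoryTheory.Limits CategoryTheory.Abelian AlgebraicGeometry TopologicalSpace Opposite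
open Groth.Agent.ZarPicLib (sec rr oval oval_rr oval_injective oval_add Dat)
open Groth.Agent.QC (resO)
open Groth.Agent.SiteCoh (embedSeq embedSeq_shortExact)
open Groth.Agent.ExpSeq (Xε sect dnMap dlPush push_shortExact)
open Groth.Agent.DefLift (str)
open Groth.Agent.W7Cube (pull pull_pull)
open Groth.Agent.HomTan (mu muApp le_mu pb em dn)

attribute [local instance] Groth.Agent.W7Cube.law

noncomputable section

namespace Groth.Agent.PicInf

section general

variable {Y Z W X : Scheme.{u}}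

/-- The units of a scheme over a base, on the base. -/
abbrev UP (p : Z ⟶ X) : CohTop.Ab X.toTopCat := (CohTop.push p.base).obj (UnitsSh.unitsAb Z)

theorem exists_psi (p : Z ⟶ X) (hp : IsHomeomorph p.base) :
    ∃ Ψ : Additive (PicLoc.PicSet Z) ≃+ CohTop.H (UP p) 1, ∀ (L : Z.Modules) (hL : PicF.IsInvertible L) (q),
      Nonempty (Dat L q) → Ψ (Additive.ofMul (PicGrp.cls L hL)) = dlPush hp (UnitsSh.unitsAb Z) q :=
  ExpSeq.exists_picEquiv _ (ExpSeq.dlPush_surjective hp _) (ExpSeq.dlPush_eq_zero_iff hp _)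

variable {pY : Y ⟶ X} {pZ : Z ⟶ X} (μ : Z ⟶ Y) (h : μ ≫ pY = pZ)
include h

theorem le_cm (U : X.Opens) : pZ ⁻¹ᵁ U ≤ μ ⁻¹ᵁ (pY ⁻¹ᵁ U) := by
  subst h
  exact le_rfl

/-- The map on units over the base. -/
def cm : UP pY ⟶ UP pZ :=
  ⟨{ app := fun U => AddCommGrpCat.ofHom (AddMonoidHom.mk'
        (fun s : sec (UnitsSh.unitsAb Y) (pY ⁻¹ᵁ U.unop) => (UnitsSh.sectOfUnit (O := Z.presheaf)
          (Units.map (μ.appLE (pY ⁻¹ᵁ U.unop) (pZ ⁻¹ᵁ U.unop) (le_cm μ h U.unop)).hom.toMonoidHom
            (UnitsSh.unitOfSect s)) : sec (UnitsSh.unitsAb Z) (pZ ⁻¹ᵁ U.unop)))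
        fun s t => oval_injective (map_mul (μ.appLE (pY ⁻¹ᵁ U.unop) (pZ ⁻¹ᵁ U.unop) (le_cm μ h U.unop)).hom
          (oval (X := Y) s) (oval (X := Y) t)))
     naturality := fun U V g => by
      ext s
      refine oval_injective ?_
      exact (ConcreteCategory.congr_hom ((μ.map_appLE (le_cm μ h V.unop) (homOfLE (pY.preimage_mono g.unop.le)).op).trans
        (μ.appLE_map (le_cm μ h U.unop) (homOfLE (pZ.preimage_mono g.unop.le)).op).symm) (oval (X := Y) s)) }⟩

theorem oval_cm (U : X.Opens) (s : sec (UnitsSh.unitsAb Y) (pY ⁻¹ᵁ U)) :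
    oval (X := Z) (U := pZ ⁻¹ᵁ U) ((cm μ h).hom.app (op U) s) =
      μ.appLE (pY ⁻¹ᵁ U) (pZ ⁻¹ᵁ U) (le_cm μ h U) (oval (X := Y) s) := rfl

theorem psi_pull (hY : IsHomeomorph pY.base) (hμ : IsHomeomorph μ.base) (hZ : IsHomeomorph pZ.base)
    {ΨY : Additive (PicLoc.PicSet Y) ≃+ CohTop.H (UP pY) 1} {ΨZ : Additive (PicLoc.PicSet Z) ≃+ CohTop.H (UP pZ) 1}
    (hΨY : ∀ (L : Y.Modules) (hL : PicF.IsInvertible L) (q),
      Nonempty (Dat L q) → ΨY (Additive.ofMul (PicGrp.cls L hL)) = dlPush hY (UnitsSh.unitsAb Y) q)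
    (hΨZ : ∀ (L : Z.Modules) (hL : PicF.IsInvertible L) (q),
      Nonempty (Dat L q) → ΨZ (Additive.ofMul (PicGrp.cls L hL)) = dlPush hZ (UnitsSh.unitsAb Z) q)
    (c : PicLoc.PicSet Y) :
    ΨZ (Additive.ofMul (pull μ c)) = Ext.comp (ΨY (Additive.ofMul c)) (Ext.mk₀ (cm μ h)) (add_zero 1) := by
  subst h
  obtain ⟨L, hL, rfl⟩ := PicGrp.exists_eq_cls c
  obtain ⟨q, ⟨D⟩⟩ := ZarPicLib.exists_dat hL
  obtain ⟨φ, hφ⟩ := ExpSeq.exists_lift_comap μ
  rw [W7Cube.pull_cls, hΨZ _ (PicLoc.isInvertible_pullback μ hL) _ (ExpSeq.nonempty_dat_pullback μ hμ φ hφ D),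
    hΨY L hL q ⟨D⟩]
  let ψ := (CohTop.push pY.base).mapShortComplex.map φ
  have hψ : ψ.τ₁ = cm μ (rfl : μ ≫ pY = μ ≫ pY) := by
    refine Sheaf.hom_ext (NatTrans.ext (funext fun U => ?_))
    ext s
    refine oval_injective (X := Z) ?_
    show oval (X := Z) (φ.τ₁.hom.app (op (pY ⁻¹ᵁ U.unop)) s) = _
    rw [hφ]
    show μ.app (pY ⁻¹ᵁ U.unop) (oval (X := Y) s) = μ.appLE _ _ _ (oval (X := Y) s)
    rw [Scheme.Hom.app_eq_appLE]
  have hn := ExpSeq.dl_naturality (push_shortExact hY (embedSeq_shortExact (UnitsSh.unitsAb Y)))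
    (T := ((embedSeq (UnitsSh.unitsAb Z)).map (CohTop.push μ.base)).map (CohTop.push pY.base))
    (push_shortExact hY (push_shortExact hμ (embedSeq_shortExact (UnitsSh.unitsAb Z)))) ψ q
  rw [hψ] at hn
  exact hn.symm

end general

section field

variable (k : Type u) [Field k] (X : Scheme.{u}) [X.Over (Spec (CommRingCat.of k))]

/-- The projection of the thickening. -/
abbrev pX : Xε k X ⟶ X := pullback.fst _ _

theorem isHomeomorph_pX : IsHomeomorph (pX k X).base := by
  have h2 : Function.LeftInverse (pX k X) (sect k X) := fun x => congr($(ExpSeq.sect_fst (k := k) X) x)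
  have hs := ExpSeq.isHomeomorph_sect (k := k) X
  have h3 : ⇑(pX k X).base = ⇑hs.homeomorph.symm := funext fun z => by
    obtain ⟨x, rfl⟩ := hs.surjective z
    exact (h2 x).trans (hs.homeomorph.symm_apply_apply x).symm
  rw [h3]
  exact hs.homeomorph.symm.isHomeomorph

/-- Scaling of the thickening. -/
abbrev scal (c : k) : Xε k X ⟶ Xε k X := mu X (c • (LinearMap.id : k →ₗ[k] k))

theorem scal_fst (c : k) : scal k X c ≫ pX k X = pX k X := HomTan.mu_fst X _

theorem isHomeomorph_scal (c : k) : IsHomeomorph (scal k X c).base := by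
  have e : ⇑(scal k X c).base = id := funext fun z =>
    (isHomeomorph_pX k X).injective congr($(scal_fst k X c) z)
  rw [e]
  exact IsHomeomorph.id

theorem scal_one : scal k X 1 = 𝟙 _ := by
  apply pullback.hom_ext
  · rw [Category.id_comp]
    exact scal_fst k X 1
  · rw [Category.id_comp, HomTan.mu_snd, one_smul, TrivSqZeroExt.map_id]
    exact (congrArg (_ ≫ ·) (Spec.map_id _)).trans (Category.comp_id _)

theorem scal_zero : scal k X 0 = pX k X ≫ sect k X := by
  apply pullback.hom_ext
  · rw [scal_fst, Category.assoc, ExpSeq.sect_fst, Category.comp_id]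
  · rw [HomTan.mu_snd, Category.assoc, sect, pullback.lift_snd, pullback.condition_assoc, ← Spec.map_comp,
      ← CommRingCat.ofHom_comp]
    congr 1
    show _ = Spec.map _
    congr 1
    ext : 1
    refine RingHom.ext fun z => ?_
    refine TrivSqZeroExt.ext ?_ ?_
    · show (TrivSqZeroExt.map _ z).fst = (algebraMap k (DualNumber k) z.fst).fst
      rw [TrivSqZeroExt.fst_map]
      rfl
    · show (TrivSqZeroExt.map _ z).snd = (algebraMap k (DualNumber k) z.fst).snd
      rw [TrivSqZeroExt.snd_map, zero_smul]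
      rfl

theorem muApp_one (W : X.Opens) (t) : muApp X (LinearMap.id : k →ₗ[k] k) W t = t := by
  have key : ∀ (f : Xε k X ⟶ Xε k X) (_ : f = 𝟙 _) (e), f.appLE (pX k X ⁻¹ᵁ W) (pX k X ⁻¹ᵁ W) e t = t := by
    rintro _ rfl e
    simp [Scheme.Hom.appLE]
    exact congr($((Xε k X).presheaf.map_id _) t)
  refine key _ ?_ _
  rw [← one_smul k (LinearMap.id : k →ₗ[k] k)]
  exact scal_one k X

theorem scal_em (c : k) (W : X.Opens) (r : Γ(X, W)) :
    muApp X (c • (LinearMap.id : k →ₗ[k] k)) W (em k X W r) = em k X W (str (X ↘ Spec (CommRingCat.of k)) W c * r) := by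
  have h1 : muApp X (LinearMap.id : k →ₗ[k] k) W (em k X W r) = pb k X W 0 + em k X W r := by
    rw [muApp_one, map_zero, zero_add]
  have h := HomTan.linear_mu X W (c • (LinearMap.id : k →ₗ[k] k)) LinearMap.id LinearMap.id c 0
    (fun v => by simp) (em k X W r) h1 h1
  rwa [map_zero, zero_add, map_zero, zero_mul, add_zero] at h

/-- The truncated exponential. -/
def ex : Coh.toAb (Coh.structureModule X) ⟶ UP (pX k X) :=
  ⟨{ app := fun U => AddCommGrpCat.ofHom (AddMonoidHom.mk'
        (fun z : Γ(X, U.unop) => (UnitsSh.sectOfUnit (O := (Xε k X).presheaf)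
          (⟨1 + em k X U.unop z, 1 - em k X U.unop z,
            by linear_combination -(HomTan.em_mul_em (k := k) X U.unop z z),
            by linear_combination -(HomTan.em_mul_em (k := k) X U.unop z z)⟩) :
              sec (UnitsSh.unitsAb (Xε k X)) (pX k X ⁻¹ᵁ U.unop)))
        fun z w => oval_injective (by
          rw [oval_add]
          show 1 + em k X U.unop (z + w) = (1 + em k X U.unop z) * (1 + em k X U.unop w)
          rw [HomTan.em_add]
          linear_combination -(HomTan.em_mul_em (k := k) X U.unop z w)))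
     naturality := fun U V g => by
      ext z
      refine oval_injective ?_
      show 1 + em k X V.unop (resO X g.unop.le z) =
        resO (Xε k X) ((pX k X).preimage_mono g.unop.le) (1 + em k X U.unop z)
      rw [map_add, map_one, HomTan.em_res] }⟩

theorem oval_ex (U : X.Opens) (z : Γ(X, U)) :
    oval (X := Xε k X) (U := pX k X ⁻¹ᵁ U) ((ex k X).hom.app (op U) z) = 1 + em k X U z := rfl

theorem ex_injective (U : X.Opens) : Function.Injective ((ex k X).hom.app (op U)) := fun z w h =>
  HomTan.em_injective (k := k) X U (add_left_cancel (a := (1 : Γ(Xε k X, pX k X ⁻¹ᵁ U)))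
    ((oval_ex k X U z).symm.trans ((congrArg (oval (X := Xε k X)) h).trans (oval_ex k X U w))))

theorem resTop_toGlobal (c : k) (U : X.Opens) :
    Coh.resTop X (op U) (Coh.toGlobal (X ↘ Spec (CommRingCat.of k)) c) = str (X ↘ Spec (CommRingCat.of k)) U c := rfl

theorem ex_cm (c : k) : ex k X ≫ cm (scal k X c) (scal_fst k X c) =
    Coh.smulAb (Coh.structureModule X) (Coh.toGlobal (X ↘ Spec (CommRingCat.of k)) c) ≫ ex k X := by
  refine Sheaf.hom_ext (NatTrans.ext (funext fun U => ?_))
  ext z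
  refine oval_injective (X := Xε k X) ?_
  show muApp X (c • LinearMap.id) U.unop (1 + em k X U.unop z) =
    1 + HomTan.em k X U.unop (@HMul.hMul Γ(X, U.unop) Γ(X, U.unop) Γ(X, U.unop) _ (str (X ↘ Spec (CommRingCat.of k)) U.unop c) z)
  rw [map_add, map_one, scal_em]

theorem exists_ex_eq (U : X.Opens) (s : sec (UP (pX k X)) U) :
    ∃ z, (ex k X).hom.app (op U) z + (cm (scal k X 0) (scal_fst k X 0)).hom.app (op U) s = s := by
  let u : Γ(Xε k X, pX k X ⁻¹ᵁ U)ˣ := UnitsSh.unitOfSect (show sec (UnitsSh.unitsAb (Xε k X)) (pX k X ⁻¹ᵁ U) from s)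
  obtain ⟨r, hr⟩ := HomTan.exists_decomp (k := k) X U u.1
  refine ⟨r * dn k X U u⁻¹.1, oval_injective (X := Xε k X) ?_⟩
  have hd : ∀ t, muApp X ((0 : k) • (LinearMap.id : k →ₗ[k] k)) U t = pb k X U (dn k X U t) := by
    intro t
    have key : ∀ (f : Xε k X ⟶ Xε k X) (_ : f = pX k X ≫ sect k X) (e),
        f.appLE (pX k X ⁻¹ᵁ U) (pX k X ⁻¹ᵁ U) e t = pb k X U (dn k X U t) := by
      rintro _ rfl e
      show _ = (dn k X U ≫ (pX k X).app U) t
      rw [Scheme.Hom.app_eq_appLE, Scheme.Hom.appLE_comp_appLE]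
    exact key _ (scal_zero k X) _
  show (1 + em k X U (r * dn k X U u⁻¹.1)) * muApp X ((0 : k) • LinearMap.id) U u.1 = u.1
  rw [hd, mul_comm r, HomTan.em_mul]
  have h1 : pb k X U (dn k X U u⁻¹.1) * pb k X U (dn k X U u.1) = 1 := by
    rw [← map_mul, ← map_mul, u.inv_mul, map_one, map_one]
  linear_combination (em k X U r) * h1 - hr

/-- The retraction onto the first order part. -/
def rex : UP (pX k X) ⟶ Coh.toAb (Coh.structureModule X) :=
  ⟨{ app := fun U => AddCommGrpCat.ofHom (AddMonoidHom.mk'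
        (fun s => (exists_ex_eq k X U.unop s).choose)
        fun s t => ex_injective k X U.unop (add_right_cancel
          (b := (cm (scal k X 0) (scal_fst k X 0)).hom.app U (s + t)) (by
            rw [(exists_ex_eq k X U.unop (s + t)).choose_spec, map_add, map_add]
            conv_lhs => rw [← (exists_ex_eq k X U.unop s).choose_spec, ← (exists_ex_eq k X U.unop t).choose_spec]
            abel)))
     naturality := fun U V g => by
      ext s
      refine ex_injective k X V.unop (add_right_cancel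
        (b := (cm (scal k X 0) (scal_fst k X 0)).hom.app V ((UP (pX k X)).obj.map g s)) ?_)
      refine (exists_ex_eq k X V.unop _).choose_spec.trans ?_
      conv_lhs => rw [← (exists_ex_eq k X U.unop s).choose_spec]
      rw [map_add]
      exact congrArg₂ (· + ·) (ConcreteCategory.congr_hom ((ex k X).hom.naturality g) _).symm
        (ConcreteCategory.congr_hom ((cm (scal k X 0) (scal_fst k X 0)).hom.naturality g) s).symm }⟩

theorem rex_ex : rex k X ≫ ex k X + cm (scal k X 0) (scal_fst k X 0) = 𝟙 _ := by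
  refine Sheaf.hom_ext (NatTrans.ext (funext fun U => ?_))
  ext s
  exact (exists_ex_eq k X U.unop s).choose_spec

theorem ex_cm_zero : ex k X ≫ cm (scal k X 0) (scal_fst k X 0) = 0 := by
  rw [ex_cm, map_zero, Coh.smulAb_zero, zero_comp]

theorem ex_rex : ex k X ≫ rex k X = 𝟙 _ := by
  have h : (ex k X ≫ rex k X) ≫ ex k X = ex k X := by
    have h1 := congrArg (fun t => ex k X ≫ t) (rex_ex k X)
    rw [Preadditive.comp_add, ex_cm_zero, add_zero, Category.comp_id] at h1
    rw [Category.assoc]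
    exact h1
  refine Sheaf.hom_ext (NatTrans.ext (funext fun U => ?_))
  ext z
  exact ex_injective k X U.unop
    (ConcreteCategory.congr_hom (NatTrans.congr_app (congrArg (fun e => e.hom) h) U) z)

/-- **First order deformations of the trivial class**, linearly in the field. -/
theorem exists_beta :
    ∃ β : Coh.HH X (Coh.structureModule X) 1 → PicLoc.PicSet (Xε k X), Function.Injective β ∧
      (∀ a b, β (a + b) = β a * β b) ∧ (∀ (c : k) a, β (c • a) = pull (scal k X c) (β a)) ∧
      ∀ x, pull (sect k X) x = 1 ↔ ∃ a, β a = x := by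
  obtain ⟨Ψ, hΨ⟩ := exists_psi (pX k X) (isHomeomorph_pX k X)
  have hn : ∀ c x, Ψ (Additive.ofMul (pull (scal k X c) x)) =
      Ext.comp (Ψ (Additive.ofMul x)) (Ext.mk₀ (cm (scal k X c) (scal_fst k X c))) (add_zero 1) := fun c x =>
    psi_pull (scal k X c) (scal_fst k X c) (isHomeomorph_pX k X) (isHomeomorph_scal k X c) (isHomeomorph_pX k X)
      hΨ hΨ x
  let e : Coh.HH X (Coh.structureModule X) 1 →+ CohTop.H (UP (pX k X)) 1 :=
    (Ext.mk₀ (ex k X)).postcomp _ (add_zero 1)
  have he : ∀ a, e a = Ext.comp a (Ext.mk₀ (ex k X)) (add_zero 1) := fun a => rfl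
  refine ⟨fun a => (Ψ.symm (e a)).toMul, fun a b h => ?_, fun a b => ?_, fun c a => ?_, fun x => ?_⟩
  · have h1 : e a = e b := Ψ.symm.injective (Additive.toMul.injective h)
    have h2 := congrArg (fun t => Ext.comp t (Ext.mk₀ (rex k X)) (add_zero 1)) h1
    have h3 : ∀ a, Ext.comp (e a) (Ext.mk₀ (rex k X)) (add_zero 1) = a := fun a => by
      rw [he, Ext.comp_assoc_of_second_deg_zero, Ext.mk₀_comp_mk₀]
      exact (congrArg (fun t => Ext.comp a (Ext.mk₀ t) (add_zero 1)) (ex_rex k X)).trans (Ext.comp_mk₀_id a)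
    exact (h3 a).symm.trans (h2.trans (h3 b))
  · show (Ψ.symm (e (a + b))).toMul = _
    rw [map_add, map_add, toMul_add]
  · apply Additive.ofMul.injective
    apply Ψ.injective
    rw [hn, ofMul_toMul, ofMul_toMul, AddEquiv.apply_symm_apply, AddEquiv.apply_symm_apply, he, he,
      Ext.comp_assoc_of_second_deg_zero, Ext.mk₀_comp_mk₀, ex_cm, ← Ext.mk₀_comp_mk₀,
      ← Ext.comp_assoc_of_second_deg_zero]
    rfl
  · have h0 : pull (sect k X) x = 1 ↔ pull (scal k X 0) x = 1 := by
      rw [scal_zero, ← pull_pull]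
      constructor
      · intro h
        rw [h, map_one]
      · intro h
        have h' := congrArg (pull (sect k X)) h
        rw [map_one, pull_pull, ExpSeq.sect_fst, pull_pull, Category.id_comp] at h'
        exact h'
    rw [h0]
    constructor
    · intro h
      have h1 := hn 0 x
      rw [h, ofMul_one, map_zero] at h1
      refine ⟨Ext.comp (Ψ (Additive.ofMul x)) (Ext.mk₀ (rex k X)) (add_zero 1), ?_⟩
      apply Additive.ofMul.injective
      apply Ψ.injective
      rw [ofMul_toMul, AddEquiv.apply_symm_apply, he, Ext.comp_assoc_of_second_deg_zero, Ext.mk₀_comp_mk₀]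
      have h2 := congrArg (fun t => Ext.comp (Ψ (Additive.ofMul x)) (Ext.mk₀ t) (add_zero 1)) (rex_ex k X)
      simp only [Ext.mk₀_add, Ext.comp_add, ← h1, add_zero, Ext.comp_mk₀_id] at h2
      exact h2
    · rintro ⟨a, rfl⟩
      apply Additive.ofMul.injective
      apply Ψ.injective
      rw [hn, ofMul_toMul, AddEquiv.apply_symm_apply, he, Ext.comp_assoc_of_second_deg_zero, Ext.mk₀_comp_mk₀,
        ex_cm_zero, Ext.mk₀_zero, Ext.comp_zero, ofMul_one, map_zero]

end field

end Groth.Agent.PicInf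

end
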