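import Groth.Agent.PicInf.PicZeroCurve

/-!
`Pic⁰` of a relative curve is the open and closed locus of degree zero in a representing scheme of the Picard functor.
-/

set_option autoImplicit false
set_option linter.unusedSectionVars false
set_option linter.style.haveILetI false
set_option backward.isDefEq.respectTransparency false
set_option backward.isDefEq.respectTransparency.types false
set_option maxHeartbeats 1600000

universe u

open CategoryTheory CategoryTheory.Limits AlgebraicGeometry TopologicalSpace Opposite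
open PicF
open Groth.Agent.W7Cube (pull pull_pull pull_cls)

attribute [local instance] Groth.Agent.W7Cube.law

noncomputable section

namespace Groth.Agent.PicInf.PicZeroOpen

variable {C S : Scheme.{u}} (f : C ⟶ S) [IsProper f] [Smooth f] [GeometricallyConnected f]
  (hdim : ∀ s : S, topologicalKrullDim ↥(f.fiber s) = 1)

include hdim

/-- A module of degree zero on the fibre is algebraically equivalent to zero on the geometric fibre. -/
theorem isAlgTrivialAt_of_delta (T : Over S) {L : (XT f T).Modules} (hL : PicF.IsInvertible L) (t : T.left)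
    (h : PicSmooth.delta f T L t = 0) : AbDual.IsAlgTrivialAt (XTproj f T) L t := by
  intro Ω _ _ σ hσ
  let p := XTproj f T
  haveI : IsProper p := MorphismProperty.pullback_snd _ _ ‹IsProper f›
  haveI : Smooth p := MorphismProperty.pullback_snd _ _ ‹Smooth f›
  haveI : GeometricallyConnected p := inferInstanceAs (GeometricallyConnected (pullback.snd f T.hom))
  letI : (pullback p σ).Over (Spec (CommRingCat.of Ω)) := ⟨pullback.snd p σ⟩
  haveI : IsProper (pullback p σ ↘ Spec (CommRingCat.of Ω)) := MorphismProperty.pullback_snd _ _ ‹_›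
  haveI : Smooth (pullback p σ ↘ Spec (CommRingCat.of Ω)) := MorphismProperty.pullback_snd _ _ ‹_›
  haveI : ConnectedSpace ↥(pullback p σ) :=
    GeometricallyConnected.geometrically_connectedSpace (f := p) _ _ _ (.of_hasPullback _ _)
  let y : Spec (CommRingCat.of Ω) := IsLocalRing.closedPoint Ω
  have hy : σ y = t := by
    have : σ y ∈ Set.range σ.base := ⟨y, rfl⟩
    rw [hσ] at this
    exact this
  have hd : topologicalKrullDim ↥(pullback p σ) = 1 :=
    ((PicZeroCurve.dim_fiber_field (pullback.snd p σ) y).symm.trans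
      ((DimField.dim_fiber_eq_of_isPullback (IsPullback.of_hasPullback p σ) y).trans
        (DimField.dim_fiber_eq_of_isPullback
          (show IsPullback (pullback.fst f T.hom) p f T.hom from IsPullback.of_hasPullback f T.hom) (σ y)))).trans
      (hdim _)
  rw [S12411.result Ω (pullback p σ) hd _ (PicLoc.isInvertible_pullback _ hL),
    ← PicZeroCurve.chiDiff_field hd.le (TMul.isQCoh_of_isInvertible (PicLoc.isInvertible_pullback _ hL)) y]
  have h2 := PicSmooth.chiDiff_pull (IsPullback.of_hasPullback p σ) hL y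
  rw [hy] at h2
  exact h2.trans h

/-- **`Pic⁰` classes are those of degree zero on all fibres.** -/
theorem picZero_iff_delta (T : Over S) {L : (XT f T).Modules} (hL : PicF.IsInvertible L) :
    AbDual.IsPicZeroCl f T (PicF.cl L) ↔ ∀ t, PicSmooth.delta f T L t = 0 := by
  constructor
  · rintro ⟨L', he, hL', hLt⟩ t
    obtain ⟨e⟩ := PicFam.nonempty_iso_of_cl_eq he
    rw [← PicSmooth.delta_iso f e t, PicSmooth.delta_eq f hdim T L' hL' t,
      PicSmooth.euler_eq_of_isAlgTrivialAt f hdim T L' hL' t (hLt t), sub_self]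
  · intro h
    exact ⟨L, rfl, hL, fun t => isAlgTrivialAt_of_delta f hdim T hL t (h t)⟩

variable {P : Over S} {φ : ∀ T : Over S, PicF.Cl (PicF.XT f T) → (T ⟶ P)}
  (hP : AbDual.IsRelPicK Scheme.fppfPrecoverage f P φ)
  {P₀ : Over S} {φ₀ : ∀ T : Over S, PicF.Cl (PicF.XT f T) → (T ⟶ P₀)}
  (hP₀ : AbDual.IsRelPicZeroK Scheme.fppfPrecoverage f P₀ φ₀)
  (j : P₀ ⟶ P) (hj : ∀ (T : Over S) (c : PicF.Cl (PicF.XT f T)), AbDual.IsPicZeroCl f T c → φ₀ T c ≫ j = φ T c)
  (d : ↥P.left → ℤ)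
  (hd : ∀ (T : Over S) (L : (PicF.XT f T).Modules), PicF.IsInvertible L → ∀ t : T.left,
    d ((φ T (PicF.cl L)).left.base t) = PicSmooth.delta f T L t)

include hP hP₀ hj

omit hdim in
/-- Morphisms to `Pic⁰` are determined by their composites to `Pic`. -/
theorem mono_j {T : Over S} (a b : T ⟶ P₀) (h : a ≫ j = b ≫ j) : a = b := by
  obtain ⟨R, hR, hRc⟩ := hP₀.locallySurjective T a
  refine Over.OverMorphism.ext (S12386.hom_ext_of_mem hR fun U u hu => ?_)
  obtain ⟨c, hc, hca⟩ := hRc u hu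
  let T₁ := AbDual.ovr T u
  let w := AbDual.ovrHom T u
  obtain ⟨R₂, hR₂, hR₂c⟩ := hP₀.locallySurjective T₁ (w ≫ b)
  refine S12386.hom_ext_of_mem hR₂ fun U₂ u₂ hu₂ => ?_
  obtain ⟨c', hc', hcb⟩ := hR₂c u₂ hu₂
  let T₂ := AbDual.ovr T₁ u₂
  let w₂ := AbDual.ovrHom T₁ u₂
  have hci : PicF.IsInvertibleCl c := by
    obtain ⟨L, hL, hLi, -⟩ := hc
    exact ⟨L, hL, hLi⟩
  have hc'i : PicF.IsInvertibleCl c' := by
    obtain ⟨L, hL, hLi, -⟩ := hc'
    exact ⟨L, hL, hLi⟩
  have hz : AbDual.IsPicZeroCl f T₂ (PicF.pullCl (PicF.XTmap f w₂) c) := by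
    obtain ⟨L, rfl, hL, hLt⟩ := hc
    exact LBDesc.picZero_XTmap f w₂ (c := PicGrp.cls L hL) ⟨L, rfl, hL, hLt⟩
  have hca₂ : φ₀ T₂ (PicF.pullCl (PicF.XTmap f w₂) c) = w₂ ≫ w ≫ a := by
    rw [hP₀.natural _ _ w₂ c hc, hca]
  have he : φ T₂ (PicF.pullCl (PicF.XTmap f w₂) c) = φ T₂ c' := by
    rw [← hj _ _ hz, ← hj _ _ hc', hca₂, hcb]
    simp only [Category.assoc, h]
    rfl
  obtain ⟨R₃, hR₃, hR₃c⟩ := hP.locallyInjective T₂ _ _ (PicRelBC.isInvertibleCl_pullCl _ hci) hc'i he
  refine S12386.hom_ext_of_mem hR₃ fun U₃ u₃ hu₃ => ?_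
  have e := congrArg (φ₀ _) (hR₃c u₃ hu₃)
  rw [hP₀.natural _ _ (AbDual.ovrHom T₂ u₃) _ hz, hP₀.natural _ _ (AbDual.ovrHom T₂ u₃) _ hc', hca₂, hcb] at e
  exact congrArg CommaMorphism.left e

include hd in
/-- `Pic⁰` lands in degree zero. -/
theorem degree_eq_zero (x : P₀.left) : d (j.left x) = 0 := by
  obtain ⟨R, hR, hRc⟩ := hP₀.locallySurjective P₀ (𝟙 P₀)
  obtain ⟨ι, U, u, rfl⟩ := R.exists_eq_ofArrows
  obtain ⟨hcov, -⟩ := (Scheme.ofArrows_mem_precoverage_iff _).1 hR
  obtain ⟨i, y, rfl⟩ := hcov x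
  obtain ⟨c, hc, hca⟩ := hRc (u i) (Presieve.ofArrows.mk i)
  obtain ⟨L, rfl, hL, hLt⟩ := id hc
  have e := congrArg CommaMorphism.left (hj _ _ hc)
  rw [hca, Category.comp_id] at e
  have e' : (φ _ (PicF.cl L)).left.base y = j.left ((u i).base y) :=
    (congrArg (fun g : _ ⟶ P.left => g.base y) e).symm
  rw [← e', hd _ L hL y]
  exact (picZero_iff_delta f hdim _ hL).1 hc y

include hd in
/-- A point of `Pic` of degree zero comes from `Pic⁰`. -/
theorem exists_lift {T : Over S} (g : T ⟶ P) (hg : ∀ t : T.left, d (g.left t) = 0) : ∃ a : T ⟶ P₀, a ≫ j = g := by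
  obtain ⟨R, hR, hRc⟩ := hP.locallySurjective T g
  have hz : ∀ ⦃U : Scheme.{u}⦄ (u : U ⟶ T.left), R u →
      ∃ a : AbDual.ovr T u ⟶ P₀, a ≫ j = AbDual.ovrHom T u ≫ g := by
    intro U u hu
    obtain ⟨c, hc, hφ⟩ := hRc u hu
    obtain ⟨L, rfl, hL⟩ := hc
    have h0 : AbDual.IsPicZeroCl f (AbDual.ovr T u) (PicF.cl L) :=
      (picZero_iff_delta f hdim _ hL).2 fun t => by
        rw [← hd _ L hL t, hφ]
        exact hg _
    exact ⟨φ₀ _ (PicF.cl L), (hj _ _ h0).trans hφ⟩
  choose a ha using hz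
  have hsheaf := (GrothendieckTopology.Subcanonical.isSheaf_of_isRepresentable (J := Scheme.fppfTopology)
    (yoneda.obj P₀.left)).isSheafFor R (Precoverage.generate_mem_toGrothendieck hR)
  let fam : Presieve.FamilyOfElements (yoneda.obj P₀.left) R := fun U u hu => (a u hu).left
  have hcompat : fam.Compatible := by
    intro Y₁ Y₂ Z g₁ g₂ u₁ u₂ h₁ h₂ hcomm
    let T₃ := AbDual.ovr T (g₁ ≫ u₁)
    let r₁ : T₃ ⟶ AbDual.ovr T u₁ := Over.homMk g₁ (Category.assoc _ _ _).symm
    let r₂ : T₃ ⟶ AbDual.ovr T u₂ := Over.homMk g₂ (by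
      show g₂ ≫ u₂ ≫ T.hom = (g₁ ≫ u₁) ≫ T.hom
      rw [hcomm, Category.assoc])
    have hr : r₁ ≫ AbDual.ovrHom T u₁ = r₂ ≫ AbDual.ovrHom T u₂ := Over.OverMorphism.ext hcomm
    have e := mono_j f hP hP₀ j hj (r₁ ≫ a u₁ h₁) (r₂ ≫ a u₂ h₂) (by
      rw [Category.assoc, Category.assoc, ha, ha, ← Category.assoc, ← Category.assoc, hr])
    exact congrArg CommaMorphism.left e
  let b : T.left ⟶ P₀.left := hsheaf.amalgamate fam hcompat
  have hb : ∀ ⦃U : Scheme.{u}⦄ (u : U ⟶ T.left) (hu : R u), u ≫ b = (a u hu).left :=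
    fun U u hu => hsheaf.valid_glue hcompat u hu
  refine ⟨Over.homMk b (S12386.hom_ext_of_mem hR fun U u hu => ?_), Over.OverMorphism.ext
    (S12386.hom_ext_of_mem hR fun U u hu => ?_)⟩
  · rw [← Category.assoc, hb u hu]
    exact Over.w (a u hu)
  · show u ≫ b ≫ j.left = u ≫ g.left
    rw [← Category.assoc, hb u hu]
    exact congrArg CommaMorphism.left (ha u hu)

include hd in
/-- **`Pic⁰` is open and closed in `Pic`.** -/
theorem isOpenImmersion_isClosedImmersion (hlc : IsLocallyConstant d) :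
    IsOpenImmersion j.left ∧ IsClosedImmersion j.left := by
  let V : P.left.Opens := ⟨d ⁻¹' {0}, hlc _⟩
  let T : Over S := Over.mk (V.ι ≫ P.hom)
  obtain ⟨s, hs⟩ := exists_lift f hdim hP hP₀ j hj d hd (T := T) (Over.homMk V.ι rfl) fun t => t.2
  have hr : Set.range j.left ⊆ Set.range V.ι := by
    rintro _ ⟨x, rfl⟩
    rw [Scheme.Opens.range_ι]
    exact degree_eq_zero f hdim hP hP₀ j hj d hd x
  let l : P₀.left ⟶ V := IsOpenImmersion.lift V.ι j.left hr
  have hl : l ≫ V.ι = j.left := IsOpenImmersion.lift_fac _ _ _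
  have h1 : s.left ≫ l = 𝟙 _ := (cancel_mono V.ι).1 (by
    rw [Category.assoc, hl, Category.id_comp]
    exact congrArg CommaMorphism.left hs)
  let lO : P₀ ⟶ T := Over.homMk l (by
    show l ≫ V.ι ≫ P.hom = P₀.hom
    rw [← Category.assoc, hl, Over.w j])
  have h2 : l ≫ s.left = 𝟙 _ := by
    refine congrArg CommaMorphism.left (mono_j f hP hP₀ j hj (lO ≫ s) (𝟙 P₀) ?_)
    rw [Category.assoc, hs, Category.id_comp]
    exact Over.OverMorphism.ext hl
  haveI : IsIso l := ⟨s.left, h2, h1⟩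
  haveI ho : IsOpenImmersion j.left := by rw [← hl]; infer_instance
  refine ⟨ho, IsClosedImmersion.of_isPreimmersion _ ?_⟩
  have hrange : Set.range j.left = d ⁻¹' {0} := by
    rw [← hl, Scheme.Hom.comp_base, TopCat.coe_comp, Set.range_comp,
      Set.range_eq_univ.2 (show Function.Surjective l.base from l.homeomorph.surjective), Set.image_univ, Scheme.Opens.range_ι]
    rfl
  rw [hrange]
  exact hlc.isClosed_fiber 0

end Groth.Agent.PicInf.PicZeroOpen
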