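import Groth.Agent.ExpSeq.DeformRoot
import Groth.Agent.W7Cube.Pic
import Groth.Agent.AltN1.Basic
import Mathlib.Dynamics.Newton
import Mathlib.FieldTheory.IsAlgClosed.Basic
import Mathlib.RingTheory.Artinian.Ring

/-!
Roots of invertible classes along thickenings: existence with prescribed restriction, and uniqueness.
-/

set_option autoImplicit false
set_option linter.unusedSectionVars false
set_option linter.style.haveILetI false
set_option backward.isDefEq.respectTransparency false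
set_option backward.isDefEq.respectTransparency.types false
set_option maxHeartbeats 1000000

universe u

open CategoryTheory CategoryTheory.Limits CategoryTheory.Abelian AlgebraicGeometry TopologicalSpace Opposite
open Groth.Agent.ZarPicLib (sec rr oval oval_rr oval_injective)
open Groth.Agent.W7Cube (pull pull_pull)
open Groth.Agent.ExpSeq.Deform (isIso_nsmul eq_zero_of_nsmul exists_nsmul_eq)

attribute [local instance] Groth.Agent.W7Cube.law

noncomputable section

namespace Groth.Agent.PicInf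

section gen

variable {T : TopCat.{u}} {S : ShortComplex (CohTop.Ab T)} (hS : S.ShortExact)
include hS

/-- dividing with a prescribed image -/
theorem exists_div_over (n : ℕ) [IsIso (n • 𝟙 S.X₁)] (x : CohTop.H S.X₂ 1) (y : CohTop.H S.X₃ 1)
    (hy : n • y = Ext.comp x (Ext.mk₀ S.g) (add_zero 1)) :
    ∃ m : CohTop.H S.X₂ 1, n • m = x ∧ Ext.comp m (Ext.mk₀ S.g) (add_zero 1) = y := by
  let g : CohTop.H S.X₂ 1 →+ CohTop.H S.X₃ 1 := (Ext.mk₀ S.g).postcomp _ (add_zero 1)
  let d : CohTop.H S.X₃ 1 →+ CohTop.H S.X₁ 2 := hS.extClass.postcomp _ rfl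
  let f : CohTop.H S.X₁ 1 →+ CohTop.H S.X₂ 1 := (Ext.mk₀ S.f).postcomp _ (add_zero 1)
  have hdg : d (g x) = 0 := by
    change Ext.comp (Ext.comp x (Ext.mk₀ S.g) (add_zero 1)) hS.extClass rfl = 0
    rw [Ext.comp_assoc_of_second_deg_zero, hS.comp_extClass, Ext.comp_zero]
  have hgf : ∀ k, g (f k) = 0 := fun k => by
    change Ext.comp (Ext.comp k (Ext.mk₀ S.f) (add_zero 1)) (Ext.mk₀ S.g) (add_zero 1) = 0
    rw [Ext.comp_assoc_of_second_deg_zero, Ext.mk₀_comp_mk₀, S.zero, Ext.mk₀_zero, Ext.comp_zero]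
  have hy' : n • y = g x := hy
  have h0 : d y = 0 := eq_zero_of_nsmul S.X₁ 2 n (by rw [← map_nsmul, hy', hdg])
  obtain ⟨m, hm⟩ := Ext.covariant_sequence_exact₃ _ hS y rfl h0
  have hgm : g m = y := hm
  have hk : g (x - n • m) = 0 := by rw [map_sub, map_nsmul, hgm, hy', sub_self]
  obtain ⟨k, hk'⟩ := Ext.covariant_sequence_exact₂ _ hS (x - n • m) hk
  obtain ⟨k', hk''⟩ := exists_nsmul_eq S.X₁ 1 n k
  have hfk : f k = x - n • m := hk'
  have hk2 : n • k' = k := hk''
  refine ⟨m + f k', ?_, ?_⟩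
  · rw [smul_add, ← map_nsmul, hk2, hfk, add_sub_cancel]
  · change g (m + f k') = y
    rw [map_add, hgf, add_zero, hgm]

/-- no torsion over zero, when the units below are divisible -/
theorem eq_zero_of_div (n : ℕ) [IsIso (n • 𝟙 S.X₁)] (hdiv : ∀ w : CohTop.H S.X₃ 0, ∃ w', n • w' = w)
    (x : CohTop.H S.X₂ 1) (h1 : Ext.comp x (Ext.mk₀ S.g) (add_zero 1) = 0) (h2 : n • x = 0) : x = 0 := by
  let d : CohTop.H S.X₃ 0 →+ CohTop.H S.X₁ 1 := hS.extClass.postcomp _ rfl
  let f : CohTop.H S.X₁ 1 →+ CohTop.H S.X₂ 1 := (Ext.mk₀ S.f).postcomp _ (add_zero 1)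
  obtain ⟨k, hk⟩ := Ext.covariant_sequence_exact₂ _ hS x h1
  have hfk : f k = x := hk
  have hnk : f (n • k) = 0 := by rw [map_nsmul, hfk, h2]
  obtain ⟨w, hw⟩ := Ext.covariant_sequence_exact₁ _ hS (n • k) hnk rfl
  have hdw : d w = n • k := hw
  obtain ⟨w', rfl⟩ := hdiv w
  rw [map_nsmul] at hdw
  have hk0 : k - d w' = 0 := eq_zero_of_nsmul S.X₁ 1 n (by rw [smul_sub, hdw, sub_self])
  have hfd : f (d w') = 0 := by
    change Ext.comp (Ext.comp w' hS.extClass rfl) (Ext.mk₀ S.f) (add_zero 1) = 0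
    rw [Ext.comp_assoc_of_third_deg_zero, hS.extClass_comp, Ext.comp_zero]
  rw [← hfk, sub_eq_zero.1 hk0, hfd]

end gen

variable {Y R : Scheme.{u}} (j : R ⟶ Y) [IsClosedImmersion j] (hj : IsHomeomorph j.base) (n : ℕ)
  (hn : ∀ U : Y.Opens, IsUnit (n : Γ(Y, U)))
  (hsq : ∀ (U : Y.Opens), IsAffineOpen U → ∀ z : Γ(Y, U), j.app U z = 0 → z * z = 0)
include hj hn hsq

/-- Roots lift along square-zero thickenings, with the given restriction. -/
theorem exists_root_over (c : PicLoc.PicSet Y) (d : PicLoc.PicSet R) (hd : d ^ n = pull j c) :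
    ∃ e, e ^ n = c ∧ pull j e = d := by
  have hnil : ∀ (U : Y.Opens), IsAffineOpen U → ∀ z : Γ(Y, U), j.app U z = 0 → IsNilpotent z :=
    fun U hU z hz => ⟨2, by rw [pow_two]; exact hsq U hU z hz⟩
  haveI : IsIso (n • 𝟙 (ThickPic.kerSeq j).X₁) := isIso_nsmul j hj n hn hsq
  obtain ⟨ΨR, hΨ⟩ := ThickPic.exists_picEquiv_compat j hj (W7Cube.pullMul j)
  obtain ⟨m, hm1, hm2⟩ := exists_div_over (ThickPic.kerSeq_shortExact j hj hnil) n
    (ThickPic.picH1 Y (Additive.ofMul c)) (ΨR (Additive.ofMul d)) (by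
      refine Eq.trans ?_ (hΨ c).symm
      exact (map_nsmul ΨR n (Additive.ofMul d)).symm.trans (congrArg ΨR (congrArg Additive.ofMul hd)))
  obtain ⟨e, rfl⟩ := (ThickPic.picH1 Y).surjective m
  refine ⟨e.toMul, Additive.ofMul.injective ((ThickPic.picH1 Y).injective ?_),
    Additive.ofMul.injective (ΨR.injective ((hΨ e.toMul).symm.trans hm2))⟩
  rw [ofMul_pow, ofMul_toMul, map_nsmul, hm1]

/-- Roots are unique when the units of the subscheme are divisible. -/
theorem root_unique (hdiv : ∀ v : Γ(R, ⊤)ˣ, ∃ w, w ^ n = v) (c : PicLoc.PicSet Y) (h1 : pull j c = 1)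
    (h2 : c ^ n = 1) : c = 1 := by
  have hnil : ∀ (U : Y.Opens), IsAffineOpen U → ∀ z : Γ(Y, U), j.app U z = 0 → IsNilpotent z :=
    fun U hU z hz => ⟨2, by rw [pow_two]; exact hsq U hU z hz⟩
  haveI : IsIso (n • 𝟙 (ThickPic.kerSeq j).X₁) := isIso_nsmul j hj n hn hsq
  obtain ⟨ΨR, hΨ⟩ := ThickPic.exists_picEquiv_compat j hj (W7Cube.pullMul j)
  refine Additive.ofMul.injective ((ThickPic.picH1 Y).injective ?_)
  rw [ofMul_one, map_zero]
  refine eq_zero_of_div (ThickPic.kerSeq_shortExact j hj hnil) n (fun w => ?_) _ ?_ ?_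
  · let ev : CohTop.H ((CohTop.push j.base).obj (UnitsSh.unitsAb R)) 0 ≃+
        sec (UnitsSh.unitsAb R) (j ⁻¹ᵁ ⊤) :=
      Sheaf.H.equiv₀ _ (Limits.isTerminalTop (α := Y.Opens))
    obtain ⟨v, hv⟩ := hdiv (UnitsSh.unitOfSect (O := R.presheaf) (ev w))
    refine ⟨ev.symm (UnitsSh.sectOfUnit (O := R.presheaf) v), ev.injective ?_⟩
    rw [map_nsmul, AddEquiv.apply_symm_apply]
    refine oval_injective ?_
    rw [ThickPic.oval_nsmul]
    show (v : Γ(R, ⊤)) ^ n = _
    rw [← Units.val_pow_eq_pow_val, hv]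
    rfl
  · refine (hΨ c).trans ?_
    show ΨR (Additive.ofMul (pull j c)) = 0
    rw [h1, ofMul_one, map_zero]
  · rw [← map_nsmul, ← ofMul_pow, h2, ofMul_one, map_zero]

omit hj hn hsq in
/-- Units of a finite algebra over an algebraically closed field have roots of invertible order. -/
theorem exists_unit_root {K A : Type u} [Field K] [IsAlgClosed K] [CommRing A] [Algebra K A] [Module.Finite K A]
    (hn : IsUnit (n : A)) (v : Aˣ) : ∃ w : Aˣ, w ^ n = v := by
  classical
  rcases Nat.eq_zero_or_pos n with rfl | hpos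
  · rw [Nat.cast_zero, isUnit_zero_iff] at hn
    haveI := subsingleton_of_zero_eq_one hn
    exact ⟨1, Units.ext (Subsingleton.elim _ _)⟩
  haveI : IsArtinianRing A := IsArtinianRing.of_finite K A
  have hroot : ∀ m : MaximalSpectrum A, ∃ a : A, a ^ n - v ∈ m.asIdeal := fun m => by
    haveI := m.isMaximal
    letI : Field (A ⧸ m.asIdeal) := Ideal.Quotient.field _
    haveI : Module.Finite K (A ⧸ m.asIdeal) :=
      Module.Finite.of_surjective (Ideal.Quotient.mkₐ K m.asIdeal).toLinearMap (Ideal.Quotient.mkₐ_surjective K m.asIdeal)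
    haveI : Algebra.IsIntegral K (A ⧸ m.asIdeal) := Algebra.IsIntegral.of_finite K _
    obtain ⟨-, hsurj⟩ := IsAlgClosed.algebraMap_bijective_of_isIntegral (k := K) (K := (A ⧸ m.asIdeal : Type u))
    obtain ⟨b, hb⟩ := hsurj (Ideal.Quotient.mk m.asIdeal v)
    obtain ⟨z, hz⟩ := IsAlgClosed.exists_pow_nat_eq b hpos
    refine ⟨algebraMap K A z, Ideal.Quotient.eq_zero_iff_mem.1 ?_⟩
    rw [map_sub, map_pow, Ideal.Quotient.mk_algebraMap, ← map_pow, hz, hb, sub_self]
  choose a ha using hroot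
  obtain ⟨x, hx⟩ := Ideal.exists_forall_sub_mem_ideal (I := fun m : MaximalSpectrum A => m.asIdeal)
    (fun m m' h => Ideal.isCoprime_iff_sup_eq.2
      (m.isMaximal.coprime_of_ne m'.isMaximal fun e => h (MaximalSpectrum.ext e))) a
  have hmem : ∀ m : MaximalSpectrum A, x ^ n - (v : A) ∈ m.asIdeal := fun m => by
    have h0 : x ^ n - a m ^ n ∈ m.asIdeal := Ideal.mem_of_dvd _ (sub_dvd_pow_sub_pow _ _ n) (hx m)
    have h1 := Ideal.add_mem _ h0 (ha m)
    rwa [sub_add_sub_cancel] at h1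
  have hnil : IsNilpotent (x ^ n - (v : A)) := by
    rw [← mem_nilradical, nilradical_eq_sInf, Ideal.mem_sInf]
    intro p hp
    haveI : p.IsPrime := hp
    exact hmem ⟨p, IsArtinianRing.isMaximal_of_isPrime p⟩
  have hxu : IsUnit x := by
    refine (isUnit_pow_iff hpos.ne').1 ?_
    have h := hnil.isUnit_add_left_of_commute v.isUnit (Commute.all _ _)
    rwa [add_sub_cancel] at h
  let Q : Polynomial A := Polynomial.X ^ n - Polynomial.C (v : A)
  obtain ⟨r, ⟨-, hr⟩, -⟩ := Polynomial.existsUnique_nilpotent_sub_and_aeval_eq_zero (P := Q) (x := x)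
    (by simpa [Q] using hnil) (by simpa [Q, Polynomial.derivative_X_pow] using hn.mul (hxu.pow (n - 1)))
  have hr' : r ^ n = v := by simpa [Q, sub_eq_zero] using hr
  have hru : IsUnit r := (isUnit_pow_iff hpos.ne').1 (hr' ▸ v.isUnit)
  exact ⟨hru.unit, Units.ext (by rw [Units.val_pow_eq_pow_val]; exact hr')⟩

end Groth.Agent.PicInf

end
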