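import Groth.Agent.PicInf.Relative
import Groth.Agent.PicInf.RootMap
import Groth.Agent.AgSymm.PoincarePow
import Groth.Agent.UnramFibre.Basic

/-!
Infinitesimal lifting through the power maps of a relative Picard scheme.
-/

set_option autoImplicit false
set_option linter.unusedSectionVars false
set_option linter.style.haveILetI false
set_option backward.isDefEq.respectTransparency false
set_option backward.isDefEq.respectTransparency.types false
set_option maxHeartbeats 1600000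

universe u

open CategoryTheory CategoryTheory.Limits AlgebraicGeometry Opposite
open Groth.Agent.W7Cube (pull pull_pull)
open IsLocalRing (closedPoint)

attribute [local instance] Groth.Agent.W7Cube.law

noncomputable section

namespace Groth.Agent.PicInf

/-- An artinian point lifts into a smooth scheme over it after a finite residue extension. -/
theorem exists_section_ext {B : Type u} [CommRing B] [IsLocalRing B] [IsArtinianRing B] {U : Scheme.{u}}
    (u : U ⟶ Spec (CommRingCat.of B)) [Smooth u] (u₀ : U) :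
    ∃ (κ : Type u) (_ : Field κ) (_ : Algebra B κ) (_ : Module.Finite B κ),
      ∀ (C : Type u) [CommRing C] [IsLocalRing C] [IsArtinianRing C] (ψ : B →+* C) (r : C →+* κ),
        Function.Surjective r → r.comp ψ = algebraMap B κ →
        ∃ h : Spec (CommRingCat.of C) ⟶ U, h ≫ u = Spec.map (CommRingCat.ofHom ψ) := by
  obtain ⟨W, hW, hu₀, -⟩ := exists_isAffineOpen_mem_and_subset (X := U) (x := u₀) (U := ⊤) trivial
  obtain ⟨a, ha⟩ : ∃ a : CommRingCat.of B ⟶ Γ(U, W), Spec.map a = hW.fromSpec ≫ u :=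
    Spec.map_surjective (hW.fromSpec ≫ u)
  haveI : LocallyOfFiniteType (Spec.map a) := by rw [ha]; infer_instance
  letI : Algebra B Γ(U, W) := a.hom.toAlgebra
  haveI : Algebra.FiniteType B Γ(U, W) :=
    (HasRingHomProperty.Spec_iff (P := @LocallyOfFiniteType) (φ := a)).1 ‹_›
  obtain ⟨M, hM, -⟩ := Ideal.exists_le_maximal _ (hW.primeIdealOf ⟨u₀, hu₀⟩).2.ne_top
  haveI := hM
  letI : Field (Γ(U, W) ⧸ M) := Ideal.Quotient.field M
  haveI : Algebra.FiniteType B (Γ(U, W) ⧸ M) :=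
    Algebra.FiniteType.of_surjective (Ideal.Quotient.mkₐ B M) (Ideal.Quotient.mkₐ_surjective B M)
  refine ⟨Γ(U, W) ⧸ M, inferInstance, inferInstance, finite_of_finite_type_of_isJacobsonRing _ _, ?_⟩
  intro C _ _ _ ψ r hr hψ
  obtain ⟨n, hn⟩ := IsArtinianRing.isNilpotent_jacobson_bot (R := C)
  have hpow : RingHom.ker r ^ n = ⊥ := by
    rw [IsLocalRing.jacobson_eq_maximalIdeal ⊥ bot_ne_top] at hn
    exact le_bot_iff.1 ((Ideal.pow_right_mono (IsLocalRing.le_maximalIdeal (RingHom.ker_ne_top r)) n).trans hn.le)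
  obtain ⟨h, -, hh⟩ := MTBridge.exists_lift_of_smooth_nil u n r hr hpow
    (Spec.map (CommRingCat.ofHom (Ideal.Quotient.mk M)) ≫ hW.fromSpec) (Spec.map (CommRingCat.ofHom ψ)) (by
      rw [Category.assoc, ← ha, ← Spec.map_comp, ← Spec.map_comp, ← CommRingCat.ofHom_comp, hψ]
      rfl)
  exact ⟨h, hh⟩

/-- The quotient of an extension. -/
theorem exists_quot {A B A' : Type u} [CommRing A] [IsLocalRing A] [IsArtinianRing A] [CommRing B] [Nontrivial B]
    [CommRing A'] [IsLocalRing A'] [IsArtinianRing A'] [Algebra A A'] (q : A →+* B) (hq : Function.Surjective q) :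
    ∃ (B₁ : Type u) (_ : CommRing B₁) (_ : IsLocalRing B₁) (_ : IsArtinianRing B₁) (q₁ : A' →+* B₁) (ψ : B →+* B₁),
      Function.Surjective q₁ ∧ RingHom.ker q₁ = (RingHom.ker q).map (algebraMap A A') ∧
        ψ.comp q = q₁.comp (algebraMap A A') := by
  let I : Ideal A' := (RingHom.ker q).map (algebraMap A A')
  have hI : I ≤ IsLocalRing.maximalIdeal A' := by
    rw [Ideal.map_le_iff_le_comap]
    intro x hx
    have hx' : x ∈ nilradical A := by
      rw [nilradical_eq_sInf, Ideal.mem_sInf]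
      intro p hp
      haveI : p.IsPrime := hp
      rw [IsLocalRing.eq_maximalIdeal (IsArtinianRing.isMaximal_of_isPrime p)]
      exact IsLocalRing.le_maximalIdeal (RingHom.ker_ne_top q) hx
    obtain ⟨m, hm⟩ := hx'
    exact (IsLocalRing.maximalIdeal.isMaximal A').isPrime.mem_of_pow_mem m (by
      rw [← map_pow, hm, map_zero]; exact Ideal.zero_mem _)
  haveI : Nontrivial (A' ⧸ I) := Ideal.Quotient.nontrivial_iff.2
    (ne_top_of_le_ne_top (IsLocalRing.maximalIdeal.isMaximal A').ne_top hI)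
  haveI : IsLocalRing (A' ⧸ I) := IsLocalRing.of_surjective' (Ideal.Quotient.mk I) Ideal.Quotient.mk_surjective
  refine ⟨A' ⧸ I, inferInstance, inferInstance, inferInstance, Ideal.Quotient.mk I,
    q.liftOfSurjective hq ⟨(Ideal.Quotient.mk I).comp (algebraMap A A'), fun x hx => ?_⟩,
    Ideal.Quotient.mk_surjective, Ideal.mk_ker, RingHom.liftOfRightInverse_comp _ _ _ _⟩
  exact RingHom.mem_ker.2 (Ideal.Quotient.eq_zero_iff_mem.2 (Ideal.mem_map_of_mem _ hx))

/-- A local finite free extension with prescribed residue extension of a quotient. -/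
theorem exists_ext {A B κ : Type u} [CommRing A] [IsLocalRing A] [IsArtinianRing A] [CommRing B] [Nontrivial B] [Field κ]
    [Algebra B κ] [Module.Finite B κ] (q : A →+* B) (hq : Function.Surjective q) :
    ∃ (A' : Type u) (_ : CommRing A') (_ : Algebra A A') (_ : IsLocalRing A') (_ : IsArtinianRing A')
      (_ : Module.Finite A A') (_ : Module.Free A A') (B₁ : Type u) (_ : CommRing B₁) (_ : IsLocalRing B₁)
      (_ : IsArtinianRing B₁) (q₁ : A' →+* B₁) (ψ : B →+* B₁) (r : B₁ →+* κ),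
      Function.Surjective q₁ ∧ RingHom.ker q₁ = (RingHom.ker q).map (algebraMap A A') ∧
        ψ.comp q = q₁.comp (algebraMap A A') ∧ Function.Surjective r ∧ r.comp ψ = algebraMap B κ := by
  letI : Algebra A B := q.toAlgebra
  haveI : Module.Finite A B := Module.Finite.of_surjective (Algebra.linearMap A B) hq
  letI : Algebra A κ := ((algebraMap B κ).comp q).toAlgebra
  haveI : IsScalarTower A B κ := IsScalarTower.of_algebraMap_eq fun x => rfl
  haveI : Module.Finite A κ := Module.Finite.trans B κ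
  obtain ⟨A', iC, iA, iL, iR, iF, iFr, r₀, hr₀⟩ := exists_gonflement (A := A) (κ' := κ)
  obtain ⟨B₁, iC₁, iL₁, iR₁, q₁, ψ, hq₁, hker, hψ⟩ := exists_quot (A' := A') q hq
  have hle : RingHom.ker q₁ ≤ RingHom.ker r₀.toRingHom := by
    rw [hker, Ideal.map_le_iff_le_comap]
    intro x hx
    show r₀ (algebraMap A A' x) = 0
    rw [r₀.commutes]
    show algebraMap B κ (q x) = 0
    rw [RingHom.mem_ker.1 hx, map_zero]
  obtain ⟨r, hr⟩ : ∃ r : B₁ →+* κ, r.comp q₁ = r₀.toRingHom :=
    ⟨q₁.liftOfSurjective hq₁ ⟨r₀.toRingHom, hle⟩, RingHom.liftOfRightInverse_comp _ _ _ _⟩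
  refine ⟨A', iC, iA, iL, iR, iF, iFr, B₁, iC₁, iL₁, iR₁, q₁, ψ, r,
    hq₁, hker, hψ, fun y => ?_, (RingHom.cancel_right hq).1 ?_⟩
  · obtain ⟨x, rfl⟩ := hr₀ y
    exact ⟨q₁ x, congr($hr x)⟩
  · rw [RingHom.comp_assoc, hψ, ← RingHom.comp_assoc, hr]
    exact RingHom.ext fun x => r₀.commutes x

variable {X S : Scheme.{u}} {f : X ⟶ S} {P : Over S} {φ : ∀ T : Over S, PicF.Cl (PicF.XT f T) → (T ⟶ P)}

/-- The morphism of a ring map over a morphism. -/
abbrev specHom {B C : Type u} [CommRing B] [CommRing C] (τ : Spec (CommRingCat.of B) ⟶ S) (ψ : B →+* C) :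
    Over.mk (Spec.map (CommRingCat.ofHom ψ) ≫ τ) ⟶ Over.mk τ :=
  Over.homMk (Spec.map (CommRingCat.ofHom ψ))

theorem spec_comp {B C D : Type u} [CommRing B] [CommRing C] [CommRing D] {Z : Scheme.{u}}
    (ψ : C →+* D) (q : B →+* C) (τ : Spec (CommRingCat.of B) ⟶ Z) :
    Spec.map (CommRingCat.ofHom ψ) ≫ Spec.map (CommRingCat.ofHom q) ≫ τ =
      Spec.map (CommRingCat.ofHom (ψ.comp q)) ≫ τ := by
  rw [CommRingCat.ofHom_comp, Spec.map_comp, Category.assoc]

theorem rel_pull_comp (f : X ⟶ S) {T T' T'' : Over S} (a : T'' ⟶ T') (b : T' ⟶ T) (c : PicLoc.PicSet (PicF.XT f T)) :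
    pull (PicF.XTmap f a) (pull (PicF.XTmap f b) c) = pull (PicF.XTmap f (a ≫ b)) c := by
  rw [pull_pull, PicRelBC.XTmap_comp]

theorem rel_pull_id (f : X ⟶ S) {T : Over S} (c : PicLoc.PicSet (PicF.XT f T)) :
    pull (PicF.XTmap f (𝟙 T)) c = c := by
  have e : PicF.XTmap f (𝟙 T) = 𝟙 _ := by
    apply pullback.hom_ext
    · rw [PicRelBC.XTmap_fst, Category.id_comp]
    · rw [PicRelBC.XTmap_snd, Category.id_comp]
      exact Category.comp_id _
  rw [e]
  exact PicGrp.pullHom_id_apply _ c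

theorem isPullback_XTmap (f : X ⟶ S) {T T' : Over S} (i : T ⟶ T') :
    IsPullback (PicF.XTmap f i) (PicF.XTproj f T) (PicF.XTproj f T') i.left := by
  refine IsPullback.of_right ?_ (PicRelBC.XTmap_snd f i) (IsPullback.of_hasPullback f T'.hom)
  rw [PicRelBC.XTmap_fst, Over.w i]
  exact IsPullback.of_hasPullback f T.hom

/-- Equal points of classes are equal classes after a finite residue extension. -/
theorem exists_eq_ext (hP : PicRel.IsRelPic f P φ) {B : Type u} [CommRing B] [IsLocalRing B] [IsArtinianRing B]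
    (τ : Spec (CommRingCat.of B) ⟶ S) (c c' : PicLoc.PicSet (PicF.XT f (Over.mk τ)))
    (h : φ (Over.mk τ) c.1 = φ (Over.mk τ) c'.1) :
    ∃ (κ : Type u) (_ : Field κ) (_ : Algebra B κ) (_ : Module.Finite B κ),
      ∀ (C : Type u) [CommRing C] [IsLocalRing C] [IsArtinianRing C] (ψ : B →+* C) (r : C →+* κ),
        Function.Surjective r → r.comp ψ = algebraMap B κ →
        pull (PicF.XTmap f (specHom τ ψ)) c = pull (PicF.XTmap f (specHom τ ψ)) c' := by
  obtain ⟨ι, U, hU, hloc⟩ := hP.locallyInjective (Over.mk τ) c.1 c'.1 c.2 c'.2 h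
  obtain ⟨i, u₀, -⟩ := hU (closedPoint B)
  haveI : Etale (U i).hom := (U i).prop
  obtain ⟨κ, iF, iA, iM, hκ⟩ := exists_section_ext (U i).hom u₀
  refine ⟨κ, iF, iA, iM, fun C _ _ _ ψ r hr hψ => ?_⟩
  obtain ⟨g, hg⟩ := hκ C ψ r hr hψ
  let j : Over.mk (Spec.map (CommRingCat.ofHom ψ) ≫ τ) ⟶ PicRel.ovr (Over.mk τ) (U i) := Over.homMk g (by
    show g ≫ (U i).hom ≫ τ = _
    rw [reassoc_of% hg]
    rfl)
  have e : specHom τ ψ = j ≫ PicRel.ovrHom (Over.mk τ) (U i) := Over.OverMorphism.ext hg.symm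
  rw [e, ← rel_pull_comp, ← rel_pull_comp]
  exact congrArg (pull (PicF.XTmap f j)) (Subtype.ext (hloc i))

section thick

variable {A E : Type u} [CommRing A] [IsLocalRing A] [IsArtinianRing A] [CommRing E] [Nontrivial E]
  (τ : Spec (CommRingCat.of A) ⟶ S) (q : A →+* E) (hq : Function.Surjective q) (t : A)
  (hker : RingHom.ker q = Ideal.span {t}) (ht : t * t = 0)
include hq hker ht

theorem thick_data (f : X ⟶ S) (n : ℕ) (hn : IsUnit (n : A)) :
    IsClosedImmersion (PicF.XTmap f (specHom τ q)) ∧ IsHomeomorph (PicF.XTmap f (specHom τ q)).base ∧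
      (∀ U : (PicF.XT f (Over.mk τ)).Opens, IsUnit (n : Γ(PicF.XT f (Over.mk τ), U))) ∧
      ∀ U : (PicF.XT f (Over.mk τ)).Opens, IsAffineOpen U → ∀ z : Γ(PicF.XT f (Over.mk τ), U),
        (PicF.XTmap f (specHom τ q)).app U z = 0 → z * z = 0 := by
  have sq := isPullback_XTmap f (specHom τ q)
  haveI : Subsingleton (Spec (CommRingCat.of A)) := subsingleton_spec (A := A)
  haveI : IsClosedImmersion (Spec.map (CommRingCat.ofHom q)) := IsClosedImmersion.spec_of_surjective _ hq
  haveI : Surjective (Spec.map (CommRingCat.ofHom q)) := ⟨fun x => by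
    obtain ⟨y⟩ := (inferInstance : Nonempty (PrimeSpectrum E))
    exact ⟨y, Subsingleton.elim _ _⟩⟩
  haveI : IsClosedImmersion (PicF.XTmap f (specHom τ q)) :=
    MorphismProperty.of_isPullback (P := @IsClosedImmersion) sq.flip ‹IsClosedImmersion (Spec.map (CommRingCat.ofHom q))›
  haveI : Surjective (PicF.XTmap f (specHom τ q)) :=
    MorphismProperty.of_isPullback (P := @Surjective) sq.flip ‹Surjective (Spec.map (CommRingCat.ofHom q))›
  letI : (PicF.XT f (Over.mk τ)).Over (Spec (CommRingCat.of A)) := ⟨PicF.XTproj f (Over.mk τ)⟩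
  refine ⟨inferInstance, isHomeomorph_iff_isEmbedding_surjective.2
    ⟨(PicF.XTmap f (specHom τ q)).isClosedEmbedding.isEmbedding, (PicF.XTmap f (specHom τ q)).surjective⟩,
    fun U => ?_, fun U hU z hz => ?_⟩
  · have h := hn.map (W7Cech.secRing A U)
    rwa [map_natCast] at h
  · have hmem : z ∈ RingHom.ker ((PicF.XTmap f (specHom τ q)).app U).hom := hz
    rw [W7Alg.ker_app_baseChange q hq sq ⟨U, hU⟩, hker, Ideal.map_span, Set.image_singleton] at hmem
    obtain ⟨y, rfl⟩ := Ideal.mem_span_singleton'.1 hmem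
    have h0 : W7Cech.secRing A U t * W7Cech.secRing A U t = 0 := by rw [← map_mul, ht, map_zero]
    linear_combination (y * y) * h0

end thick

variable (hP : PicRel.IsRelPic f P φ)
include hP

theorem pow_phi {n : ℕ} {m : P ⟶ P}
    (hm : ∀ (T : Over S) (L : (PicF.XT f T).Modules), PicF.IsInvertible L →
      φ T (PicF.cl (CohB1.tensorPow L n)) = φ T (PicF.cl L) ≫ m)
    (T : Over S) (c : PicLoc.PicSet (PicF.XT f T)) : φ T (c ^ n).1 = φ T c.1 ≫ m := by
  obtain ⟨L, hL, rfl⟩ := PicGrp.exists_eq_cls c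
  rw [AgSymm.cls_tensorPow]
  exact hm T L hL

/-- **Lifts through the power map.** -/
theorem exists_lift_pow {n : ℕ} {m : P ⟶ P} (hpow : ∀ (T : Over S) (c : PicLoc.PicSet (PicF.XT f T)),
      φ T (c ^ n).1 = φ T c.1 ≫ m)
    {B' B : Type u} [CommRing B'] [CommRing B] [IsLocalRing B'] [IsLocalRing B] [IsArtinianRing B'] [IsArtinianRing B]
    (π : B' →+* B) (hπ : Function.Surjective π) (t : B') (hker : RingHom.ker π = Ideal.span {t}) (ht : t * t = 0)
    (hn : IsUnit (n : B')) (α : Spec (CommRingCat.of B) ⟶ P.left) (β : Spec (CommRingCat.of B') ⟶ P.left)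
    (comm : Spec.map (CommRingCat.ofHom π) ≫ β = α ≫ m.left) :
    ∃ γ : Spec (CommRingCat.of B') ⟶ P.left, Spec.map (CommRingCat.ofHom π) ≫ γ = α ∧ γ ≫ m.left = β := by
  -- a class for `α`
  obtain ⟨κ₁, _, _, _, hclass₁⟩ := exists_class_artin hP α
  obtain ⟨C', _, _, _, _, _, _, C, _, _, _, q₁, ψ₁, r₁, hq₁, hk₁, hψ₁, hr₁, hrψ₁⟩ :=
    exists_ext (A := B') (κ := κ₁) π hπ
  obtain ⟨c, hc⟩ := hclass₁ C ψ₁ r₁ hr₁ hrψ₁
  -- a class for `β`
  obtain ⟨κ₂, _, _, _, hclass₂⟩ := exists_class_artin hP (Spec.map (CommRingCat.ofHom (algebraMap B' C')) ≫ β)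
  obtain ⟨D', _, _, _, _, _, _, r₂, hr₂⟩ := exists_gonflement (A := C') (κ' := κ₂)
  obtain ⟨b, hb⟩ := hclass₂ D' (algebraMap C' D') r₂.toRingHom hr₂ (RingHom.ext fun x => r₂.commutes x)
  obtain ⟨D, _, _, _, q₂, ψ₂, hq₂, hk₂, hψ₂⟩ := exists_quot (A' := D') q₁ hq₁
  let τ₁ : Spec (CommRingCat.of C) ⟶ S := Spec.map (CommRingCat.ofHom ψ₁) ≫ α ≫ P.hom
  let τ₂ : Spec (CommRingCat.of D') ⟶ S :=
    Spec.map (CommRingCat.ofHom (algebraMap C' D')) ≫ (Spec.map (CommRingCat.ofHom (algebraMap B' C')) ≫ β) ≫ P.hom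
  let τD : Spec (CommRingCat.of D) ⟶ S := Spec.map (CommRingCat.ofHom q₂) ≫ τ₂
  have hring : (ψ₂.comp ψ₁).comp π = (q₂.comp (algebraMap C' D')).comp (algebraMap B' C') := by
    rw [RingHom.comp_assoc, hψ₁, ← RingHom.comp_assoc, hψ₂]
  have hsq : Spec.map (CommRingCat.ofHom ψ₂) ≫ Spec.map (CommRingCat.ofHom ψ₁) ≫ α ≫ m.left =
      Spec.map (CommRingCat.ofHom q₂) ≫ Spec.map (CommRingCat.ofHom (algebraMap C' D')) ≫
        Spec.map (CommRingCat.ofHom (algebraMap B' C')) ≫ β := by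
    simp only [← comm, ← Spec.map_comp_assoc, ← CommRingCat.ofHom_comp]
    rw [← RingHom.comp_assoc, hring]
    rfl
  let e₁ : Over.mk τD ⟶ Over.mk τ₁ := Over.homMk (Spec.map (CommRingCat.ofHom ψ₂)) (by
    show _ ≫ _ ≫ α ≫ P.hom = _ ≫ _ ≫ (_ ≫ β) ≫ P.hom
    have h := congrArg (fun z => z ≫ P.hom) hsq
    simp only [Category.assoc, Over.w m] at h ⊢
    exact h)
  have heq : φ (Over.mk τD) ((pull (PicF.XTmap f e₁) c) ^ n).1 =
      φ (Over.mk τD) (pull (PicF.XTmap f (specHom τ₂ q₂)) b).1 := by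
    rw [hpow, rel_nat hP, rel_nat hP]
    refine Over.OverMorphism.ext ?_
    show (Spec.map (CommRingCat.ofHom ψ₂) ≫ (φ (Over.mk τ₁) c.1).left) ≫ m.left =
      Spec.map (CommRingCat.ofHom q₂) ≫ (φ (Over.mk τ₂) b.1).left
    rw [hc, hb, Category.assoc, Category.assoc, hsq]
  -- make the classes equal
  obtain ⟨κ₃, _, _, _, heq₃⟩ := exists_eq_ext hP τD _ _ heq
  obtain ⟨E', _, _, _, _, _, _, E, _, _, _, q₃, ψ₃, r₃, hq₃, hk₃, hψ₃, hr₃, hrψ₃⟩ :=
    exists_ext (A := D') (κ := κ₃) q₂ hq₂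
  have hE := heq₃ E ψ₃ r₃ hr₃ hrψ₃
  letI : Algebra B' D' := ((algebraMap C' D').comp (algebraMap B' C')).toAlgebra
  haveI : IsScalarTower B' C' D' := IsScalarTower.of_algebraMap_eq fun x => rfl
  haveI : Module.Finite B' D' := Module.Finite.trans C' D'
  haveI : Module.Free B' D' := Module.Free.trans (R := B') (S := C') (M := D')
  letI : Algebra B' E' := ((algebraMap D' E').comp (algebraMap B' D')).toAlgebra
  haveI : IsScalarTower B' D' E' := IsScalarTower.of_algebraMap_eq fun x => rfl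
  haveI : Module.Finite B' E' := Module.Finite.trans D' E'
  haveI : Module.Free B' E' := Module.Free.trans (R := B') (S := D') (M := E')
  have hkE : RingHom.ker q₃ = Ideal.span {algebraMap B' E' t} := by
    rw [hk₃, hk₂, hk₁, hker, Ideal.map_span, Set.image_singleton, Ideal.map_span, Set.image_singleton,
      Ideal.map_span, Set.image_singleton]
    rfl
  have htE : algebraMap B' E' t * algebraMap B' E' t = 0 := by rw [← map_mul, ht, map_zero]
  have hnE : IsUnit (n : E') := by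
    have h := hn.map (algebraMap B' E')
    rwa [map_natCast] at h
  let τE : Spec (CommRingCat.of E') ⟶ S := Spec.map (CommRingCat.ofHom (algebraMap D' E')) ≫ τ₂
  obtain ⟨hcl, hho, hnU, hsqU⟩ := thick_data τE q₃ hq₃ (algebraMap B' E' t) hkE htE f n hnE
  haveI := hcl
  let u : Over.mk (Spec.map (CommRingCat.ofHom q₃) ≫ τE) ⟶ Over.mk (Spec.map (CommRingCat.ofHom ψ₃) ≫ τD) :=
    Over.homMk (𝟙 _) (by
      show 𝟙 _ ≫ _ ≫ _ ≫ τ₂ = _ ≫ _ ≫ τ₂
      rw [Category.id_comp]
      exact (spec_comp ψ₃ q₂ τ₂).trans ((congrArg (fun z => Spec.map (CommRingCat.ofHom z) ≫ τ₂) hψ₃).trans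
        (spec_comp q₃ (algebraMap D' E') τ₂).symm))
  obtain ⟨e, hen, hej⟩ := exists_root_over (PicF.XTmap f (specHom τE q₃)) hho n hnU hsqU
    (pull (PicF.XTmap f (specHom τ₂ (algebraMap D' E'))) b)
    (pull (PicF.XTmap f u) (pull (PicF.XTmap f (specHom τD ψ₃)) (pull (PicF.XTmap f e₁) c))) (by
      rw [← map_pow, ← map_pow, hE, rel_pull_comp, rel_pull_comp, rel_pull_comp]
      congr 3
      refine Over.OverMorphism.ext ?_
      show (𝟙 _ ≫ Spec.map (CommRingCat.ofHom ψ₃)) ≫ Spec.map (CommRingCat.ofHom q₂) =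
        Spec.map (CommRingCat.ofHom q₃) ≫ Spec.map (CommRingCat.ofHom (algebraMap D' E'))
      rw [Category.id_comp, ← Spec.map_comp, ← Spec.map_comp, ← CommRingCat.ofHom_comp, ← CommRingCat.ofHom_comp,
        hψ₃])
  have h1 : Spec.map (CommRingCat.ofHom q₃) ≫ (φ (Over.mk τE) e.1).left =
      Spec.map (CommRingCat.ofHom ((ψ₃.comp ψ₂).comp ψ₁)) ≫ α := by
    have h := congrArg (fun z => z.left) (rel_nat hP (specHom τE q₃) e)
    rw [hej] at h
    refine h.symm.trans ((congrArg (fun z => z.left) ((rel_nat hP u _).trans (congrArg (u ≫ ·)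
      ((rel_nat hP (specHom τD ψ₃) _).trans (congrArg (specHom τD ψ₃ ≫ ·) (rel_nat hP e₁ c)))))).trans ?_)
    show 𝟙 _ ≫ Spec.map (CommRingCat.ofHom ψ₃) ≫ Spec.map (CommRingCat.ofHom ψ₂) ≫ (φ (Over.mk τ₁) c.1).left = _
    rw [hc, Category.id_comp, spec_comp, spec_comp, RingHom.comp_assoc]
  have h2 : (φ (Over.mk τE) e.1).left ≫ m.left = Spec.map (CommRingCat.ofHom (algebraMap B' E')) ≫ β := by
    have h := congrArg (fun z => z.left) (hpow (Over.mk τE) e)
    rw [hen] at h
    refine h.symm.trans ((congrArg (fun z => z.left) (rel_nat hP (specHom τ₂ (algebraMap D' E')) b)).trans ?_)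
    show Spec.map (CommRingCat.ofHom (algebraMap D' E')) ≫ (φ (Over.mk τ₂) b.1).left = _
    rw [hb, spec_comp, spec_comp]
    rfl
  refine exists_descend_point m.left π hπ t hker ht ((ψ₃.comp ψ₂).comp ψ₁) q₃ ?_ hkE α β comm _ h1 h2
  refine RingHom.ext fun x => ?_
  have a₁ : ψ₁ (π x) = q₁ (algebraMap B' C' x) := congr($hψ₁ x)
  have a₂ : ∀ y, ψ₂ (q₁ y) = q₂ (algebraMap C' D' y) := fun y => congr($hψ₂ y)
  have a₃ : ∀ y, ψ₃ (q₂ y) = q₃ (algebraMap D' E' y) := fun y => congr($hψ₃ y)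
  show q₃ (algebraMap B' E' x) = ψ₃ (ψ₂ (ψ₁ (π x)))
  rw [a₁, a₂, a₃]
  rfl

section closed

variable {A : Type u} [CommRing A] [IsLocalRing A] [IsArtinianRing A] (τ : Spec (CommRingCat.of A) ⟶ S)

omit hP in
theorem surjective_closed (K : Type u) [Field K] [IsAlgClosed K] [Algebra K A] [Module.Finite K A] {κ : Type u} [Field κ] [Algebra A κ] [Module.Finite A κ] :
    Function.Surjective (algebraMap A κ) := by
  letI : Algebra K κ := ((algebraMap A κ).comp (algebraMap K A)).toAlgebra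
  haveI : IsScalarTower K A κ := IsScalarTower.of_algebraMap_eq fun x => rfl
  haveI : Module.Finite K κ := Module.Finite.trans A κ
  haveI : Algebra.IsIntegral K κ := Algebra.IsIntegral.of_finite K κ
  intro y
  obtain ⟨x, hx⟩ := (IsAlgClosed.algebraMap_bijective_of_isIntegral (k := K) (K := κ)).2 y
  exact ⟨algebraMap K A x, hx⟩

theorem closed_surj (g : Over.mk τ ⟶ P) (K : Type u) [Field K] [IsAlgClosed K] [Algebra K A] [Module.Finite K A] :
    ∃ c : PicLoc.PicSet (PicF.XT f (Over.mk τ)), φ (Over.mk τ) c.1 = g := by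
  obtain ⟨κ, _, _, _, hclass⟩ := exists_class_artin hP g.left
  obtain ⟨c, hc⟩ := hclass A (RingHom.id A) (algebraMap A κ) (surjective_closed K) (RingHom.comp_id _)
  let u : Over.mk τ ⟶ Over.mk (Spec.map (CommRingCat.ofHom (RingHom.id A)) ≫ g.left ≫ P.hom) :=
    Over.homMk (𝟙 _) (by simp)
  refine ⟨pull (PicF.XTmap f u) c, ?_⟩
  rw [rel_nat hP]
  refine Over.OverMorphism.ext ?_
  show 𝟙 _ ≫ _ = _
  refine (Category.id_comp _).trans (hc.trans ?_)
  simp

theorem closed_inj (K : Type u) [Field K] [IsAlgClosed K] [Algebra K A] [Module.Finite K A]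
    {c c' : PicLoc.PicSet (PicF.XT f (Over.mk τ))} (h : φ (Over.mk τ) c.1 = φ (Over.mk τ) c'.1) : c = c' := by
  obtain ⟨κ, _, _, _, heq⟩ := exists_eq_ext hP τ c c' h
  have he := heq A (RingHom.id A) (algebraMap A κ) (surjective_closed K) (RingHom.comp_id _)
  let u : Over.mk τ ⟶ Over.mk (Spec.map (CommRingCat.ofHom (RingHom.id A)) ≫ τ) := Over.homMk (𝟙 _) (by simp)
  have e : u ≫ specHom τ (RingHom.id A) = 𝟙 _ := Over.OverMorphism.ext (by
    show 𝟙 _ ≫ Spec.map (CommRingCat.ofHom (RingHom.id A)) = 𝟙 _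
    simp)
  have h2 := congrArg (pull (PicF.XTmap f u)) he
  rwa [rel_pull_comp, rel_pull_comp, e, rel_pull_id, rel_pull_id] at h2

end closed

/-- **Uniqueness of tangent lifts through the power map.** -/
theorem eq_of_pow_dual [IsProper f] {n : ℕ} {m : P ⟶ P} (hpow : ∀ (T : Over S) (c : PicLoc.PicSet (PicF.XT f T)),
      φ T (c ^ n).1 = φ T c.1 ≫ m)
    {K : Type u} [Field K] [IsAlgClosed K] (hn : IsUnit (n : K))
    (γ₁ γ₂ : Spec (CommRingCat.of (DualNumber K)) ⟶ P.left)
    (h0 : ExpSeq.dnPoint K ≫ γ₁ = ExpSeq.dnPoint K ≫ γ₂) (hm : γ₁ ≫ m.left = γ₂ ≫ m.left) : γ₁ = γ₂ := by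
  haveI : Module.Finite K (DualNumber K) := Module.Finite.prod (R := K) (M := K) (N := K)
  haveI : IsArtinianRing (DualNumber K) := IsArtinianRing.of_finite K (DualNumber K)
  let τ : Spec (CommRingCat.of (DualNumber K)) ⟶ S := γ₁ ≫ P.hom
  have hw : γ₂ ≫ P.hom = τ := by
    have h := congrArg (fun z => z ≫ P.hom) hm
    simp only [Category.assoc, Over.w m] at h
    exact h.symm
  obtain ⟨c₁, hc₁⟩ := closed_surj hP τ (Over.homMk γ₁ rfl) K
  obtain ⟨c₂, hc₂⟩ := closed_surj hP τ (Over.homMk γ₂ hw) K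
  let q : DualNumber K →+* K := (TrivSqZeroExt.fstHom K K K).toRingHom
  have hq : Function.Surjective q := fun x => ⟨TrivSqZeroExt.inl x, rfl⟩
  have hker : RingHom.ker q = Ideal.span {DualNumber.eps} := by
    refine le_antisymm (fun z hz => Ideal.mem_span_singleton'.2 ⟨TrivSqZeroExt.inl z.snd, ?_⟩) ?_
    · have hz' : z.fst = 0 := hz
      exact TrivSqZeroExt.ext (by simp [hz']) (by simp)
    · rw [Ideal.span_singleton_le_iff_mem]
      exact DualNumber.fst_eps
  have hnA : IsUnit (n : DualNumber K) := by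
    have h := hn.map (algebraMap K (DualNumber K))
    rwa [map_natCast] at h
  obtain ⟨hcl, hho, hnU, hsqU⟩ := thick_data τ q hq DualNumber.eps hker DualNumber.eps_mul_eps f n hnA
  haveI := hcl
  have h1 : pull (PicF.XTmap f (specHom τ q)) (c₁ * c₂⁻¹) = 1 := by
    rw [map_mul, map_inv, mul_inv_eq_one]
    refine closed_inj hP _ K ?_
    rw [rel_nat hP, rel_nat hP, hc₁, hc₂]
    exact Over.OverMorphism.ext h0
  have h2 : (c₁ * c₂⁻¹) ^ n = 1 := by
    rw [mul_pow, inv_pow, mul_inv_eq_one]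
    refine closed_inj hP _ K ?_
    rw [hpow, hpow, hc₁, hc₂]
    exact Over.OverMorphism.ext hm
  let pK : PicF.XT f (Over.mk (Spec.map (CommRingCat.ofHom q) ≫ τ)) ⟶ Spec (CommRingCat.of K) :=
    PicF.XTproj f (Over.mk (Spec.map (CommRingCat.ofHom q) ≫ τ))
  haveI : IsProper pK := MorphismProperty.pullback_snd (P := @IsProper) f _ ‹IsProper f›
  letI : Algebra K Γ(PicF.XT f (Over.mk (Spec.map (CommRingCat.ofHom q) ≫ τ)), ⊤) :=
    (Coh.toGlobal pK : K →+* Γ(PicF.XT f (Over.mk (Spec.map (CommRingCat.ofHom q) ≫ τ)), ⊤)).toAlgebra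
  haveI := AltN1.finite_global (A := K) pK
  have h := root_unique (PicF.XTmap f (specHom τ q)) hho n hnU hsqU
    (fun v => exists_unit_root (K := K) n (by
      have h := hn.map (algebraMap K Γ(PicF.XT f (Over.mk (Spec.map (CommRingCat.ofHom q) ≫ τ)), ⊤))
      rwa [map_natCast] at h) v) _ h1 h2
  rw [mul_inv_eq_one] at h
  rw [h, hc₂] at hc₁
  exact (congrArg (fun z => z.left) hc₁).symm

omit hP in
/-- Formal unramifiedness of a local algebra from injectivity on tangent vectors. -/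
theorem formallyUnramified_of_tangent {R O : Type u} [CommRing R] [CommRing O] [IsLocalRing O] [Algebra R O]
    [Algebra.EssFiniteType R O] {K : Type u} [Field K] (ι : IsLocalRing.ResidueField O →+* K)
    (H : ∀ g₁ g₂ : O →+* DualNumber K, (TrivSqZeroExt.fstHom K K K).toRingHom.comp g₁ = ι.comp (IsLocalRing.residue O) →
      (TrivSqZeroExt.fstHom K K K).toRingHom.comp g₂ = ι.comp (IsLocalRing.residue O) →
      g₁.comp (algebraMap R O) = g₂.comp (algebraMap R O) → g₁ = g₂) :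
    Algebra.FormallyUnramified R O := by
  let κ := IsLocalRing.ResidueField O
  rw [Algebra.formallyUnramified_iff]
  by_contra hne
  rw [not_subsingleton_iff_nontrivial] at hne
  haveI : Nontrivial (TensorProduct O κ Ω[O⁄R]) := by
    by_contra hsub
    rw [not_nontrivial_iff_subsingleton] at hsub
    have h : ((⊥ : Submodule O Ω[O⁄R])).map (TensorProduct.mk O κ Ω[O⁄R] 1) = ⊤ := Subsingleton.elim _ _
    exact bot_ne_top (IsLocalRing.map_tensorProduct_mk_eq_top.1 h)
  obtain ⟨v, hv⟩ := exists_ne (0 : TensorProduct O κ Ω[O⁄R])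
  obtain ⟨l, hl⟩ := Module.Projective.exists_dual_ne_zero κ hv
  let L : Ω[O⁄R] →ₗ[O] κ := (l.restrictScalars O).comp (TensorProduct.mk O κ Ω[O⁄R] 1)
  let χ : O →+* K := ι.comp (IsLocalRing.residue O)
  let δ : O → K := fun a => ι (L (KaehlerDifferential.D R O a))
  have hδm : ∀ a b, δ (a * b) = χ a * δ b + χ b * δ a := fun a b => by
    show ι (L (KaehlerDifferential.D R O (a * b))) = _
    rw [Derivation.leibniz, map_add, map_smul, map_smul, Algebra.smul_def, Algebra.smul_def, map_add, map_mul, map_mul]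
    rfl
  have hδa : ∀ a b, δ (a + b) = δ a + δ b := fun a b => by
    show ι (L (KaehlerDifferential.D R O (a + b))) = _
    rw [map_add, map_add, map_add]
  have hδr : ∀ r, δ (algebraMap R O r) = 0 := fun r => by
    show ι (L (KaehlerDifferential.D R O (algebraMap R O r))) = _
    rw [Derivation.map_algebraMap, map_zero, map_zero]
  have hδ1 : δ 1 = 0 := by simpa using hδr 1
  have hδ0 : δ 0 = 0 := by simpa using hδr 0
  let g₂ : O →+* DualNumber K :=
    { toFun := fun a => TrivSqZeroExt.inl (χ a) + TrivSqZeroExt.inr (δ a)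
      map_one' := by rw [hδ1, TrivSqZeroExt.inr_zero, add_zero, map_one, TrivSqZeroExt.inl_one]
      map_zero' := by rw [hδ0, TrivSqZeroExt.inr_zero, add_zero, map_zero, TrivSqZeroExt.inl_zero]
      map_add' := fun a b => by
        refine TrivSqZeroExt.ext ?_ ?_
        · simp
        · simp [hδa]
      map_mul' := fun a b => by
        refine TrivSqZeroExt.ext ?_ ?_
        · simp
        · simp [hδm]
          ring }
  let g₁ : O →+* DualNumber K := (TrivSqZeroExt.inlHom K K).comp χ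
  have he : g₁ = g₂ := H g₁ g₂ (RingHom.ext fun a => rfl) (RingHom.ext fun a => by simp [g₂, χ])
    (RingHom.ext fun r => TrivSqZeroExt.ext (by simp [g₁, g₂]) (by simp [g₁, g₂, hδr]))
  have hδ : ∀ a, δ a = 0 := fun a => by
    have := congrArg TrivSqZeroExt.snd (RingHom.congr_fun he a)
    simpa [g₁, g₂] using this.symm
  have hall : ∀ z : Ω[O⁄R], L z = 0 := fun z => by
    have hz : z ∈ Submodule.span O (Set.range (KaehlerDifferential.D R O)) := by
      rw [KaehlerDifferential.span_range_derivation]; trivial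
    induction hz using Submodule.span_induction with
    | mem z hz =>
      obtain ⟨a, rfl⟩ := hz
      exact ι.injective ((hδ a).trans (map_zero ι).symm)
    | zero => rw [map_zero]
    | add a b _ _ ha hb => rw [map_add, ha, hb, add_zero]
    | smul a b _ hb => rw [map_smul, hb, smul_zero]
  refine hl ?_
  suffices key : ∀ w : TensorProduct O κ Ω[O⁄R], l w = 0 from key v
  intro w
  induction w with
  | zero => rw [map_zero]
  | tmul s z =>
    rw [show s ⊗ₜ[O] z = s • ((1 : κ) ⊗ₜ[O] z) by rw [TensorProduct.smul_tmul', smul_eq_mul, mul_one], map_smul]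
    exact (congrArg (s • ·) (hall z)).trans (smul_zero s)
  | add a b ha hb => rw [map_add, ha, hb, add_zero]

omit hP in
/-- Formal unramifiedness at a point from injectivity on tangent vectors. -/
theorem stalkMap_unramified_of_tangent {X Y : Scheme.{u}} (g : X ⟶ Y) [LocallyOfFiniteType g] (x : X)
    {K : Type u} [Field K] (ι : X.residueField x →+* K)
    (H : ∀ γ₁ γ₂ : Spec (CommRingCat.of (DualNumber K)) ⟶ X,
      ExpSeq.dnPoint K ≫ γ₁ = Spec.map (CommRingCat.ofHom ι) ≫ X.fromSpecResidueField x →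
      ExpSeq.dnPoint K ≫ γ₁ = ExpSeq.dnPoint K ≫ γ₂ → γ₁ ≫ g = γ₂ ≫ g → γ₁ = γ₂) :
    (g.stalkMap x).hom.FormallyUnramified := by
  algebraize [(g.stalkMap x).hom]
  haveI : Algebra.EssFiniteType (Y.presheaf.stalk (g x)) (X.presheaf.stalk x) := LocallyOfFiniteType.stalkMap g x
  refine formallyUnramified_of_tangent (R := Y.presheaf.stalk (g x)) ι fun g₁ g₂ h₁ h₂ hbase => ?_
  have hpt : ∀ w : X.presheaf.stalk x →+* DualNumber K,
      (TrivSqZeroExt.fstHom K K K).toRingHom.comp w = ι.comp (IsLocalRing.residue (X.presheaf.stalk x)) →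
      ExpSeq.dnPoint K ≫ Spec.map (CommRingCat.ofHom w) ≫ X.fromSpecStalk x =
        Spec.map (CommRingCat.ofHom ι) ≫ X.fromSpecResidueField x := by
    intro w hw
    show _ = _ ≫ Spec.map _ ≫ _
    rw [spec_comp, hw, ← spec_comp]
    rfl
  have hg : (Spec.map (CommRingCat.ofHom g₁) ≫ X.fromSpecStalk x) ≫ g =
      (Spec.map (CommRingCat.ofHom g₂) ≫ X.fromSpecStalk x) ≫ g := by
    rw [Category.assoc, Category.assoc, ← Scheme.SpecMap_stalkMap_fromSpecStalk, ← Spec.map_comp_assoc,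
      ← Spec.map_comp_assoc]
    exact congrArg (fun k => Spec.map k ≫ Y.fromSpecStalk (g x)) (CommRingCat.hom_ext hbase)
  exact congrArg CommRingCat.Hom.hom (Spec.map_injective ((cancel_mono (X.fromSpecStalk x)).1
    (H _ _ (hpt g₁ h₁) ((hpt g₁ h₁).trans (hpt g₂ h₂).symm) hg)))

end Groth.Agent.PicInf

end
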