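import Groth.Agent.PicInf.Exp
import Groth.Agent.HomTan.Point
import Groth.Agent.PicRelBC.Basic
import Groth.Agent.LBDesc.SpecGamma
import Groth.Agent.AltN1.Basic
import Groth.Prelude.Def_PicRel2

/-!
Points of a relative Picard scheme with values in first order neighbourhoods over an extension field.
-/

set_option autoImplicit false
set_option linter.unusedSectionVars false
set_option linter.style.haveILetI false
set_option backward.isDefEq.respectTransparency false
set_option backward.isDefEq.respectTransparency.types false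
set_option maxHeartbeats 1000000

universe u

open CategoryTheory CategoryTheory.Limits AlgebraicGeometry Opposite
open Groth.Agent.ExpSeq (Xε sect dnMap dnPoint)
open Groth.Agent.HomTan (XV dV mu)
open Groth.Agent.W7Cube (pull pull_pull)
open IsLocalRing (closedPoint)
open TrivSqZeroExt (inlHom)

attribute [local instance] Groth.Agent.W7Cube.law

noncomputable section

namespace Groth.Agent.PicInf

section muL

variable {K : Type u} [Field K] (X : Scheme.{u}) [X.Over (Spec (CommRingCat.of K))]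
variable {V W U : Type u} [AddCommGroup V] [Module K V] [Module Kᵐᵒᵖ V] [IsCentralScalar K V]
  [AddCommGroup W] [Module K W] [Module Kᵐᵒᵖ W] [IsCentralScalar K W]
  [AddCommGroup U] [Module K U] [Module Kᵐᵒᵖ U] [IsCentralScalar K U]

/-- The morphism of neighbourhoods of a linear map. -/
def ovMap (L : V →ₗ[K] W) : Over.mk (dV K W) ⟶ Over.mk (dV K V) :=
  Over.homMk (Spec.map (CommRingCat.ofHom (TrivSqZeroExt.map L).toRingHom)) (by
    show Spec.map _ ≫ Spec.map _ = Spec.map _
    rw [← Spec.map_comp, ← CommRingCat.ofHom_comp]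
    exact congrArg (fun φ => Spec.map (CommRingCat.ofHom φ)) (TrivSqZeroExt.map L).comp_algebraMap)

theorem ovMap_comp (L : V →ₗ[K] W) (M : W →ₗ[K] U) : ovMap M ≫ ovMap L = ovMap (M ∘ₗ L) := by
  refine Over.OverMorphism.ext ?_
  show Spec.map _ ≫ Spec.map _ = Spec.map _
  rw [← Spec.map_comp, ← CommRingCat.ofHom_comp]
  congr 2
  exact congrArg AlgHom.toRingHom (TrivSqZeroExt.map_comp_map L M).symm

theorem ovMap_id : ovMap (LinearMap.id : V →ₗ[K] V) = 𝟙 _ := by
  refine Over.OverMorphism.ext ?_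
  show Spec.map (CommRingCat.ofHom (TrivSqZeroExt.map (LinearMap.id : V →ₗ[K] V)).toRingHom) = 𝟙 _
  rw [TrivSqZeroExt.map_id]
  exact Spec.map_id _

/-- The map of thickenings of a linear map. -/
abbrev muL (L : V →ₗ[K] W) : XV K W X ⟶ XV K V X := PicF.XTmap (X ↘ Spec (CommRingCat.of K)) (ovMap L)

theorem muL_comp (L : V →ₗ[K] W) (M : W →ₗ[K] U) : muL X M ≫ muL X L = muL X (M ∘ₗ L) := by
  rw [muL, muL, muL, ← ovMap_comp, PicRelBC.XTmap_comp]

theorem muL_id : muL X (LinearMap.id : V →ₗ[K] V) = 𝟙 _ := by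
  rw [muL, ovMap_id]
  apply pullback.hom_ext
  · rw [PicRelBC.XTmap_fst]
    exact (Category.id_comp _).symm
  · rw [PicRelBC.XTmap_snd]
    exact (Category.comp_id _).trans (Category.id_comp _).symm

theorem mu_eq (L : V →ₗ[K] K) : mu X L = muL X L := rfl

/-- Classes trivial on the subscheme die under the zero map. -/
theorem pull_zero {x : PicLoc.PicSet (Xε K X)} (hx : pull (sect K X) x = 1) :
    pull (muL X (0 : K →ₗ[K] K)) x = 1 := by
  rw [← zero_smul K (LinearMap.id : K →ₗ[K] K)]
  show pull (scal K X 0) x = 1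
  rw [scal_zero, ← pull_pull, hx, map_one]

end muL

variable {k : Type u} [Field k] {X : Scheme.{u}} (f : X ⟶ Spec (CommRingCat.of k))
variable (K : Type u) [Field K] [Algebra k K]

variable (k) in
/-- The base change morphism. -/
abbrev gK : Spec (CommRingCat.of K) ⟶ Spec (CommRingCat.of k) := Spec.map (CommRingCat.ofHom (algebraMap k K))

/-- The base change. -/
abbrev XK : Scheme.{u} := pullback f (gK k K)

instance overXK : (XK f K).Over (Spec (CommRingCat.of K)) := ⟨pullback.snd _ _⟩

variable (k) in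
/-- The point of the extension. -/
abbrev S0 : Over (Spec (CommRingCat.of k)) := Over.mk (gK k K)

variable (k) in
/-- The neighbourhood of a point of the extension. -/
abbrev SV (V : Type u) [AddCommGroup V] [Module K V] [Module Kᵐᵒᵖ V] [IsCentralScalar K V] :
    Over (Spec (CommRingCat.of k)) := PicRelBC.bar (gK k K) (Over.mk (dV K V))

variable (k) in
/-- The point in its neighbourhood. -/
def dn0 : S0 k K ⟶ SV k K K :=
  Over.homMk (dnPoint K) (by
    show dnPoint K ≫ dnMap K ≫ gK k K = gK k K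
    rw [← Category.assoc, ExpSeq.dnPoint_dnMap, Category.id_comp])

variable {K}
variable {V W : Type u} [AddCommGroup V] [Module K V] [Module Kᵐᵒᵖ V] [IsCentralScalar K V]
  [AddCommGroup W] [Module K W] [Module Kᵐᵒᵖ W] [IsCentralScalar K W]

variable (K V) in
/-- The neighbourhood of the base change. -/
abbrev jT : PicF.XT f (SV k K V) ≅ XV K V (XK f K) := PicRelBC.eT f (gK k K) (Over.mk (dV K V))

variable (L : V →ₗ[K] W)

theorem jT_naturality : PicF.XTmap f (PicRelBC.barMap (gK k K) (ovMap L)) ≫ (jT f K V).hom =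
    (jT f K W).hom ≫ muL (XK f K) L := PicRelBC.eT_naturality f (gK k K) (ovMap L)

theorem jT_fst_fst : (jT f K V).hom ≫ pullback.fst _ _ ≫ pullback.fst f (gK k K) =
    pullback.fst f (SV k K V).hom := PicRelBC.eT_fst f (gK k K) (Over.mk (dV K V))

theorem jT_fst_snd : (jT f K V).hom ≫ pullback.fst _ _ ≫ pullback.snd f (gK k K) =
    pullback.snd f (SV k K V).hom ≫ dV K V := PicRelBC.eT_fst_snd f (gK k K) (Over.mk (dV K V))

theorem jT_snd : (jT f K V).hom ≫ pullback.snd (XK f K ↘ Spec (CommRingCat.of K)) (dV K V) =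
    pullback.snd f (SV k K V).hom := PicRelBC.eT_snd f (gK k K) (Over.mk (dV K V))

variable {P : Over (Spec (CommRingCat.of k))}
variable (φ : ∀ T : Over (Spec (CommRingCat.of k)), PicF.Cl (PicF.XT f T) → (T ⟶ P))

variable (V) in
/-- The point of a class on a neighbourhood. -/
def psi (x : PicLoc.PicSet (XV K V (XK f K))) : SV k K V ⟶ P :=
  φ _ (pull (jT f K V).hom x).1

variable {f φ} (hP : PicRel.IsRelPic f P φ)
include hP

theorem nat_pull {T T' : Over (Spec (CommRingCat.of k))} (g : T' ⟶ T) (c : PicLoc.PicSet (PicF.XT f T)) :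
    φ T' (pull (PicF.XTmap f g) c).1 = g ≫ φ T c.1 :=
  hP.natural T T' g c.1 c.2

theorem psi_muL (x : PicLoc.PicSet (XV K V (XK f K))) :
    psi f W φ (pull (muL (XK f K) L) x) = PicRelBC.barMap (gK k K) (ovMap L) ≫ psi f V φ x := by
  rw [psi, psi, ← nat_pull hP, pull_pull, pull_pull, jT_naturality]

theorem dn0_psi (x : PicLoc.PicSet (Xε K (XK f K))) :
    dn0 k K ≫ psi f K φ x = φ (S0 k K) (pull (sect K (XK f K)) x).1 := by
  rw [psi, ← nat_pull hP, pull_pull]
  have e : PicF.XTmap f (dn0 k K) ≫ (jT f K K).hom = sect K (XK f K) := by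
    apply pullback.hom_ext
    · rw [Category.assoc]
      refine Eq.trans ?_ (ExpSeq.sect_fst (k := K) (XK f K)).symm
      apply pullback.hom_ext
      · rw [Category.assoc, Category.assoc, jT_fst_fst, PicRelBC.XTmap_fst]
        exact (Category.id_comp _).symm
      · rw [Category.assoc, Category.assoc, jT_fst_snd, PicRelBC.XTmap_snd_assoc]
        show pullback.snd f (gK k K) ≫ dnPoint K ≫ dnMap K = _
        rw [ExpSeq.dnPoint_dnMap, Category.comp_id]
        exact (Category.id_comp _).symm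
    · rw [Category.assoc, jT_snd, PicRelBC.XTmap_snd]
      exact (pullback.lift_snd _ _ _).symm
  rw [e]
  rfl

omit hP in
/-- A class is trivial if it becomes trivial on a member of an étale cover through the closed point. -/
theorem eq_one_of_cover {T : Over (Spec (CommRingCat.of k))} [IsAffine T.left] [Subsingleton T.left]
    [CompactSpace (PicF.XT f T)] [QuasiSeparatedSpace (PicF.XT f T)]
    [Finite (MaximalSpectrum Γ(PicF.XT f T, ⊤))] (U : T.left.Etale) (u : U.left)
    {c : PicLoc.PicSet (PicF.XT f T)} (hc : pull (PicF.XTmap f (PicRel.ovrHom T U)) c = 1) : c = 1 := by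
  obtain ⟨_, ⟨(A : U.left.Opens), hA, rfl⟩, hu, -⟩ :=
    U.left.isBasis_affineOpens.exists_subset_of_mem_open (Set.mem_univ u) isOpen_univ
  let g : A.toScheme ⟶ T.left := A.ι ≫ U.hom
  haveI : Etale U.hom := U.prop
  haveI : Flat g := inferInstance
  haveI : Surjective g := ⟨fun t => ⟨⟨u, hu⟩, Subsingleton.elim _ _⟩⟩
  haveI : IsAffine A.toScheme := hA
  haveI : QuasiCompact g := inferInstance
  obtain ⟨L, hL, rfl⟩ := PicGrp.exists_eq_cls c
  let ω : pullback (PicF.XTproj f T) g ⟶ PicF.XT f (PicRel.ovr T U) :=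
    pullback.lift (pullback.fst _ _ ≫ pullback.fst f T.hom) (pullback.snd _ _ ≫ A.ι) (by
      show (_ ≫ _) ≫ f = (_ ≫ A.ι) ≫ U.hom ≫ T.hom
      rw [Category.assoc, pullback.condition, pullback.condition_assoc]
      simp [g])
  have hω : ω ≫ PicF.XTmap f (PicRel.ovrHom T U) = pullback.fst (PicF.XTproj f T) g := by
    apply pullback.hom_ext
    · rw [Category.assoc, PicRelBC.XTmap_fst]
      exact pullback.lift_fst _ _ _
    · rw [Category.assoc, PicRelBC.XTmap_snd, ← Category.assoc, pullback.lift_snd, Category.assoc]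
      exact (pullback.condition (f := PicF.XTproj f T) (g := g)).symm
  have h1 : pull (pullback.fst (PicF.XTproj f T) g) (PicGrp.cls L hL) = 1 := by
    rw [← hω, ← pull_pull, hc, map_one]
  rw [W7Cube.pull_cls, PicGrp.cls_eq_one_iff] at h1
  exact (PicGrp.cls_eq_one_iff _).2 (LBDesc.nonempty_trivial_of_faithfullyFlat (PicF.XTproj f T) g hL h1)

theorem eq_one_of_phi {T : Over (Spec (CommRingCat.of k))} [IsAffine T.left] [Subsingleton T.left]
    [CompactSpace (PicF.XT f T)] [QuasiSeparatedSpace (PicF.XT f T)]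
    [Finite (MaximalSpectrum Γ(PicF.XT f T, ⊤))] (t : T.left)
    {c : PicLoc.PicSet (PicF.XT f T)} (hc : φ T c.1 = φ T (1 : PicLoc.PicSet (PicF.XT f T)).1) : c = 1 := by
  obtain ⟨ι, U, hU, h⟩ := hP.locallyInjective T c.1 (1 : PicLoc.PicSet (PicF.XT f T)).1 c.2
    (1 : PicLoc.PicSet (PicF.XT f T)).2 hc
  obtain ⟨i, u, -⟩ := hU t
  refine eq_one_of_cover (U i) u (Subtype.ext ?_)
  rw [← map_one (pull (PicF.XTmap f (PicRel.ovrHom T (U i))))]
  exact h i

variable [IsProper f]

omit hP in
theorem finite_max_XK : Finite (MaximalSpectrum Γ(XK f K, ⊤)) := by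
  letI : Algebra K Γ(XK f K, ⊤) := (Coh.toGlobal (pullback.snd f (gK k K)) : K →+* Γ(XK f K, ⊤)).toAlgebra
  haveI := AltN1.finite_global (pullback.snd f (gK k K))
  haveI : IsArtinianRing Γ(XK f K, ⊤) := IsArtinianRing.of_finite K _
  infer_instance

omit hP in
theorem finite_max_Xε (Y : Scheme.{u}) [Y.Over (Spec (CommRingCat.of K))] [Finite (MaximalSpectrum Γ(Y, ⊤))] :
    Finite (MaximalSpectrum Γ(Xε K Y, ⊤)) := by
  let s : Γ(Xε K Y, ⊤) →+* Γ(Y, ⊤) := (sect K Y).appTop.hom
  have hs : Function.Surjective s := fun r => ⟨ExpSeq.pj K Y ⊤ r, ExpSeq.sect_pj Y ⊤ r⟩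
  have hle : ∀ m : MaximalSpectrum Γ(Xε K Y, ⊤), RingHom.ker s ≤ m.asIdeal := fun m z hz =>
    m.isMaximal.isPrime.mem_of_pow_mem 2 (by
      have h2 : z * z = 0 := (ExpSeq.thickDual K Y).sq (U := ⊤) hz hz
      rw [pow_two, h2]
      exact Ideal.zero_mem _)
  have hcm : ∀ m : MaximalSpectrum Γ(Xε K Y, ⊤), (m.asIdeal.map s).comap s = m.asIdeal := fun m => by
    rw [Ideal.comap_map_of_surjective s hs]
    exact sup_eq_left.2 (hle m)
  refine Finite.of_injective (fun m => (⟨m.asIdeal.map s,
    (Ideal.map_eq_top_or_isMaximal_of_surjective s hs m.isMaximal).resolve_left fun h => ?_⟩ :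
      MaximalSpectrum Γ(Y, ⊤))) fun m m' h => MaximalSpectrum.ext ?_
  · exact m.isMaximal.ne_top (by rw [← hcm m, h, Ideal.comap_top])
  · rw [← hcm m, ← hcm m', show m.asIdeal.map s = m'.asIdeal.map s from congrArg MaximalSpectrum.asIdeal h]

theorem eq_one_S0 {c : PicLoc.PicSet (XK f K)} (hc : φ (S0 k K) c.1 = φ (S0 k K) (1 : PicLoc.PicSet (XK f K)).1) :
    c = 1 := by
  haveI : Finite (MaximalSpectrum Γ(PicF.XT f (S0 k K), ⊤)) := finite_max_XK (f := f) (K := K)
  haveI : Subsingleton (S0 k K).left := inferInstanceAs (Subsingleton (PrimeSpectrum K))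
  haveI : CompactSpace (PicF.XT f (S0 k K)) :=
    QuasiCompact.compactSpace_of_compactSpace (pullback.snd f (gK k K))
  haveI : QuasiSeparatedSpace (PicF.XT f (S0 k K)) :=
    quasiSeparatedSpace_of_quasiSeparated (pullback.snd f (gK k K))
  exact eq_one_of_phi hP (T := S0 k K) (closedPoint K) hc

theorem psi_eq_one {x : PicLoc.PicSet (Xε K (XK f K))} (hx : psi f K φ x = psi f K φ 1) : x = 1 := by
  haveI : Finite (MaximalSpectrum Γ(XK f K, ⊤)) := finite_max_XK (f := f) (K := K)
  haveI := finite_max_Xε (K := K) (XK f K)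
  let T := SV k K K
  let j : PicF.XT f T ≅ Xε K (XK f K) := jT f K K
  haveI : Finite (MaximalSpectrum Γ(PicF.XT f T, ⊤)) := by
    let e : Γ(Xε K (XK f K), ⊤) ≃+* Γ(PicF.XT f T, ⊤) := (asIso j.hom.appTop).commRingCatIsoToRingEquiv
    refine Finite.of_injective (fun m : MaximalSpectrum Γ(PicF.XT f T, ⊤) =>
      (⟨m.asIdeal.comap e.toRingHom,
        haveI := m.isMaximal
        Ideal.comap_isMaximal_of_surjective _ e.surjective⟩ : MaximalSpectrum Γ(Xε K (XK f K), ⊤))) fun m m' h =>
      MaximalSpectrum.ext (Ideal.comap_injective_of_surjective e.toRingHom e.surjective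
        (congrArg MaximalSpectrum.asIdeal h))
  haveI : IsAffine T.left := inferInstanceAs (IsAffine (Spec (CommRingCat.of (TrivSqZeroExt K K))))
  haveI : Subsingleton T.left := HomTan.subsingleton_primeSpectrum K K
  haveI : CompactSpace (PicF.XT f T) := QuasiCompact.compactSpace_of_compactSpace (PicF.XTproj f T)
  haveI : QuasiSeparatedSpace (PicF.XT f T) := quasiSeparatedSpace_of_quasiSeparated (PicF.XTproj f T)
  have h1 : pull j.hom x = 1 := by
    refine eq_one_of_phi hP (T := T) (closedPoint (DualNumber K)) (hx.trans ?_)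
    show φ T (pull j.hom 1).1 = _
    rw [map_one]
  have h2 := congrArg (pull j.inv) h1
  rw [map_one, pull_pull, j.inv_hom_id] at h2
  exact (PicGrp.pullHom_id_apply _ x).symm.trans h2

end Groth.Agent.PicInf

end
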