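import Groth.Agent.PicInf.Pts
import Groth.Agent.InfLift.SchemeSmallExt
import Mathlib.AlgebraicGeometry.AlgClosed.Basic

/-!
The tangent space of a relative Picard scheme over a field, over an extension field.
-/

set_option autoImplicit false
set_option linter.unusedSectionVars false
set_option linter.style.haveILetI false
set_option backward.isDefEq.respectTransparency false
set_option backward.isDefEq.respectTransparency.types false
set_option maxHeartbeats 1000000

universe u

open CategoryTheory CategoryTheory.Limits AlgebraicGeometry Opposite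
open Groth.Agent.ExpSeq (Xε sect dnMap dnPoint)
open Groth.Agent.HomTan (XV dV mu)
open Groth.Agent.W7Cube (pull pull_pull)
open IsLocalRing (closedPoint)
open TrivSqZeroExt (inlHom)

attribute [local instance] Groth.Agent.W7Cube.law

noncomputable section

namespace Groth.Agent.PicInf

variable {k : Type u} [Field k] {X : Scheme.{u}} {f : X ⟶ Spec (CommRingCat.of k)}
variable {P : Over (Spec (CommRingCat.of k))} {φ : ∀ T : Over (Spec (CommRingCat.of k)), PicF.Cl (PicF.XT f T) → (T ⟶ P)}
variable {p : P.left} [Algebra k (P.left.presheaf.stalk p)]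
  (halg : P.left.fromSpecStalk p ≫ P.hom = Spec.map (CommRingCat.ofHom (algebraMap k (P.left.presheaf.stalk p))))
variable {K : Type u} [Field K] [Algebra k K] [Algebra (P.left.presheaf.stalk p) K]
  [IsScalarTower k (P.left.presheaf.stalk p) K]
variable {V W : Type u} [AddCommGroup V] [Module K V] [Module Kᵐᵒᵖ V] [IsCentralScalar K V]
  [AddCommGroup W] [Module K W] [Module Kᵐᵒᵖ W] [IsCentralScalar K W]

instance isLocalRing_ext {K V : Type u} [Field K] [AddCommGroup V] [Module K V] [Module Kᵐᵒᵖ V] [IsCentralScalar K V] :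
    IsLocalRing (TrivSqZeroExt K V) :=
  IsLocalRing.of_nonunits_add fun a b ha hb h => by
    rw [mem_nonunits_iff, TrivSqZeroExt.isUnit_iff_isUnit_fst, isUnit_iff_ne_zero, not_not] at ha hb
    rw [TrivSqZeroExt.isUnit_iff_isUnit_fst, TrivSqZeroExt.fst_add, ha, hb, add_zero] at h
    exact not_isUnit_zero h

/-- The point of a ring map. -/
def ptV (a : P.left.presheaf.stalk p →+* TrivSqZeroExt K V)
    (ha : a.comp (algebraMap k (P.left.presheaf.stalk p)) = (inlHom K V).comp (algebraMap k K)) : SV k K V ⟶ P :=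
  Over.homMk (Spec.map (CommRingCat.ofHom a) ≫ P.left.fromSpecStalk p) (by
    show (_ ≫ _) ≫ P.hom = Spec.map _ ≫ Spec.map _
    rw [Category.assoc, halg, ← Spec.map_comp, ← Spec.map_comp, ← CommRingCat.ofHom_comp, ← CommRingCat.ofHom_comp,
      ha]
    rfl)

theorem exists_ring (γ : SV k K V ⟶ P) (hcp : γ.left (closedPoint (TrivSqZeroExt K V)) = p) :
    ∃ a ha, ptV halg a ha = γ := by
  obtain ⟨a, -, ha, -⟩ := InfLift.exists_stalk_hom γ.left hcp
  have hca : a.hom.comp (algebraMap k (P.left.presheaf.stalk p)) = (inlHom K V).comp (algebraMap k K) := by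
    have h2 : CommRingCat.ofHom (algebraMap k (P.left.presheaf.stalk p)) ≫ a =
        CommRingCat.ofHom (algebraMap k K) ≫ CommRingCat.ofHom (algebraMap K (TrivSqZeroExt K V)) := by
      apply Spec.map_injective
      rw [Spec.map_comp, Spec.map_comp, ← halg, reassoc_of% ha]
      exact Over.w γ
    exact congrArg CommRingCat.Hom.hom h2
  exact ⟨a.hom, hca, Over.OverMorphism.ext ha⟩

theorem ptV_injective {a a' : P.left.presheaf.stalk p →+* TrivSqZeroExt K V}
    {ha : a.comp (algebraMap k (P.left.presheaf.stalk p)) = (inlHom K V).comp (algebraMap k K)}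
    {ha' : a'.comp (algebraMap k (P.left.presheaf.stalk p)) = (inlHom K V).comp (algebraMap k K)}
    (h : ptV halg a ha = ptV halg a' ha') : a = a' :=
  congrArg CommRingCat.Hom.hom
    (Spec.map_injective ((cancel_mono (P.left.fromSpecStalk p)).1 (congrArg (fun q => q.left) h)))

theorem eq_map (L : V →ₗ[K] W) {a : P.left.presheaf.stalk p →+* TrivSqZeroExt K V}
    {ha : a.comp (algebraMap k (P.left.presheaf.stalk p)) = (inlHom K V).comp (algebraMap k K)}
    {b : P.left.presheaf.stalk p →+* TrivSqZeroExt K W}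
    {hb : b.comp (algebraMap k (P.left.presheaf.stalk p)) = (inlHom K W).comp (algebraMap k K)}
    (h : PicRelBC.barMap (gK k K) (ovMap L) ≫ ptV halg a ha = ptV halg b hb) :
    (TrivSqZeroExt.map L).toRingHom.comp a = b := by
  have h1 := congrArg (fun q => q.left) h
  replace h1 : Spec.map (CommRingCat.ofHom ((TrivSqZeroExt.map L).toRingHom.comp a)) ≫ P.left.fromSpecStalk p =
      Spec.map (CommRingCat.ofHom b) ≫ P.left.fromSpecStalk p := by
    refine Eq.trans ?_ h1
    rw [CommRingCat.ofHom_comp, Spec.map_comp, Category.assoc]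
    rfl
  exact congrArg CommRingCat.Hom.hom (Spec.map_injective ((cancel_mono (P.left.fromSpecStalk p)).1 h1))

/-- The ring map of a derivation. -/
def homD (D : Derivation k (P.left.presheaf.stalk p) K) : P.left.presheaf.stalk p →+* TrivSqZeroExt K K where
  toFun r := (algebraMap (P.left.presheaf.stalk p) K r, D r)
  map_one' := TrivSqZeroExt.ext (map_one _) D.map_one_eq_zero
  map_zero' := TrivSqZeroExt.ext (map_zero _) D.map_zero
  map_add' x y := TrivSqZeroExt.ext (map_add _ x y) (D.map_add x y)
  map_mul' x y := TrivSqZeroExt.ext (map_mul _ x y) (by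
    show D (x * y) = algebraMap _ K x * D y + D x * algebraMap _ K y
    rw [D.leibniz, Algebra.smul_def, Algebra.smul_def]
    ring)

theorem homD_algebraMap (D : Derivation k (P.left.presheaf.stalk p) K) :
    (homD D).comp (algebraMap k (P.left.presheaf.stalk p)) = (inlHom K K).comp (algebraMap k K) :=
  RingHom.ext fun c => TrivSqZeroExt.ext (IsScalarTower.algebraMap_apply k (P.left.presheaf.stalk p) K c).symm
    (D.map_algebraMap c)

theorem exists_der (a : P.left.presheaf.stalk p →+* TrivSqZeroExt K K)
    (ha : a.comp (algebraMap k (P.left.presheaf.stalk p)) = (inlHom K K).comp (algebraMap k K))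
    (hfst : ∀ r, (a r).fst = algebraMap (P.left.presheaf.stalk p) K r) :
    ∃ D, homD D = a := by
  let δ : P.left.presheaf.stalk p →ₗ[k] K :=
    { toFun := fun r => (a r).snd
      map_add' := fun x y => by rw [map_add]; rfl
      map_smul' := fun c x => by
        show (a (c • x)).snd = c • (a x).snd
        rw [Algebra.smul_def, map_mul, show a (algebraMap k _ c) = TrivSqZeroExt.inl (algebraMap k K c) from
          RingHom.congr_fun ha c, TrivSqZeroExt.snd_mul, TrivSqZeroExt.fst_inl, TrivSqZeroExt.snd_inl]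
        simp [Algebra.smul_def] }
  refine ⟨Derivation.mk' δ fun x y => ?_, RingHom.ext fun r => TrivSqZeroExt.ext (hfst r).symm rfl⟩
  show (a (x * y)).snd = x • (a y).snd + y • (a x).snd
  rw [map_mul, TrivSqZeroExt.snd_mul, hfst, hfst, Algebra.smul_def x, Algebra.smul_def y]
  simp [mul_comm]

variable [IsProper f] (hP : PicRel.IsRelPic f P φ)
  (he : Spec.map (CommRingCat.ofHom (algebraMap (P.left.presheaf.stalk p) K)) ≫ P.left.fromSpecStalk p =
    (φ (S0 k K) (1 : PicLoc.PicSet (XK f K)).1).left)
include he hP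

variable [IsLocalHom (algebraMap (P.left.presheaf.stalk p) K)]

theorem dn0_ptV (D : Derivation k (P.left.presheaf.stalk p) K) :
    dn0 k K ≫ ptV halg (homD D) (homD_algebraMap D) = φ (S0 k K) (1 : PicLoc.PicSet (XK f K)).1 := by
  refine Over.OverMorphism.ext ?_
  show Spec.map _ ≫ Spec.map _ ≫ _ = _
  rw [← Spec.map_comp_assoc, ← he]
  rfl

theorem exists_der_of_sect {x : PicLoc.PicSet (Xε K (XK f K))} (hx : pull (sect K (XK f K)) x = 1) :
    ∃ D, ptV halg (homD D) (homD_algebraMap D) = psi f K φ x := by
  have h0 : dn0 k K ≫ psi f K φ x = φ (S0 k K) (1 : PicLoc.PicSet (XK f K)).1 := by rw [dn0_psi hP, hx]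
  have h0' : dnPoint K ≫ (psi f K φ x).left =
      Spec.map (CommRingCat.ofHom (algebraMap (P.left.presheaf.stalk p) K)) ≫ P.left.fromSpecStalk p :=
    (congrArg (fun q => q.left) h0).trans he.symm
  have hcp : (psi f K φ x).left (closedPoint (DualNumber K)) = p := by
    have h1 := congr($h0' (closedPoint K))
    refine Eq.trans ?_ (h1.trans ?_)
    · show (psi f K φ x).left _ = (psi f K φ x).left (dnPoint K (closedPoint K))
      haveI := HomTan.subsingleton_primeSpectrum K K
      exact congrArg _ (Subsingleton.elim (α := PrimeSpectrum (DualNumber K)) _ _)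
    · show P.left.fromSpecStalk p (Spec.map (CommRingCat.ofHom (algebraMap (P.left.presheaf.stalk p) K)) (closedPoint K)) = p
      rw [show Spec.map (CommRingCat.ofHom (algebraMap (P.left.presheaf.stalk p) K)) (closedPoint K) =
        closedPoint (P.left.presheaf.stalk p) from IsLocalRing.comap_closedPoint _]
      exact Scheme.fromSpecStalk_closedPoint
  obtain ⟨a, ha, hγ⟩ := exists_ring halg _ hcp
  obtain ⟨D, hD⟩ := exists_der a ha fun r => by
    rw [← hγ] at h0'
    have h3 : CommRingCat.ofHom a ≫ CommRingCat.ofHom (TrivSqZeroExt.fstHom K K K).toRingHom =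
        CommRingCat.ofHom (algebraMap (P.left.presheaf.stalk p) K) := by
      apply Spec.map_injective
      rw [Spec.map_comp]
      refine (cancel_mono (P.left.fromSpecStalk p)).1 ?_
      rw [Category.assoc]
      exact h0'
    exact congr(($h3).hom r)
  exact ⟨D, by subst hD; exact hγ⟩

/-- **Tangent vectors of the Picard scheme from cohomology.** -/
theorem exists_tangent :
    ∃ Φ : Coh.HH (XK f K) (Coh.structureModule (XK f K)) 1 →ₗ[K] Derivation k (P.left.presheaf.stalk p) K,
      Function.Injective Φ ∧ ∀ x, pull (sect K (XK f K)) x = 1 → ∀ D,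
        ptV halg (homD D) (homD_algebraMap D) = psi f K φ x → D ∈ LinearMap.range Φ := by
  obtain ⟨β, hinj, hadd, hsmul, hker⟩ := exists_beta K (XK f K)
  have hβ : ∀ a, pull (sect K (XK f K)) (β a) = 1 := fun a => (hker _).2 ⟨a, rfl⟩
  choose D hD using fun a => exists_der_of_sect halg hP he (hβ a)
  have hdet : ∀ {D₁ D₂ : Derivation k (P.left.presheaf.stalk p) K},
      ptV halg (homD D₁) (homD_algebraMap D₁) = ptV halg (homD D₂) (homD_algebraMap D₂) → D₁ = D₂ := fun h =>
    Derivation.ext fun r => congrArg TrivSqZeroExt.snd (RingHom.congr_fun (ptV_injective halg h) r)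
  have hsm : ∀ (c : K) a, D (c • a) = c • D a := fun c a => by
    have h1 := hD (c • a)
    have h2 : PicRelBC.barMap (gK k K) (ovMap (c • (LinearMap.id : K →ₗ[K] K))) ≫
        ptV halg (homD (D a)) (homD_algebraMap _) = ptV halg (homD (D (c • a))) (homD_algebraMap _) := by
      rw [h1, hD, hsmul, ← psi_muL _ hP]
      rfl
    exact Derivation.ext fun r => (congrArg TrivSqZeroExt.snd (RingHom.congr_fun (eq_map halg _ h2) r)).symm.trans
      ((TrivSqZeroExt.snd_map _ _).trans rfl)
  have had : ∀ a b, D (a + b) = D a + D b := fun a b => by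
    let Lf := LinearMap.fst K K K
    let Ls := LinearMap.snd K K K
    let c : PicLoc.PicSet (XV K (K × K) (XK f K)) :=
      pull (muL (XK f K) (LinearMap.inl K K K)) (β a) * pull (muL (XK f K) (LinearMap.inr K K K)) (β b)
    have key : ∀ (L : K × K →ₗ[K] K), pull (muL (XK f K) L) c =
        pull (muL (XK f K) (L ∘ₗ LinearMap.inl K K K)) (β a) * pull (muL (XK f K) (L ∘ₗ LinearMap.inr K K K)) (β b) :=
      fun L => by
        simp only [c]
        rw [map_mul, pull_pull, pull_pull, muL_comp, muL_comp]
    have hid : ∀ x : PicLoc.PicSet (Xε K (XK f K)), pull (muL (XK f K) (LinearMap.id : K →ₗ[K] K)) x = x := fun x => by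
      rw [muL_id]
      exact PicGrp.pullHom_id_apply _ x
    have k1 : pull (muL (XK f K) Lf) c = β a := by
      rw [key, LinearMap.fst_comp_inl, LinearMap.fst_comp_inr, hid, pull_zero (XK f K) (hβ b), mul_one]
    have k2 : pull (muL (XK f K) Ls) c = β b := by
      rw [key, LinearMap.snd_comp_inl, LinearMap.snd_comp_inr, hid, pull_zero (XK f K) (hβ a), one_mul]
    have k3 : pull (muL (XK f K) (Lf + Ls)) c = β (a + b) := by
      rw [key, show (Lf + Ls) ∘ₗ LinearMap.inl K K K = LinearMap.id by ext; simp [Lf, Ls],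
        show (Lf + Ls) ∘ₗ LinearMap.inr K K K = LinearMap.id by ext; simp [Lf, Ls], hid, hid, hadd]
    have hcp : (psi f (K × K) φ c).left (closedPoint (TrivSqZeroExt K (K × K))) = p := by
      have h1 := psi_muL Lf hP c
      rw [k1, ← hD a] at h1
      have h2 := congr(($h1).left (closedPoint (DualNumber K)))
      refine Eq.trans ?_ (h2.symm.trans ?_)
      · show _ = (psi f (K × K) φ c).left ((ovMap Lf).left (closedPoint (DualNumber K)))
        haveI := HomTan.subsingleton_primeSpectrum K (K × K)
        exact congrArg _ (Subsingleton.elim (α := PrimeSpectrum (TrivSqZeroExt K (K × K))) _ _)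
      · show P.left.fromSpecStalk p (Spec.map (CommRingCat.ofHom (homD (D a))) (closedPoint (DualNumber K))) = p
        haveI : IsLocalHom (homD (D a)) := ⟨fun r hr =>
          isUnit_of_map_unit (algebraMap (P.left.presheaf.stalk p) K) r (hr.map (TrivSqZeroExt.fstHom K K K))⟩
        rw [show Spec.map (CommRingCat.ofHom (homD (D a))) (closedPoint (DualNumber K)) =
          closedPoint (P.left.presheaf.stalk p) from IsLocalRing.comap_closedPoint _]
        exact Scheme.fromSpecStalk_closedPoint
    obtain ⟨A, hA, hγ⟩ := exists_ring halg _ hcp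
    have hL : ∀ (L : K × K →ₗ[K] K) a', pull (muL (XK f K) L) c = β a' →
        ∀ r, (D a' r) = L (A r).snd := fun L a' h r => by
      have h1 := psi_muL L hP c
      rw [h, ← hD a', ← hγ] at h1
      exact ((congrArg TrivSqZeroExt.snd (RingHom.congr_fun (eq_map halg L h1.symm) r)).symm.trans
        (TrivSqZeroExt.snd_map _ _))
    refine Derivation.ext fun r => ?_
    rw [Derivation.coe_add, Pi.add_apply, hL _ _ k3, hL _ _ k1, hL _ _ k2]
    rfl
  refine ⟨{ toFun := D, map_add' := had, map_smul' := hsm }, ?_, fun x hx D' hD' => ?_⟩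
  · rw [injective_iff_map_eq_zero]
    intro a ha
    replace ha : D a = 0 := ha
    have h0 : D 0 = 0 := by simpa using hsm 0 0
    have hb0 : β 0 = 1 := by
      have h := hadd 0 0
      rw [add_zero] at h
      exact mul_left_cancel ((mul_one _).trans h).symm
    apply hinj
    rw [hb0]
    exact psi_eq_one hP (by rw [← hD a, ha, ← h0, hD 0, hb0])
  · obtain ⟨a, rfl⟩ := (hker x).1 hx
    exact ⟨a, hdet ((hD a).trans hD'.symm)⟩

omit he in
/-- **Tangent vectors come from cohomology after algebraic closure.** -/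
theorem exists_class [IsAlgClosed K] [Algebra (P.left.presheaf.stalk p) k]
    [IsScalarTower k (P.left.presheaf.stalk p) k]
    (hK : algebraMap (P.left.presheaf.stalk p) K = (algebraMap k K).comp (algebraMap (P.left.presheaf.stalk p) k))
    (he : Spec.map (CommRingCat.ofHom (algebraMap (P.left.presheaf.stalk p) K)) ≫ P.left.fromSpecStalk p =
      (φ (S0 k K) (1 : PicLoc.PicSet (XK f K)).1).left)
    (D : Derivation k (P.left.presheaf.stalk p) k) :
    ∃ (x : PicLoc.PicSet (Xε K (XK f K))) (D' : Derivation k (P.left.presheaf.stalk p) K),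
      pull (sect K (XK f K)) x = 1 ∧ ptV halg (homD D') (homD_algebraMap D') = psi f K φ x ∧
        ∀ r, D' r = algebraMap k K (D r) := by
  let γ : Over.mk (dnMap k) ⟶ P := HomTan.pt (V := k) halg (QuotInf.derHom D) (QuotInf.derHom_algebraMap D)
  obtain ⟨ι, U, hU, hc⟩ := hP.locallySurjective (Over.mk (dnMap k)) γ
  obtain ⟨i, u₀, -⟩ := hU (closedPoint (DualNumber k))
  haveI : Etale (U i).hom := (U i).prop
  let gU : (U i).left ⟶ Spec (CommRingCat.of k) := (U i).hom ≫ dnMap k
  haveI : LocallyOfFiniteType (dnMap k) := by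
    rw [HasRingHomProperty.Spec_iff (P := @LocallyOfFiniteType)]
    haveI : Module.Finite k (DualNumber k) := Module.Finite.prod
    exact RingHom.FiniteType.of_finite (RingHom.finite_algebraMap.2 inferInstance)
  haveI : LocallyOfFiniteType gU := inferInstance
  let Q := pullback gU (gK k K)
  haveI : LocallyOfFiniteType (pullback.snd gU (gK k K)) := MorphismProperty.pullback_snd _ _ inferInstance
  haveI : Surjective (gK k K) := ⟨fun z => ⟨closedPoint K, Subsingleton.elim (α := PrimeSpectrum k) _ _⟩⟩
  haveI : JacobsonSpace Q := LocallyOfFiniteType.jacobsonSpace (pullback.snd gU (gK k K))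
  obtain ⟨q, -⟩ : ∃ q : Q, pullback.fst gU (gK k K) q = u₀ := (pullback.fst gU (gK k K)).surjective u₀
  obtain ⟨q', -, hq'⟩ := nonempty_inter_closedPoints (X := Q) (Z := Set.univ) ⟨q, trivial⟩ isOpen_univ.isLocallyClosed
  let pt : Spec (CommRingCat.of K) ⟶ (U i).left :=
    pointOfClosedPoint (pullback.snd gU (gK k K)) q' hq' ≫ pullback.fst gU (gK k K)
  have hpt : pt ≫ gU = gK k K := by
    rw [Category.assoc, pullback.condition, ← Category.assoc, pointOfClosedPoint_comp, Category.id_comp]
  let ι₁ : DualNumber k →+* TrivSqZeroExt K K :=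
    { toFun := fun z => (algebraMap k K z.fst, algebraMap k K z.snd)
      map_one' := TrivSqZeroExt.ext (map_one _) (map_zero _)
      map_zero' := TrivSqZeroExt.ext (map_zero _) (map_zero _)
      map_add' := fun x y => TrivSqZeroExt.ext (map_add _ _ _) (map_add _ _ _)
      map_mul' := fun x y => TrivSqZeroExt.ext (map_mul _ _ _) (by
        show algebraMap k K (x.fst * y.snd + x.snd * y.fst) =
          algebraMap k K x.fst * algebraMap k K y.snd + algebraMap k K x.snd * algebraMap k K y.fst
        rw [map_add, map_mul, map_mul]) }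
  have hcomm : Spec.map (CommRingCat.ofHom (TrivSqZeroExt.fstHom K K K).toRingHom) ≫
      Spec.map (CommRingCat.ofHom ι₁) = pt ≫ (U i).hom := by
    obtain ⟨a, ha⟩ := Spec.map_surjective (pt ≫ (U i).hom)
    rw [← Spec.map_comp, ← ha]
    congr 1
    have h1 : CommRingCat.ofHom (algebraMap k (DualNumber k)) ≫ a = CommRingCat.ofHom (algebraMap k K) :=
      Spec.map_injective (by rw [Spec.map_comp, ha, Category.assoc]; exact hpt)
    refine CommRingCat.hom_ext (RingHom.ext fun z => ?_)
    show algebraMap k K z.fst = a.hom z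
    have hε : a.hom DualNumber.eps = 0 := by
      have h2 : a.hom DualNumber.eps * a.hom DualNumber.eps = 0 := by
        rw [← map_mul, DualNumber.eps_mul_eps, map_zero]
      exact mul_self_eq_zero.1 h2
    have hz : z = algebraMap k (DualNumber k) z.fst + algebraMap k (DualNumber k) z.snd * DualNumber.eps :=
      TrivSqZeroExt.ext (by simp [TrivSqZeroExt.algebraMap_eq_inl]) (by simp [TrivSqZeroExt.algebraMap_eq_inl])
    conv_rhs => rw [hz, map_add, map_mul, hε, mul_zero, add_zero]
    exact congr(($h1).hom z.fst).symm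
  have hsq : RingHom.ker (TrivSqZeroExt.fstHom K K K).toRingHom ^ 2 = ⊥ := by
    rw [pow_two, eq_bot_iff, Ideal.mul_le]
    intro x hx y hy
    exact TrivSqZeroExt.ext (by simp [show x.fst = 0 from hx]) (by simp [show x.fst = 0 from hx, show y.fst = 0 from hy])
  obtain ⟨h, hh₁, hh₂⟩ := InfLift.exists_lift_of_smooth (U i).hom (TrivSqZeroExt.fstHom K K K).toRingHom
    (fun z => ⟨TrivSqZeroExt.inl z, rfl⟩) hsq pt (Spec.map (CommRingCat.ofHom ι₁)) hcomm
  let gc : SV k K K ⟶ PicRel.ovr (Over.mk (dnMap k)) (U i) := Over.homMk h (by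
    show h ≫ (U i).hom ≫ Spec.map _ = Spec.map _ ≫ Spec.map _
    rw [reassoc_of% hh₂, ← Spec.map_comp, ← Spec.map_comp]
    congr 1
    refine CommRingCat.hom_ext (RingHom.ext fun c => TrivSqZeroExt.ext rfl ?_)
    show algebraMap k K (0 : k) = 0
    exact map_zero _)
  obtain ⟨c, hci, hφc⟩ := hc i
  let y : PicLoc.PicSet (Xε K (XK f K)) :=
    pull (jT f K K).inv (pull (PicF.XTmap f gc) ⟨c, hci⟩)
  let D' : Derivation k (P.left.presheaf.stalk p) K := Derivation.mk'
    ((Algebra.linearMap k K).comp D.toLinearMap) fun a b => by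
      show algebraMap k K (D (a * b)) = a • algebraMap k K (D b) + b • algebraMap k K (D a)
      rw [D.leibniz, map_add, Algebra.smul_def a (D b), Algebra.smul_def b (D a), Algebra.smul_def a, Algebra.smul_def b,
        map_mul, map_mul, hK]
      rfl
  have hy : psi f K φ y = ptV halg (homD D') (homD_algebraMap D') := by
    show φ _ (pull (jT f K K).hom (pull (jT f K K).inv (pull (PicF.XTmap f gc) ⟨c, hci⟩))).1 = _
    rw [pull_pull (jT f K K).hom, Iso.hom_inv_id]
    refine (congrArg (fun z : PicLoc.PicSet _ => φ _ z.1) (PicGrp.pullHom_id_apply _ _)).trans ?_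
    rw [nat_pull hP, hφc]
    refine Over.OverMorphism.ext ?_
    show h ≫ (U i).hom ≫ Spec.map _ ≫ P.left.fromSpecStalk p = Spec.map _ ≫ P.left.fromSpecStalk p
    rw [reassoc_of% hh₂, ← Spec.map_comp_assoc]
    congr 2
    exact CommRingCat.hom_ext (RingHom.ext fun r => TrivSqZeroExt.ext
      (RingHom.congr_fun hK r).symm rfl)
  refine ⟨y, D', ?_, hy.symm, fun r => rfl⟩
  refine eq_one_S0 hP ?_
  rw [← dn0_psi hP, hy]
  exact dn0_ptV halg hP he D'

end Groth.Agent.PicInf

end
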